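import Mathlib
import Cfsg.Agent.Lib.Helper47.Frat
import Cfsg.Agent.Lib.Helper63.PFrattini
import Cfsg.Agent.Lib.Helper87.StabChain
import Cfsg.Agent.Lib.Helper70.Frattini

/-!
# Finite abelian `p`-groups: Frattini subgroup, flag stabilizers, automorphisms of order `p`

Pure group theory used for abelian essential subgroups of rank two.
-/

set_option autoImplicit false

namespace Cfsg.Agent.Lib.Helper88.Rank2

variable {P : Type*} [CommGroup P]

/-- The subgroup of `m`-th powers. -/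
def powSub (P : Type*) [CommGroup P] (m : ℕ) : Subgroup P := (powMonoidHom m : P →* P).range

theorem mem_powSub {m : ℕ} {x : P} : x ∈ powSub P m ↔ ∃ y : P, y ^ m = x := Iff.rfl

/-- The subgroup of elements of order dividing `m`. -/
def torSub (P : Type*) [CommGroup P] (m : ℕ) : Subgroup P := (powMonoidHom m : P →* P).ker

theorem mem_torSub {m : ℕ} {x : P} : x ∈ torSub P m ↔ x ^ m = 1 := Iff.rfl

theorem powSub_char (m : ℕ) (τ : MulAut P) {x : P} (hx : x ∈ powSub P m) : τ x ∈ powSub P m := by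
  obtain ⟨y, rfl⟩ := hx
  exact ⟨τ y, (map_pow τ y m).symm⟩

theorem torSub_char (m : ℕ) (τ : MulAut P) {x : P} (hx : x ∈ torSub P m) : τ x ∈ torSub P m := by
  rw [mem_torSub] at hx ⊢
  rw [← map_pow, hx, map_one]

theorem frattini_eq [Finite P] {p : ℕ} [Fact p.Prime] (hP : IsPGroup p P) :
    frattini P = powSub P p := by
  apply le_antisymm
  · apply Cfsg.Agent.Lib.Helper47.Frat.frattini_le_of_pow_comm (p := p) (powSub P p)
      (fun x => ⟨x, rfl⟩)
    rw [_root_.commutator, Subgroup.commutator_le]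
    intro a _ b _
    rw [commutatorElement_def, mul_comm a b, mul_inv_cancel_right, mul_inv_cancel]
    exact Subgroup.one_mem _
  · rintro _ ⟨y, rfl⟩
    exact Cfsg.Agent.Lib.Helper63.PFrattini.pow_mem_frattini hP y

theorem frattini_char [Finite P] {p : ℕ} [Fact p.Prime] (hP : IsPGroup p P) (τ : MulAut P) {x : P}
    (hx : x ∈ frattini P) : τ x ∈ frattini P := by
  rw [frattini_eq hP] at hx ⊢
  exact powSub_char p τ hx

/-- The stabilizer of the flag `⊤ ≥ M ≥ N`. -/
def flagStab (M N : Subgroup P) (hM : ∀ τ : MulAut P, ∀ x ∈ M, τ x ∈ M)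
    (hN : ∀ τ : MulAut P, ∀ x ∈ N, τ x ∈ N) : Subgroup (MulAut P) where
  carrier := {τ | (∀ x, τ x * x⁻¹ ∈ M) ∧ ∀ x ∈ M, τ x * x⁻¹ ∈ N}
  one_mem' := ⟨fun x => by simp, fun x _ => by simp⟩
  mul_mem' := by
    rintro a b ⟨ha1, ha2⟩ ⟨hb1, hb2⟩
    refine ⟨fun x => ?_, fun x hx => ?_⟩
    · have h := M.mul_mem (ha1 (b x)) (hb1 x)
      have e : a (b x) * (b x)⁻¹ * (b x * x⁻¹) = (a * b) x * x⁻¹ := by
        rw [MulAut.mul_apply]; group
      rwa [e] at h
    · have h := N.mul_mem (ha2 (b x) (hM b x hx)) (hb2 x hx)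
      have e : a (b x) * (b x)⁻¹ * (b x * x⁻¹) = (a * b) x * x⁻¹ := by
        rw [MulAut.mul_apply]; group
      rwa [e] at h
  inv_mem' := by
    rintro a ⟨ha1, ha2⟩
    refine ⟨fun x => ?_, fun x hx => ?_⟩
    · have h := M.inv_mem (ha1 (a⁻¹ x))
      have e : (a (a⁻¹ x) * (a⁻¹ x)⁻¹)⁻¹ = a⁻¹ x * x⁻¹ := by
        rw [MulAut.apply_inv_self]; group
      rwa [e] at h
    · have h := N.inv_mem (ha2 (a⁻¹ x) (hM a⁻¹ x hx))
      have e : (a (a⁻¹ x) * (a⁻¹ x)⁻¹)⁻¹ = a⁻¹ x * x⁻¹ := by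
        rw [MulAut.apply_inv_self]; group
      rwa [e] at h

theorem mem_flagStab {M N : Subgroup P} {hM : ∀ τ : MulAut P, ∀ x ∈ M, τ x ∈ M}
    {hN : ∀ τ : MulAut P, ∀ x ∈ N, τ x ∈ N} {τ : MulAut P} :
    τ ∈ flagStab M N hM hN ↔ (∀ x, τ x * x⁻¹ ∈ M) ∧ ∀ x ∈ M, τ x * x⁻¹ ∈ N := Iff.rfl

theorem flagStab_conj {M N : Subgroup P} {hM : ∀ τ : MulAut P, ∀ x ∈ M, τ x ∈ M}
    {hN : ∀ τ : MulAut P, ∀ x ∈ N, τ x ∈ N} (γ : MulAut P) {τ : MulAut P}
    (hτ : τ ∈ flagStab M N hM hN) : γ * τ * γ⁻¹ ∈ flagStab M N hM hN := by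
  obtain ⟨h1, h2⟩ := hτ
  refine ⟨fun x => ?_, fun x hx => ?_⟩
  · have h := hM γ _ (h1 (γ⁻¹ x))
    have e : γ (τ (γ⁻¹ x) * (γ⁻¹ x)⁻¹) = (γ * τ * γ⁻¹) x * x⁻¹ := by
      rw [map_mul, map_inv, MulAut.apply_inv_self]; rfl
    rwa [e] at h
  · have h := hN γ _ (h2 (γ⁻¹ x) (hM γ⁻¹ x hx))
    have e : γ (τ (γ⁻¹ x) * (γ⁻¹ x)⁻¹) = (γ * τ * γ⁻¹) x * x⁻¹ := by
      rw [map_mul, map_inv, MulAut.apply_inv_self]; rfl
    rwa [e] at h

/-- The stabilizer of a characteristic flag `⊤ ≥ M ≥ Φ(P)` is a `p`-group. -/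
theorem flagStab_isPGroup [Finite P] {p : ℕ} [Fact p.Prime] (hP : IsPGroup p P) (M : Subgroup P)
    (hM : ∀ τ : MulAut P, ∀ x ∈ M, τ x ∈ M) :
    IsPGroup p (flagStab M (frattini P) hM (fun τ _ hx => frattini_char hP τ hx)) := by
  rintro ⟨τ, h1, h2⟩
  let B : ℕ → Subgroup P := fun j => if j = 0 then ⊤ else M
  let D : ℕ → Subgroup P := fun i => (B (i % 2)).map (powMonoidHom (p ^ (i / 2)) : P →* P)
  have hBchar : ∀ j, ∀ x ∈ B j, τ x ∈ B j := by
    intro j x hx
    by_cases hj : j = 0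
    · simp only [B, hj, if_true]; trivial
    · simp only [B, hj, if_false] at hx ⊢; exact hM τ x hx
  have hinv : ∀ i, ∀ x ∈ D i, τ x ∈ D i := by
    rintro i _ ⟨b, hb, rfl⟩
    exact ⟨τ b, hBchar _ b hb, (map_pow τ b _).symm⟩
  have hstep : ∀ i, ∀ x ∈ D i, x⁻¹ * τ x ∈ D (i + 1) := by
    rintro i _ ⟨b, hb, rfl⟩
    have e0 : ((powMonoidHom (p ^ (i / 2)) : P →* P) b)⁻¹ * τ ((powMonoidHom (p ^ (i / 2)) : P →* P) b)
        = (τ b * b⁻¹) ^ (p ^ (i / 2)) := by
      simp only [powMonoidHom_apply]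
      rw [map_pow, mul_pow, inv_pow, mul_comm]
    rw [e0]
    rcases Nat.mod_two_eq_zero_or_one i with hi | hi
    · have h1' : (i + 1) % 2 = 1 := by omega
      have h2' : (i + 1) / 2 = i / 2 := by omega
      refine ⟨τ b * b⁻¹, ?_, ?_⟩
      · simp only [B, h1']; exact h1 b
      · rw [h2']; rfl
    · have h1' : (i + 1) % 2 = 0 := by omega
      have h2' : (i + 1) / 2 = i / 2 + 1 := by omega
      have hbM : b ∈ M := by simpa [B, hi] using hb
      have h3 := h2 b hbM
      rw [frattini_eq hP] at h3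
      obtain ⟨v, hv⟩ := h3
      refine ⟨v, ?_, ?_⟩
      · simp only [B, h1', if_true]; trivial
      · rw [h2', ← hv]
        simp only [powMonoidHom_apply]
        rw [← pow_mul, pow_succ']
  have h0 : D 0 = ⊤ := by
    simp only [D, B]
    rw [eq_top_iff]
    intro x _
    exact ⟨x, trivial, by simp⟩
  obtain ⟨n, hn⟩ := IsPGroup.iff_card.mp hP
  have hDn : D (2 * n) = ⊥ := by
    have e1 : (2 * n) % 2 = 0 := by omega
    have e2 : (2 * n) / 2 = n := by omega
    simp only [D, e1, e2]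
    rw [eq_bot_iff]
    rintro _ ⟨b, -, rfl⟩
    simp only [powMonoidHom_apply, Subgroup.mem_bot]
    rw [← hn]
    exact pow_card_eq_one'
  obtain ⟨k, hk⟩ := Cfsg.Agent.Lib.Helper87.StabChain.exists_pow_eq_one hP τ D hinv hstep h0
    (2 * n) hDn
  exact ⟨k, Subtype.ext hk⟩

/-- Subgroup indices in a `p`-group are powers of `p`. -/
theorem index_eq_pow [Finite P] {p : ℕ} [Fact p.Prime] (hP : IsPGroup p P) (N : Subgroup P) :
    ∃ j : ℕ, N.index = p ^ j := by
  obtain ⟨n, hn⟩ := IsPGroup.iff_card.mp hP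
  have h := N.index_dvd_card
  rw [hn] at h
  obtain ⟨j, -, hj⟩ := (Nat.dvd_prime_pow (Fact.out : p.Prime)).mp h
  exact ⟨j, hj⟩

theorem relIndex_eq_pow [Finite P] {p : ℕ} [Fact p.Prime] (hP : IsPGroup p P) (N T : Subgroup P) :
    ∃ j : ℕ, N.relIndex T = p ^ j := by
  obtain ⟨n, hn⟩ := IsPGroup.iff_card.mp hP
  have h : N.relIndex T ∣ Nat.card P := (Subgroup.relIndex_dvd_card N T).trans (Subgroup.card_subgroup_dvd_card T)
  rw [hn] at h
  obtain ⟨j, -, hj⟩ := (Nat.dvd_prime_pow (Fact.out : p.Prime)).mp h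
  exact ⟨j, hj⟩

/-- A chain `N < T < ⊤` with `N` of index at most `p²` has both steps of index `p`. -/
theorem index_of_lt [Finite P] {p : ℕ} [Fact p.Prime] (hP : IsPGroup p P) {N T : Subgroup P}
    (h1 : N < T) (h2 : T ≠ ⊤) (hN : N.index ≤ p ^ 2) :
    T.index = p ∧ N.relIndex T = p ∧ N.index = p ^ 2 := by
  have hp : p.Prime := Fact.out
  obtain ⟨a, ha⟩ := index_eq_pow hP T
  obtain ⟨b, hb⟩ := relIndex_eq_pow hP N T
  have hmul := Subgroup.relIndex_mul_index h1.le
  have ha0 : a ≠ 0 := by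
    rintro rfl
    rw [pow_zero] at ha
    exact h2 (Subgroup.index_eq_one.mp ha)
  have hb0 : b ≠ 0 := by
    rintro rfl
    rw [pow_zero] at hb
    exact (not_le_of_gt h1) (Subgroup.relIndex_eq_one.mp hb)
  rw [ha, hb, ← pow_add] at hmul
  rw [← hmul] at hN
  have hle : b + a ≤ 2 := (Nat.pow_le_pow_iff_right hp.one_lt).mp hN
  have ha1 : a = 1 := by omega
  have hb1 : b = 1 := by omega
  subst ha1 hb1
  refine ⟨by rw [ha, pow_one], by rw [hb, pow_one], hmul.symm⟩

/-- An automorphism of order dividing `p` fixes a nontrivial coset of any proper invariant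
subgroup. -/
theorem exists_fixed_mod [Finite P] {p : ℕ} [Fact p.Prime] (hP : IsPGroup p P) (σ : MulAut P)
    (hσ : σ ^ p = 1) (N : Subgroup P) (hN : ∀ x, σ x ∈ N ↔ x ∈ N) (hNt : N ≠ ⊤) :
    ∃ y, y ∉ N ∧ σ y * y⁻¹ ∈ N := by
  have hp : p.Prime := Fact.out
  have hmap : N.map (σ : P →* P) = N := by
    ext x
    constructor
    · rintro ⟨y, hy, rfl⟩
      exact (hN y).mpr hy
    · intro hx
      refine ⟨σ⁻¹ x, (hN _).mp ?_, ?_⟩
      · rw [MulAut.apply_inv_self]; exact hx
      · show σ (σ⁻¹ x) = x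
        rw [MulAut.apply_inv_self]
  let f : MulAut (P ⧸ N) := QuotientGroup.congr N N σ hmap
  have hf1 : ∀ x : P, f (QuotientGroup.mk x) = QuotientGroup.mk (σ x) := fun x => rfl
  have hf : ∀ (n : ℕ) (x : P), (f ^ n) (QuotientGroup.mk x) = QuotientGroup.mk ((σ ^ n) x) := by
    intro n
    induction n with
    | zero => intro x; simp
    | succ n ih =>
      intro x
      rw [pow_succ, MulAut.mul_apply, pow_succ, MulAut.mul_apply, hf1, ih]
  have hfp : f ^ p = 1 := by
    ext q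
    induction q using QuotientGroup.induction_on with
    | _ x => rw [hf, hσ]; rfl
  have hG : IsPGroup p (Subgroup.zpowers f) := by
    rintro ⟨g, hg⟩
    refine ⟨1, Subtype.ext ?_⟩
    obtain ⟨k, rfl⟩ := hg
    show (f ^ k) ^ p ^ 1 = 1
    rw [pow_one, ← zpow_natCast, ← zpow_mul, mul_comm, zpow_mul, zpow_natCast, hfp, one_zpow]
  have hdvd : p ∣ Nat.card (P ⧸ N) := by
    obtain ⟨j, hj⟩ := index_eq_pow hP N
    have hj0 : j ≠ 0 := by
      rintro rfl
      rw [pow_zero] at hj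
      exact hNt (Subgroup.index_eq_one.mp hj)
    show p ∣ N.index
    rw [hj]
    exact dvd_pow_self p hj0
  have h1 : (1 : P ⧸ N) ∈ MulAction.fixedPoints (Subgroup.zpowers f) (P ⧸ N) := by
    intro g
    show (g : MulAut (P ⧸ N)) 1 = 1
    exact map_one _
  obtain ⟨b, hb, hne⟩ := hG.exists_fixed_point_of_prime_dvd_card_of_fixed_point (P ⧸ N) hdvd h1
  induction b using QuotientGroup.induction_on with
  | _ y =>
    refine ⟨y, ?_, ?_⟩
    · intro hy
      apply hne
      exact ((QuotientGroup.eq_one_iff y).mpr hy).symm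
    · have h2 : f (QuotientGroup.mk y) = QuotientGroup.mk y := hb ⟨f, Subgroup.mem_zpowers f⟩
      rw [hf1, QuotientGroup.eq] at h2
      have h3 := N.inv_mem h2
      have e : ((σ y)⁻¹ * y)⁻¹ = σ y * y⁻¹ := by rw [mul_inv_rev, inv_inv, mul_comm]
      rwa [e] at h3

/-- If moreover the invariant subgroup has index `p`, the automorphism acts trivially on the
quotient. -/
theorem forall_mem_of_index [Finite P] {p : ℕ} [Fact p.Prime] (hP : IsPGroup p P) (σ : MulAut P)
    (hσ : σ ^ p = 1) (N : Subgroup P) (hN : ∀ x, σ x ∈ N ↔ x ∈ N) (hidx : N.index = p) :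
    ∀ x, σ x * x⁻¹ ∈ N := by
  have hp : p.Prime := Fact.out
  have hNt : N ≠ ⊤ := by
    intro h
    rw [h, Subgroup.index_top] at hidx
    exact hp.one_lt.ne hidx
  obtain ⟨y, hyN, hy⟩ := exists_fixed_mod hP σ hσ N hN hNt
  let E : P →* P := (σ : P →* P) * (MonoidHom.id P)⁻¹
  have hE : ∀ x, E x = σ x * x⁻¹ := fun x => rfl
  have hNT : N ≤ N.comap E := by
    intro x hx
    show E x ∈ N
    rw [hE]
    exact N.mul_mem ((hN x).mpr hx) (N.inv_mem hx)
  have hdvd := Subgroup.index_dvd_of_le hNT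
  rw [hidx] at hdvd
  rcases (Nat.dvd_prime hp).mp hdvd with h | h
  · have htop := Subgroup.index_eq_one.mp h
    intro x
    have : x ∈ N.comap E := by rw [htop]; trivial
    exact this
  · exfalso
    have hmul := Subgroup.relIndex_mul_index hNT
    rw [h, hidx] at hmul
    have h1 : N.relIndex (N.comap E) = 1 := by
      have := hp.pos
      exact Nat.eq_of_mul_eq_mul_right this (by rw [hmul, one_mul])
    have hle := Subgroup.relIndex_eq_one.mp h1
    exact hyN (hle hy)

theorem end_sum_apply {A : Type*} [AddCommGroup A] {ι : Type*} (t : Finset ι)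
    (f : ι → AddMonoid.End A) (a : A) : (∑ i ∈ t, f i) a = ∑ i ∈ t, f i a := by
  classical
  induction t using Finset.induction_on with
  | empty => rfl
  | insert i t hi ih =>
    rw [Finset.sum_insert hi, Finset.sum_insert hi, ← ih]
    rfl

/-- The binomial computation: an endomorphism `s = 1 + e` of order dividing `p ≥ 5` with
`e² ≡ 0` modulo `p` has `p e ≡ 0` modulo `p²`. -/
theorem add_core {A : Type*} [AddCommGroup A] (s : AddMonoid.End A) (n : ℕ) (hp : (n + 5).Prime)
    (hs : s ^ (n + 5) = 1)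
    (h2 : ∀ a : A, ∃ z : A, (n + 5) • z = s (s a - a) - (s a - a)) :
    ∀ a : A, ∃ z : A, ((n + 5) * (n + 5)) • z = (n + 5) • (s a - a) := by
  set p := n + 5 with hpdef
  set e : AddMonoid.End A := s - 1 with he
  have hse : e + 1 = s := by rw [he]; exact sub_add_cancel s 1
  have he_apply : ∀ a, e a = s a - a := fun a => rfl
  have h2' : ∀ a, ∃ z, p • z = e (e a) := by
    intro a
    obtain ⟨z, hz⟩ := h2 a
    exact ⟨z, by rw [hz, he_apply, he_apply]⟩
  have hD1 : ∀ (m : ℕ) (a : A), ∃ z, p • z = (e ^ (m + 2)) a := by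
    intro m
    induction m with
    | zero =>
      intro a
      obtain ⟨z, hz⟩ := h2' a
      exact ⟨z, by rw [hz]; rfl⟩
    | succ m ih =>
      intro a
      obtain ⟨z, hz⟩ := ih a
      refine ⟨e z, ?_⟩
      have : (e ^ (m + 1 + 2)) a = e ((e ^ (m + 2)) a) := by
        rw [pow_succ' e (m + 2)]; rfl
      rw [this, ← hz, map_nsmul]
  have hD2 : ∀ (m : ℕ) (a : A), ∃ z, (p * p) • z = (e ^ (m + 4)) a := by
    intro m
    induction m with
    | zero =>
      intro a
      obtain ⟨z, hz⟩ := h2' a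
      obtain ⟨z', hz'⟩ := h2' z
      refine ⟨z', ?_⟩
      have : (e ^ (0 + 4)) a = e (e (e (e a))) := rfl
      rw [this, ← hz, map_nsmul, map_nsmul, ← hz', mul_nsmul]
    | succ m ih =>
      intro a
      obtain ⟨z, hz⟩ := ih a
      refine ⟨e z, ?_⟩
      have : (e ^ (m + 1 + 4)) a = e ((e ^ (m + 4)) a) := by
        rw [pow_succ' e (m + 4)]; rfl
      rw [this, ← hz, map_nsmul]
  intro a
  let D : AddSubgroup A := (nsmulAddMonoidHom (p * p) : A →+ A).range
  have hDmem : ∀ y : A, y ∈ D ↔ ∃ z, (p * p) • z = y := fun y => Iff.rfl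
  have hpow : (e + 1) ^ p = ∑ m ∈ Finset.range (p + 1), e ^ m * 1 ^ (p - m) * (p.choose m : AddMonoid.End A) :=
    Commute.add_pow (Commute.one_right e) p
  rw [hse, hs] at hpow
  have hpow' : a = ∑ m ∈ Finset.range (p + 1), (p.choose m) • (e ^ m) a := by
    have h := congrArg (fun f : AddMonoid.End A => f a) hpow
    simp only [AddMonoid.End.coe_one, id_eq] at h
    refine h.trans ?_
    rw [end_sum_apply]
    apply Finset.sum_congr rfl
    intro m _
    rw [one_pow, mul_one]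
    show (e ^ m) ((p.choose m : AddMonoid.End A) a) = _
    rw [AddMonoid.End.natCast_apply, map_nsmul]
  have hsplit : ∑ m ∈ Finset.range (p + 1), (p.choose m) • (e ^ m) a =
      ∑ m ∈ Finset.range (n + 4), (p.choose (m + 2)) • (e ^ (m + 2)) a + p • e a + a := by
    have hp6 : p + 1 = n + 4 + 1 + 1 := by omega
    rw [hp6, Finset.sum_range_succ', Finset.sum_range_succ']
    simp only [zero_add, Nat.choose_zero_right, pow_zero, one_smul, Nat.choose_one_right, pow_one]
    rfl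
  have hS : ∑ m ∈ Finset.range (n + 4), (p.choose (m + 2)) • (e ^ (m + 2)) a ∈ D := by
    apply AddSubgroup.sum_mem
    intro m hm
    rw [Finset.mem_range] at hm
    rw [hDmem]
    by_cases hlt : m + 2 < p
    · have hdvd : p ∣ p.choose (m + 2) := hp.dvd_choose_self (by omega) hlt
      obtain ⟨c, hc⟩ := hdvd
      obtain ⟨z, hz⟩ := hD1 m a
      refine ⟨c • z, ?_⟩
      rw [hc, ← hz, ← mul_nsmul, ← mul_nsmul]
      congr 1
      ring
    · have hm' : m + 2 = p := by omega
      have hm'' : m = (n + 1) + 2 := by omega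
      obtain ⟨z, hz⟩ := hD2 (n + 1) a
      refine ⟨z, ?_⟩
      rw [hm', Nat.choose_self, one_smul, hz]
  rw [hsplit] at hpow'
  have hfin : p • e a = -(∑ m ∈ Finset.range (n + 4), (p.choose (m + 2)) • (e ^ (m + 2)) a) := by
    have h3 : ∑ m ∈ Finset.range (n + 4), (p.choose (m + 2)) • (e ^ (m + 2)) a + p • e a = 0 := by
      have := hpow'
      have h4 : (∑ m ∈ Finset.range (n + 4), (p.choose (m + 2)) • (e ^ (m + 2)) a + p • e a) + a = 0 + a := by
        rw [zero_add]; exact this.symm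
      exact add_right_cancel h4
    exact eq_neg_of_add_eq_zero_right h3
  have hmem : p • e a ∈ D := by
    rw [hfin]
    exact D.neg_mem hS
  rw [hDmem] at hmem
  obtain ⟨z, hz⟩ := hmem
  exact ⟨z, by rw [hz, he_apply]⟩

/-- Multiplicative form of `add_core`. -/
theorem pow_E_mem (σ : MulAut P) (n : ℕ) (hp : (n + 5).Prime) (hσ : σ ^ (n + 5) = 1)
    (h2 : ∀ x : P, ∃ z : P, z ^ (n + 5) = σ (σ x * x⁻¹) * (σ x * x⁻¹)⁻¹) :
    ∀ x : P, ∃ z : P, z ^ ((n + 5) * (n + 5)) = (σ x * x⁻¹) ^ (n + 5) := by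
  let s : AddMonoid.End (Additive P) := MonoidHom.toAdditive (σ : P →* P)
  have hs_pow : ∀ (k : ℕ) (a : Additive P), (s ^ k) a = Additive.ofMul ((σ ^ k) (Additive.toMul a)) := by
    intro k
    induction k with
    | zero => intro a; rw [pow_zero, pow_zero]; rfl
    | succ k ih =>
      intro a
      rw [pow_succ, pow_succ]
      show (s ^ k) (s a) = Additive.ofMul ((σ ^ k) (σ (Additive.toMul a)))
      rw [ih]
      rfl
  have hs : s ^ (n + 5) = 1 := by
    ext a
    rw [hs_pow, hσ]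
    rfl
  have h2' : ∀ a : Additive P, ∃ z : Additive P, (n + 5) • z = s (s a - a) - (s a - a) := by
    intro a
    obtain ⟨z, hz⟩ := h2 (Additive.toMul a)
    refine ⟨Additive.ofMul z, ?_⟩
    change Additive.ofMul (z ^ (n + 5)) = Additive.ofMul
      (σ (σ (Additive.toMul a) / (Additive.toMul a)) / (σ (Additive.toMul a) / (Additive.toMul a)))
    rw [hz, div_eq_mul_inv, div_eq_mul_inv]
  intro x
  obtain ⟨z, hz⟩ := add_core s n hp hs h2' (Additive.ofMul x)
  refine ⟨Additive.toMul z, ?_⟩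
  have h3 : Additive.ofMul ((Additive.toMul z) ^ ((n + 5) * (n + 5))) =
      Additive.ofMul ((σ x / x) ^ (n + 5)) := hz
  have h4 := Additive.ofMul.injective h3
  rw [h4, div_eq_mul_inv]

/-- Automorphisms of a cyclic group commute. -/
theorem aut_comm_of_cyclic {Q : Type*} [Group Q] [IsCyclic Q] (α β : MulAut Q) :
    α * β = β * α := by
  apply (IsCyclic.mulAutMulEquiv (G := Q)).injective
  rw [map_mul, map_mul, mul_comm]

theorem sup_char {M N : Subgroup P} (hM : ∀ τ : MulAut P, ∀ x ∈ M, τ x ∈ M)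
    (hN : ∀ τ : MulAut P, ∀ x ∈ N, τ x ∈ N) : ∀ τ : MulAut P, ∀ x ∈ M ⊔ N, τ x ∈ M ⊔ N := by
  intro τ x hx
  have h : M ⊔ N ≤ (M ⊔ N).comap (τ : P →* P) :=
    sup_le (fun y hy => Subgroup.mem_sup_left (hM τ y hy))
      (fun y hy => Subgroup.mem_sup_right (hN τ y hy))
  exact h hx

/-- The homocyclic case. -/
theorem homocyclic [Finite P] {p : ℕ} [Fact p.Prime] (hP : IsPGroup p P)
    (hidx : (frattini P).index = p ^ 2)
    (hflag : ∀ M : Subgroup P, (∀ τ : MulAut P, ∀ x ∈ M, τ x ∈ M) → frattini P < M → M ≠ ⊤ → False)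
    (hnc : ∀ z : P, Subgroup.zpowers z ≠ ⊤) :
    ∃ k : ℕ, Nonempty (P ≃* Multiplicative (ZMod (p ^ k) × ZMod (p ^ k))) := by
  have hp : p.Prime := Fact.out
  have hΦ := frattini_eq hP
  obtain ⟨n, hn⟩ := IsPGroup.iff_card.mp hP
  have hex : ∃ k : ℕ, ∀ x : P, x ^ (p ^ k) = 1 := ⟨n, fun x => by rw [← hn]; exact pow_card_eq_one'⟩
  classical
  let k := Nat.find hex
  have hk : ∀ x : P, x ^ (p ^ k) = 1 := Nat.find_spec hex
  have hk0 : k ≠ 0 := by
    intro h0
    have h1 : ∀ x : P, x = 1 := by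
      intro x
      have := hk x
      rwa [h0, pow_zero, pow_one] at this
    apply hnc 1
    rw [eq_top_iff]
    intro x _
    rw [h1 x]
    exact Subgroup.one_mem _
  obtain ⟨k', hk'⟩ := Nat.exists_eq_succ_of_ne_zero hk0
  have hmin : ¬ ∀ x : P, x ^ (p ^ k') = 1 := Nat.find_min hex (by omega)
  -- elements killed by p^k' lie in the Frattini subgroup
  have hΩ' : torSub P (p ^ k') ≤ frattini P := by
    have hchar : ∀ τ : MulAut P, ∀ x ∈ torSub P (p ^ k') ⊔ frattini P,
        τ x ∈ torSub P (p ^ k') ⊔ frattini P :=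
      sup_char (fun τ x hx => torSub_char _ τ hx) (fun τ x hx => frattini_char hP τ hx)
    have hne : torSub P (p ^ k') ⊔ frattini P ≠ ⊤ := by
      intro h
      have h2 := frattini_nongenerating h
      apply hmin
      intro x
      have : x ∈ torSub P (p ^ k') := by rw [h2]; trivial
      exact this
    have hnlt : ¬ frattini P < torSub P (p ^ k') ⊔ frattini P := fun h => hflag _ hchar h hne
    have heq : torSub P (p ^ k') ⊔ frattini P = frattini P := by
      by_contra hne'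
      exact hnlt (lt_of_le_of_ne le_sup_right (Ne.symm hne'))
    rw [← heq]
    exact le_sup_left
  -- two generators
  have hcardQ : Nat.card (P ⧸ frattini P) = p ^ 2 := hidx
  obtain ⟨xbar, hxbar⟩ := Cfsg.Agent.Lib.Helper70.Frattini.exists_generators (p := p) 2
    (P ⧸ frattini P) hcardQ
  have hsurj := fun i => QuotientGroup.mk_surjective (s := frattini P) (xbar i)
  choose x hx using hsurj
  have hgen : Subgroup.closure (Set.range x) = ⊤ := by
    rw [Cfsg.Agent.Lib.Helper70.Frattini.closure_range_eq_top_iff]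
    have : (fun i => (QuotientGroup.mk (x i) : P ⧸ frattini P)) = xbar := funext hx
    rw [this]
    exact hxbar
  set a := x 0 with ha
  set b := x 1 with hb
  have hrange : ∀ L : Subgroup P, a ∈ L → b ∈ L → L = ⊤ := by
    intro L haL hbL
    rw [eq_top_iff, ← hgen, Subgroup.closure_le]
    rintro _ ⟨i, rfl⟩
    fin_cases i
    · exact haL
    · exact hbL
  have haL : a ∉ frattini P ⊔ Subgroup.zpowers b := by
    intro h
    have h1 := hrange _ h (Subgroup.mem_sup_right (Subgroup.mem_zpowers b))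
    rw [sup_comm] at h1
    exact hnc b (frattini_nongenerating h1)
  have hbL : b ∉ frattini P ⊔ Subgroup.zpowers a := by
    intro h
    have h1 := hrange _ (Subgroup.mem_sup_right (Subgroup.mem_zpowers a)) h
    rw [sup_comm] at h1
    exact hnc a (frattini_nongenerating h1)
  have hpowmem : ∀ z : P, z ^ p ∈ frattini P := fun z => by rw [hΦ]; exact ⟨z, rfl⟩
  -- the key divisibility claim
  have key : ∀ j : ℕ, j ≤ k → ∀ u v : ℕ, a ^ u * b ^ v = 1 → p ^ j ∣ u ∧ p ^ j ∣ v := by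
    intro j
    induction j with
    | zero => intro _ u v _; simp
    | succ j ih =>
      intro hj u v huv
      obtain ⟨⟨u', rfl⟩, ⟨v', rfl⟩⟩ := ih (by omega) u v huv
      have hg : (a ^ u' * b ^ v') ^ (p ^ j) = 1 := by
        rw [mul_pow, ← pow_mul, ← pow_mul, mul_comm u', mul_comm v']
        exact huv
      have hgΩ : a ^ u' * b ^ v' ∈ torSub P (p ^ k') := by
        rw [mem_torSub]
        have hjk : j ≤ k' := by omega
        obtain ⟨d, rfl⟩ := Nat.exists_eq_add_of_le hjk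
        rw [pow_add, pow_mul, hg, one_pow]
      have hgΦ : a ^ u' * b ^ v' ∈ frattini P := hΩ' hgΩ
      have hu : p ∣ u' := by
        by_contra hpu
        have hcop : Nat.Coprime u' p := (Nat.Coprime.symm ((Nat.Prime.coprime_iff_not_dvd hp).mpr hpu))
        have h1 : a ^ u' ∈ frattini P ⊔ Subgroup.zpowers b := by
          have e : a ^ u' = (a ^ u' * b ^ v') * (b ^ v')⁻¹ := by rw [mul_inv_cancel_right]
          rw [e]
          exact Subgroup.mul_mem _ (Subgroup.mem_sup_left hgΦ)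
            (Subgroup.inv_mem _ (Subgroup.mem_sup_right (Subgroup.pow_mem _ (Subgroup.mem_zpowers b) _)))
        have h2 : a ^ p ∈ frattini P ⊔ Subgroup.zpowers b := Subgroup.mem_sup_left (hpowmem a)
        have hbez := Nat.gcd_eq_gcd_ab u' p
        rw [hcop.gcd_eq_one] at hbez
        have h3 : a = (a ^ u') ^ (Nat.gcdA u' p) * (a ^ p) ^ (Nat.gcdB u' p) := by
          rw [← zpow_natCast a u', ← zpow_natCast a p, ← zpow_mul, ← zpow_mul, ← zpow_add, ← hbez]
          simp
        apply haL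
        rw [h3]
        exact Subgroup.mul_mem _ (Subgroup.zpow_mem _ h1 _) (Subgroup.zpow_mem _ h2 _)
      have hv : p ∣ v' := by
        by_contra hpv
        have hcop : Nat.Coprime v' p := (Nat.Coprime.symm ((Nat.Prime.coprime_iff_not_dvd hp).mpr hpv))
        have h1 : b ^ v' ∈ frattini P ⊔ Subgroup.zpowers a := by
          have e : b ^ v' = (a ^ u' * b ^ v') * (a ^ u')⁻¹ := by
            rw [mul_comm (a ^ u'), mul_inv_cancel_right]
          rw [e]
          exact Subgroup.mul_mem _ (Subgroup.mem_sup_left hgΦ)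
            (Subgroup.inv_mem _ (Subgroup.mem_sup_right (Subgroup.pow_mem _ (Subgroup.mem_zpowers a) _)))
        have h2 : b ^ p ∈ frattini P ⊔ Subgroup.zpowers a := Subgroup.mem_sup_left (hpowmem b)
        have hbez := Nat.gcd_eq_gcd_ab v' p
        rw [hcop.gcd_eq_one] at hbez
        have h3 : b = (b ^ v') ^ (Nat.gcdA v' p) * (b ^ p) ^ (Nat.gcdB v' p) := by
          rw [← zpow_natCast b v', ← zpow_natCast b p, ← zpow_mul, ← zpow_mul, ← zpow_add, ← hbez]
          simp
        apply hbL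
        rw [h3]
        exact Subgroup.mul_mem _ (Subgroup.zpow_mem _ h1 _) (Subgroup.zpow_mem _ h2 _)
      obtain ⟨u'', rfl⟩ := hu
      obtain ⟨v'', rfl⟩ := hv
      exact ⟨⟨u'', by rw [pow_succ, mul_assoc]⟩, ⟨v'', by rw [pow_succ, mul_assoc]⟩⟩
  -- the isomorphism
  refine ⟨k, ?_⟩
  haveI : NeZero (p ^ k) := ⟨pow_ne_zero k hp.ne_zero⟩
  have haN : a ^ (p ^ k) = 1 := hk a
  have hbN : b ^ (p ^ k) = 1 := hk b
  let f0 : Multiplicative (ZMod (p ^ k) × ZMod (p ^ k)) → P := fun w =>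
    a ^ (Multiplicative.toAdd w).1.val * b ^ (Multiplicative.toAdd w).2.val
  have hf0 : ∀ w w', f0 (w * w') = f0 w * f0 w' := by
    intro w w'
    show a ^ ((Multiplicative.toAdd w).1 + (Multiplicative.toAdd w').1).val *
        b ^ ((Multiplicative.toAdd w).2 + (Multiplicative.toAdd w').2).val =
      a ^ (Multiplicative.toAdd w).1.val * b ^ (Multiplicative.toAdd w).2.val *
        (a ^ (Multiplicative.toAdd w').1.val * b ^ (Multiplicative.toAdd w').2.val)
    rw [ZMod.val_add, ZMod.val_add, ← pow_eq_pow_mod _ haN, ← pow_eq_pow_mod _ hbN, pow_add, pow_add]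
    rw [mul_mul_mul_comm]
  let f : Multiplicative (ZMod (p ^ k) × ZMod (p ^ k)) →* P := MonoidHom.mk' f0 hf0
  have hinj : Function.Injective f := by
    rw [injective_iff_map_eq_one]
    intro w hw
    have hw' : a ^ (Multiplicative.toAdd w).1.val * b ^ (Multiplicative.toAdd w).2.val = 1 := hw
    obtain ⟨h1, h2⟩ := key k le_rfl _ _ hw'
    have e1 : (Multiplicative.toAdd w).1 = 0 := by
      rw [← ZMod.val_eq_zero]
      exact Nat.eq_zero_of_dvd_of_lt h1 (ZMod.val_lt _)
    have e2 : (Multiplicative.toAdd w).2 = 0 := by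
      rw [← ZMod.val_eq_zero]
      exact Nat.eq_zero_of_dvd_of_lt h2 (ZMod.val_lt _)
    have e3 : Multiplicative.toAdd w = 0 := Prod.ext e1 e2
    exact Multiplicative.toAdd.injective e3
  have hsurjf : Function.Surjective f := by
    rw [← MonoidHom.range_eq_top]
    apply hrange
    · refine ⟨Multiplicative.ofAdd (1, 0), ?_⟩
      show a ^ (1 : ZMod (p ^ k)).val * b ^ (0 : ZMod (p ^ k)).val = a
      rw [ZMod.val_zero, pow_zero, mul_one, ZMod.val_one_eq_one_mod, ← pow_eq_pow_mod _ haN, pow_one]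
    · refine ⟨Multiplicative.ofAdd (0, 1), ?_⟩
      show a ^ (0 : ZMod (p ^ k)).val * b ^ (1 : ZMod (p ^ k)).val = b
      rw [ZMod.val_zero, pow_zero, one_mul, ZMod.val_one_eq_one_mod, ← pow_eq_pow_mod _ hbN, pow_one]
  exact ⟨(MulEquiv.ofBijective f ⟨hinj, hsurjf⟩).symm⟩

/-- The main group-theoretic statement: an abelian `p`-group of rank at most two admitting a group
`A` of automorphisms without nontrivial `A`-invariant `p`-subgroups of automorphisms, but with an
element of order `p`, is elementary abelian of order `p²` or (`p ≤ 3`) homocyclic of rank two. -/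
theorem core [Finite P] {p : ℕ} [Fact p.Prime] (hP : IsPGroup p P)
    (hrk : (frattini P).index ≤ p ^ 2) (A : Subgroup (MulAut P))
    (hA1 : ∀ N : Subgroup (MulAut P), IsPGroup p N → (∀ a ∈ A, ∀ n ∈ N, a * n * a⁻¹ ∈ N) →
      ∀ n ∈ N, n ∈ A → n = 1)
    (σ : MulAut P) (hσA : σ ∈ A) (hσ : orderOf σ = p) :
    ((∀ x : P, x ^ p = 1) ∧ Nat.card P = p ^ 2) ∨
      (p ≤ 3 ∧ ∃ k : ℕ, Nonempty (P ≃* Multiplicative (ZMod (p ^ k) × ZMod (p ^ k)))) := by
  have hp : p.Prime := Fact.out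
  have hσp : σ ^ p = 1 := by rw [← hσ]; exact pow_orderOf_eq_one σ
  have hσ1 : σ ≠ 1 := by
    intro h
    rw [h, orderOf_one] at hσ
    exact hp.one_lt.ne hσ
  have hΦ := frattini_eq hP
  have hΦchar : ∀ τ : MulAut P, ∀ x ∈ frattini P, τ x ∈ frattini P :=
    fun τ x hx => frattini_char hP τ hx
  -- the flag lemma
  have FL : ∀ M : Subgroup P, (∀ τ : MulAut P, ∀ x ∈ M, τ x ∈ M) →
      (∀ x, σ x * x⁻¹ ∈ M) → (∀ x ∈ M, σ x * x⁻¹ ∈ frattini P) → False := by
    intro M hM h1 h2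
    have hmem : σ ∈ flagStab M (frattini P) hM hΦchar := ⟨h1, h2⟩
    exact hσ1 (hA1 _ (flagStab_isPGroup hP M hM) (fun a _ n hn => flagStab_conj a hn) σ hmem hσA)
  -- σ acts nontrivially modulo the Frattini subgroup
  have hx0 : ∃ x0, σ x0 * x0⁻¹ ∉ frattini P := by
    by_contra hcon
    push Not at hcon
    exact FL (frattini P) hΦchar hcon (fun x _ => hcon x)
  obtain ⟨x0, hx0⟩ := hx0
  have hσΦ : ∀ x, σ x ∈ frattini P ↔ x ∈ frattini P := by
    intro x
    refine ⟨fun h => ?_, fun h => hΦchar σ x h⟩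
    have := hΦchar σ⁻¹ _ h
    rwa [MulAut.inv_apply_self] at this
  let E : P →* P := (σ : P →* P) * (MonoidHom.id P)⁻¹
  have hE : ∀ x, E x = σ x * x⁻¹ := fun x => rfl
  set T : Subgroup P := (frattini P).comap E with hT
  have hmemT : ∀ x, x ∈ T ↔ σ x * x⁻¹ ∈ frattini P := fun x => Iff.rfl
  have hΦT : frattini P ≤ T := by
    intro x hx
    rw [hmemT]
    exact Subgroup.mul_mem _ ((hσΦ x).mpr hx) (Subgroup.inv_mem _ hx)
  have hΦtop : frattini P ≠ ⊤ := by
    intro h
    apply hx0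
    rw [h]; trivial
  obtain ⟨y, hyΦ, hy⟩ := exists_fixed_mod hP σ hσp (frattini P) hσΦ hΦtop
  have hΦltT : frattini P < T := lt_of_le_of_ne hΦT (fun h => hyΦ (by rw [h]; exact (hmemT y).mpr hy))
  have hTtop : T ≠ ⊤ := by
    intro h
    apply hx0
    have : x0 ∈ T := by rw [h]; trivial
    exact (hmemT x0).mp this
  obtain ⟨hTidx, -, hΦidx⟩ := index_of_lt hP hΦltT hTtop hrk
  have hσT : ∀ x, σ x ∈ T ↔ x ∈ T := by
    intro x
    rw [hmemT, hmemT]
    have e : σ (σ x) * (σ x)⁻¹ = σ (σ x * x⁻¹) := by rw [map_mul, map_inv]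
    rw [e]
    exact hσΦ _
  have hET : ∀ x, σ x * x⁻¹ ∈ T := forall_mem_of_index hP σ hσp T hσT hTidx
  -- characteristic flags do not exist
  have FLAG : ∀ M : Subgroup P, (∀ τ : MulAut P, ∀ x ∈ M, τ x ∈ M) → frattini P < M → M ≠ ⊤ →
      False := by
    intro M hM hlt hMtop
    obtain ⟨hMidx, hrel, -⟩ := index_of_lt hP hlt hMtop hrk
    have hσM : ∀ x, σ x ∈ M ↔ x ∈ M := by
      intro x
      refine ⟨fun h => ?_, fun h => hM σ x h⟩
      have := hM σ⁻¹ _ h
      rwa [MulAut.inv_apply_self] at this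
    have hEM : ∀ x, σ x * x⁻¹ ∈ M := forall_mem_of_index hP σ hσp M hσM hMidx
    have hMT : M ≤ T := by
      by_contra hnot
      have h1 : frattini P ≤ M ⊓ T := le_inf hlt.le hΦT
      have hmul := Subgroup.relIndex_mul_relIndex (frattini P) (M ⊓ T) M h1 inf_le_left
      rw [hrel] at hmul
      have hdvd : (M ⊓ T).relIndex M ∣ p := Dvd.intro_left _ hmul
      rcases (Nat.dvd_prime hp).mp hdvd with h | h
      · exact hnot ((Subgroup.relIndex_eq_one.mp h).trans inf_le_right)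
      · rw [h] at hmul
        have h2 : (frattini P).relIndex (M ⊓ T) = 1 :=
          Nat.eq_of_mul_eq_mul_right hp.pos (by rw [hmul, one_mul])
        have h3 := Subgroup.relIndex_eq_one.mp h2
        exact hx0 (h3 ⟨hEM x0, hET x0⟩)
    exact FL M hM hEM (fun x hx => (hmemT x).mp (hMT hx))
  -- P is not cyclic
  have hnc : ∀ z : P, Subgroup.zpowers z ≠ ⊤ := by
    intro z hz
    haveI : IsCyclic P := isCyclic_iff_exists_zpowers_eq_top.mpr ⟨z, hz⟩
    have hzp : IsPGroup p (Subgroup.zpowers σ) := by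
      rintro ⟨g, hg⟩
      refine ⟨1, Subtype.ext ?_⟩
      obtain ⟨k, rfl⟩ := hg
      show (σ ^ k) ^ p ^ 1 = 1
      rw [pow_one, ← zpow_natCast, ← zpow_mul, mul_comm, zpow_mul, zpow_natCast, hσp, one_zpow]
    have hnorm : ∀ a ∈ A, ∀ n ∈ Subgroup.zpowers σ, a * n * a⁻¹ ∈ Subgroup.zpowers σ := by
      intro a _ n hn
      rw [aut_comm_of_cyclic a n, mul_inv_cancel_right]
      exact hn
    exact hσ1 (hA1 _ hzp hnorm σ (Subgroup.mem_zpowers σ) hσA)
  -- case analysis on the elements of order p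
  have hM'char : ∀ τ : MulAut P, ∀ x ∈ torSub P p ⊔ frattini P, τ x ∈ torSub P p ⊔ frattini P :=
    sup_char (fun τ x hx => torSub_char _ τ hx) hΦchar
  by_cases hM'top : torSub P p ⊔ frattini P = ⊤
  · left
    have h2 := frattini_nongenerating hM'top
    have hexp : ∀ x : P, x ^ p = 1 := by
      intro x
      have : x ∈ torSub P p := by rw [h2]; trivial
      exact this
    refine ⟨hexp, ?_⟩
    have hbot : frattini P = ⊥ := by
      rw [hΦ, eq_bot_iff]
      rintro _ ⟨y, rfl⟩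
      rw [Subgroup.mem_bot]
      exact hexp y
    rw [hbot, Subgroup.index_bot] at hΦidx
    exact hΦidx
  · by_cases hΩ : torSub P p ≤ frattini P
    · right
      have hp3 : p ≤ 3 := by
        by_contra hcon
        have hp5 : 5 ≤ p := by
          rcases Nat.lt_or_ge p 5 with h | h
          · have h4 : p = 4 := by omega
            rw [h4] at hp
            exact absurd hp (by decide)
          · exact h
        obtain ⟨n, rfl⟩ := Nat.exists_eq_add_of_le' hp5
        have h2 : ∀ x : P, ∃ z : P, z ^ (n + 5) = σ (σ x * x⁻¹) * (σ x * x⁻¹)⁻¹ := by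
          intro x
          have := hET x
          rw [hmemT, hΦ] at this
          exact this
        obtain ⟨z, hz⟩ := pow_E_mem σ n hp hσp h2 x0
        have hw : σ x0 * x0⁻¹ * (z ^ (n + 5))⁻¹ ∈ torSub P (n + 5) := by
          rw [mem_torSub, mul_pow, inv_pow, ← pow_mul, hz, mul_inv_cancel]
        have hw' := hΩ hw
        have hz' : z ^ (n + 5) ∈ frattini P := by rw [hΦ]; exact ⟨z, rfl⟩
        apply hx0
        have := Subgroup.mul_mem _ hw' hz'
        rwa [inv_mul_cancel_right] at this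
      exact ⟨hp3, homocyclic hP hΦidx FLAG hnc⟩
    · exfalso
      refine FLAG _ hM'char (lt_of_le_of_ne le_sup_right ?_) hM'top
      intro h
      apply hΩ
      rw [h]
      exact le_sup_left

end Cfsg.Agent.Lib.Helper88.Rank2
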