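import Mathlib
import Cfsg.Prelude.Def_FusionSystem
import Cfsg.Agent.H84.FusZ1
import Cfsg.Agent.S5087
import Cfsg.Agent.Lib.Helper48.StrEmb
import Cfsg.Agent.Lib.Helper63.PFrattini

/-!
# Essential subgroups on which a subgroup of `S` acts with commutators in a central subgroup of order `p`

* `strEmb_sep`, `strEmb_sep_quot`, `ess_sep`: in a group with a strongly `p`-embedded subgroup
  there is a conjugate of a Sylow `p`-subgroup `T` such that no `p`-subgroup meets both `T` and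
  that conjugate nontrivially.
* `le_of_nonabelian`, `index_le`: if `R ≤ S` normalizes the essential subgroup `E` with
  `[E, R] ≤ Z₀`, `Z₀ ≤ Z(S)` of order `p`, then `R ≤ E` when `E` is not abelian (with `E' ≤ Z₀`),
  and `|R : R ∩ E| ≤ p` in general.
* `index_center_le`: a `p`-group of class two with commutator subgroup of order at most `p` and an
  abelian subgroup of index at most `p` has centre of index at most `p ^ 2`.
-/

set_option autoImplicit false

namespace Cfsg.Agent.Lib.Helper88.SmallComm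

open Cfsg Cfsg.FusionSystem
open scoped commutatorElement

section Abstract

variable {G : Type*} [Group G] [Finite G] {p : ℕ} [Fact p.Prime]

theorem strEmb_sep {H : Subgroup G} (hH : IsStronglyPEmbedded p H) (T : Sylow p G) :
    ∃ g : G, ∀ U : Subgroup G, IsPGroup p U → (∃ x ∈ U, x ∈ (T : Subgroup G) ∧ x ≠ 1) →
      ∀ y ∈ U, g⁻¹ * y * g ∈ (T : Subgroup G) → y = 1 := by
  obtain ⟨P, hPH, hc, hn⟩ := Cfsg.Agent.Lib.Helper48.StrEmb.core_of_stronglyPEmbedded hH
  obtain ⟨a, ha⟩ := MulAction.exists_smul_eq G P T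
  obtain ⟨g0, hg0⟩ : ∃ g0 : G, g0 ∉ H := by
    by_contra hcon
    exact hH.2.1 (eq_top_iff.mpr fun x _ => by_contra fun hx => hcon ⟨x, hx⟩)
  have hmem : ∀ z : G, z ∈ (T : Subgroup G) → a⁻¹ * z * a ∈ (P : Subgroup G) := by
    intro z hz
    rw [← ha, Sylow.coe_subgroup_smul] at hz
    obtain ⟨s, hs, rfl⟩ := Subgroup.mem_smul_pointwise_iff_exists _ _ _ |>.mp hz
    rw [MulAut.smul_def, MulAut.conj_apply]
    have e : a⁻¹ * (a * s * a⁻¹) * a = s := by group
    rw [e]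
    exact hs
  refine ⟨a * g0 * a⁻¹, fun U hU ⟨x, hxU, hxT, hx1⟩ y hyU hyT => ?_⟩
  by_contra hy1
  set U' : Subgroup G := U.map (MulAut.conj a⁻¹).toMonoidHom with hU'def
  have hU' : IsPGroup p U' := hU.map _
  have hmemU' : ∀ u ∈ U, a⁻¹ * u * a ∈ U' := by
    intro u hu
    refine ⟨u, hu, ?_⟩
    show MulAut.conj a⁻¹ u = _
    rw [MulAut.conj_apply, inv_inv]
  -- `U'` lies in `H`
  have hx' : a⁻¹ * x * a ∈ (P : Subgroup G) := hmem x hxT
  have hx'1 : a⁻¹ * x * a ≠ 1 := by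
    intro h
    apply hx1
    have : x = a * (a⁻¹ * x * a) * a⁻¹ := by group
    rw [this, h]
    group
  have hzx : IsPGroup p (Subgroup.zpowers (a⁻¹ * x * a)) :=
    P.2.to_le (by rw [Subgroup.zpowers_le]; exact hx')
  obtain ⟨x2, hx2, hx2p⟩ := Cfsg.Agent.Lib.Helper48.StrEmb.exists_orderOf_eq_of_ne_bot hzx
    (by rw [Ne, Subgroup.zpowers_eq_bot]; exact hx'1)
  have hx2U : x2 ∈ U' :=
    (Subgroup.zpowers_le.mpr (hmemU' x hxU) : Subgroup.zpowers (a⁻¹ * x * a) ≤ U') hx2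
  have hx2H : x2 ∈ H :=
    hPH ((Subgroup.zpowers_le.mpr hx' : Subgroup.zpowers (a⁻¹ * x * a) ≤ (P : Subgroup G)) hx2)
  have hU'H : U' ≤ H := Cfsg.Agent.Lib.Helper48.StrEmb.pgroup_le_of_mem hc hU' hx2U hx2H hx2p
  -- the element `y`
  have hy'U : a⁻¹ * y * a ∈ U' := hmemU' y hyU
  have hy'1 : a⁻¹ * y * a ≠ 1 := by
    intro h
    apply hy1
    have : y = a * (a⁻¹ * y * a) * a⁻¹ := by group
    rw [this, h]
    group
  have hzy : IsPGroup p (Subgroup.zpowers (a⁻¹ * y * a)) :=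
    hU'.to_le (by rw [Subgroup.zpowers_le]; exact hy'U)
  obtain ⟨y2, hy2, hy2p⟩ := Cfsg.Agent.Lib.Helper48.StrEmb.exists_orderOf_eq_of_ne_bot hzy
    (by rw [Ne, Subgroup.zpowers_eq_bot]; exact hy'1)
  have hy2H : y2 ∈ H :=
    hU'H ((Subgroup.zpowers_le.mpr hy'U : Subgroup.zpowers (a⁻¹ * y * a) ≤ U') hy2)
  have hconjP : g0⁻¹ * (a⁻¹ * y * a) * g0 ∈ (P : Subgroup G) := by
    have h1 := hmem _ hyT
    have e : a⁻¹ * ((a * g0 * a⁻¹)⁻¹ * y * (a * g0 * a⁻¹)) * a = g0⁻¹ * (a⁻¹ * y * a) * g0 := by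
      group
    rwa [e] at h1
  obtain ⟨k, hk⟩ := Subgroup.mem_zpowers_iff.mp hy2
  have hwP : g0⁻¹ * y2 * g0 ∈ (P : Subgroup G) := by
    have e : g0⁻¹ * y2 * g0 = (g0⁻¹ * (a⁻¹ * y * a) * g0) ^ k := by
      rw [← hk]
      have := map_zpow (MulAut.conj g0⁻¹) (a⁻¹ * y * a) k
      simp only [MulAut.conj_apply, inv_inv] at this
      exact this
    rw [e]
    exact Subgroup.zpow_mem _ hconjP k
  have hwp : orderOf (g0⁻¹ * y2 * g0) = p := by
    rw [← hy2p]
    have := Cfsg.Agent.Lib.Helper48.StrEmb.orderOf_conj' g0⁻¹ y2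
    rwa [inv_inv] at this
  apply hg0
  refine Cfsg.Agent.Lib.Helper48.StrEmb.mem_of_conj_mem P hPH hc hn (hPH hwP) hwp ?_
  have e : g0 * (g0⁻¹ * y2 * g0) * g0⁻¹ = y2 := by group
  rw [e]
  exact hy2H

theorem strEmb_sep_quot {A : Type*} [Group A] [Finite A] (N : Subgroup A) [N.Normal]
    {Y : Subgroup (A ⧸ N)} (hY : IsStronglyPEmbedded p Y) (R : Sylow p A) :
    ∃ g : A, ∀ U : Subgroup A, IsPGroup p U → (∃ x ∈ U, x ∈ (R : Subgroup A) ∧ x ∉ N) →
      ∀ y ∈ U, g⁻¹ * y * g ∈ (R : Subgroup A) → y ∈ N := by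
  obtain ⟨gq, hgq⟩ := strEmb_sep hY (R.mapSurjective (QuotientGroup.mk'_surjective N))
  obtain ⟨g, rfl⟩ := QuotientGroup.mk'_surjective N gq
  refine ⟨g, fun U hU ⟨x, hxU, hxR, hxN⟩ y hyU hyR => ?_⟩
  have h := hgq (U.map (QuotientGroup.mk' N)) (hU.map _)
    ⟨QuotientGroup.mk' N x, ⟨x, hxU, rfl⟩, by
      rw [Sylow.coe_mapSurjective]
      exact ⟨x, hxR, rfl⟩, fun h => hxN ((QuotientGroup.eq_one_iff x).mp h)⟩
    (QuotientGroup.mk' N y) ⟨y, hyU, rfl⟩ (by
      rw [Sylow.coe_mapSurjective]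
      exact ⟨g⁻¹ * y * g, hyR, by simp⟩)
  exact (QuotientGroup.eq_one_iff y).mp h

end Abstract

section Fusion

variable {Ω : Type*} [Group Ω] {S : Subgroup Ω} [Finite S] {p : ℕ} [Fact p.Prime]

/-- For an essential subgroup `E` there is `g ∈ Aut_F(E)` such that no `p`-subgroup of `Aut_F(E)`
meets both `Aut_S(E)` and its conjugate under `g` outside `Inn(E)`. -/
theorem ess_sep (hS : IsPGroup p S) (F : FusionSystem S) (hF : F.IsSaturated p)
    {E : Subgroup Ω} (hE : F.IsEssential p E) :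
    ∃ g ∈ F.autGroup E, ∀ U : Subgroup (MulAut E), U ≤ F.autGroup E → IsPGroup p U →
      (∃ x ∈ U, x ∈ autInducedBy S E ∧ x ∉ Inn E) →
      ∀ y ∈ U, g⁻¹ * y * g ∈ autInducedBy S E → y ∈ Inn E := by
  obtain ⟨hcen, hfn, hn, Y, hY⟩ := hE
  haveI := Cfsg.Agent.H84.finite_of_le hcen.1
  obtain ⟨-, R, hR⟩ := Cfsg.Agent.H84.fullyAutomized_of_fn hS F hF hfn
  haveI := hn
  obtain ⟨g, hg⟩ := strEmb_sep_quot ((Inn E).subgroupOf (F.autGroup E)) hY R
  refine ⟨g, g.2, fun U hUA hU ⟨x, hxU, hxT, hxI⟩ y hyU hyT => ?_⟩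
  have h := hg (U.subgroupOf (F.autGroup E)) hU.comap_subtype
    ⟨⟨x, hUA hxU⟩, Subgroup.mem_subgroupOf.mpr hxU, by
      rw [hR]
      exact Subgroup.mem_subgroupOf.mpr hxT, fun h => hxI (Subgroup.mem_subgroupOf.mp h)⟩
    ⟨y, hUA hyU⟩ (Subgroup.mem_subgroupOf.mpr hyU) (by
      rw [hR]
      exact Subgroup.mem_subgroupOf.mpr hyT)
  exact Subgroup.mem_subgroupOf.mp h

/-- The subgroup of fixed points of an automorphism. -/
def fixSub {H : Type*} [Group H] (α : MulAut H) : Subgroup H where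
  carrier := {x | α x = x}
  one_mem' := map_one α
  mul_mem' := by
    intro a b ha hb
    show α (a * b) = a * b
    rw [map_mul, ha, hb]
  inv_mem' := by
    intro a ha
    show α a⁻¹ = a⁻¹
    rw [map_inv, ha]

theorem mem_fixSub {H : Type*} [Group H] {α : MulAut H} {x : H} : x ∈ fixSub α ↔ α x = x :=
  Iff.rfl

/-- Conjugation by an element of `R` as an automorphism of `E`, for `R` normalizing `E`. -/
theorem exists_conj {E R : Subgroup Ω} (hRS : R ≤ S)
    (hnorm : ∀ r ∈ R, ∀ x ∈ E, r * x * r⁻¹ ∈ E) (r : Ω) (hr : r ∈ R) :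
    ∃ c : MulAut E, c ∈ autInducedBy S E ∧ ∀ x : E, ((c x : E) : Ω) = r * x * r⁻¹ := by
  have hrN : r ∈ Subgroup.normalizer (E : Set Ω) := by
    rw [Subgroup.mem_normalizer_iff]
    intro x
    constructor
    · exact hnorm r hr x
    · intro hx
      have h := hnorm r⁻¹ (R.inv_mem hr) _ hx
      have e : r⁻¹ * (r * x * r⁻¹) * r⁻¹⁻¹ = x := by group
      rwa [e] at h
  refine ⟨E.normalizerMonoidHom ⟨r, hrN⟩, ?_, fun x => rfl⟩
  exact (Cfsg.Agent.H84.mem_autInducedBy_iff S E _).mpr ⟨r, hRS hr, fun x => rfl⟩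

/-- If `E` is essential and not abelian, with `E' ≤ Z₀` of order `p` central in `S`, then a
subgroup `R` of `S` with `[E, R] ≤ Z₀` lies in `E`. -/
theorem le_of_nonabelian (hS : IsPGroup p S) (F : FusionSystem S)
    {E : Subgroup Ω} (hE : F.IsEssential p E) (R Z₀ : Subgroup Ω) (hRS : R ≤ S)
    (hnorm : ∀ r ∈ R, ∀ x ∈ E, r * x * r⁻¹ ∈ E)
    (hcomm : ∀ r ∈ R, ∀ x ∈ E, r * x * r⁻¹ * x⁻¹ ∈ Z₀)
    (hZE : Z₀ ≤ E) (hZcard : Nat.card Z₀ = p)
    (hZc : ∀ s ∈ S, ∀ z ∈ Z₀, s * z * s⁻¹ = z)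
    (hEcomm : ∀ x ∈ E, ∀ y ∈ E, x * y * x⁻¹ * y⁻¹ ∈ Z₀)
    (hna : ¬ ∀ x ∈ E, ∀ y ∈ E, x * y = y * x) : R ≤ E := by
  have hES : E ≤ S := hE.1.1
  haveI := Cfsg.Agent.H84.finite_of_le hES
  have hEp : IsPGroup p E := hS.to_le hES
  set N₁ : Subgroup E := Z₀.subgroupOf E with hN₁
  have hN₁card : Nat.card N₁ = p := by
    rw [← hZcard]
    exact Nat.card_congr (Subgroup.subgroupOfEquivOfLe hZE).toEquiv
  have hle : commutator ↥E ≤ N₁ := by
    rw [commutator_def, Subgroup.commutator_le]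
    intro x _ y _
    rw [commutatorElement_def, hN₁, Subgroup.mem_subgroupOf]
    exact hEcomm x x.2 y y.2
  have hne : commutator ↥E ≠ ⊥ := by
    intro h
    apply hna
    intro x hx y hy
    have h1 : ⁅(⟨x, hx⟩ : E), (⟨y, hy⟩ : E)⁆ ∈ commutator ↥E := by
      rw [commutator_def]
      exact Subgroup.commutator_mem_commutator (Subgroup.mem_top _) (Subgroup.mem_top _)
    rw [h, Subgroup.mem_bot, commutatorElement_eq_one_iff_mul_comm] at h1
    exact congrArg Subtype.val h1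
  have hN : N₁ = commutator ↥E := by
    rcases Cfsg.Agent.H84.Transv.inf_eq_bot_or_le (commutator ↥E) hN₁card with h | h
    · exfalso
      apply hne
      rw [← h]
      exact (inf_eq_right.mpr hle).symm
    · exact le_antisymm h hle
  have hinv : ∀ γ : MulAut E, ∀ x ∈ N₁, γ x ∈ N₁ := by
    intro γ x hx
    rw [hN] at hx ⊢
    have hchar : (commutator ↥E).Characteristic := by
      rw [commutator_def]
      infer_instance
    have h1 := (Subgroup.characteristic_iff_map_eq.mp hchar) γ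
    rw [← h1]
    exact ⟨x, hx, rfl⟩
  set CS : Subgroup (MulAut E) := Cfsg.Agent.H84.Transv.chainStab N₁ ⊥ bot_le with hCS
  have hBp : IsPGroup p (CS.subgroupOf (F.autGroup E)) :=
    (Cfsg.Agent.H84.Transv.isPGroup_chainStab hEp N₁ ⊥ bot_le).comap_subtype
  have hBn : (CS.subgroupOf (F.autGroup E)).Normal := by
    constructor
    intro b hb a
    rw [Subgroup.mem_subgroupOf] at hb ⊢
    obtain ⟨b1, b2, b3⟩ := hb
    show (a : MulAut E) * b * (a : MulAut E)⁻¹ ∈ CS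
    refine ⟨fun x => ?_, fun x hx => ?_, fun x hx => ?_⟩
    · have e : x⁻¹ * ((a : MulAut E) * b * (a : MulAut E)⁻¹) x =
          (a : MulAut E) (((a : MulAut E)⁻¹ x)⁻¹ * (b : MulAut E) ((a : MulAut E)⁻¹ x)) := by
        simp [MulAut.mul_apply]
      rw [e]
      exact hinv _ _ (b1 _)
    · have h1 := hinv (a : MulAut E)⁻¹ x hx
      have h2 := b2 _ h1
      rw [Subgroup.mem_bot, inv_mul_eq_one] at h2
      rw [Subgroup.mem_bot, MulAut.mul_apply, MulAut.mul_apply, ← h2, MulAut.apply_inv_self,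
        inv_mul_cancel]
    · rw [Subgroup.mem_bot] at hx
      rw [hx, map_one]
  have hBle := Cfsg.Agent.H84.normal_pSubgroup_le_inn_of_essential F hE _ hBn hBp
  intro r hr
  obtain ⟨c, hcT, hcx⟩ := exists_conj hRS hnorm r hr
  have hcA : c ∈ F.autGroup E := Cfsg.Agent.H84.autInducedBy_le_autGroup F hES hcT
  have hcCS : c ∈ CS := by
    refine ⟨fun x => ?_, fun x hx => ?_, fun x hx => ?_⟩
    · rw [hN₁, Subgroup.mem_subgroupOf]
      have h1 := hcomm r hr x x.2
      have h2 := hZc (x : Ω)⁻¹ (S.inv_mem (hES x.2)) _ h1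
      show (x : Ω)⁻¹ * ((c x : E) : Ω) ∈ Z₀
      rw [hcx]
      have e : (x : Ω)⁻¹ * (r * x * r⁻¹) =
          (x : Ω)⁻¹ * (r * x * r⁻¹ * (x : Ω)⁻¹) * ((x : Ω)⁻¹)⁻¹ := by group
      rw [e, h2]
      exact h1
    · rw [Subgroup.mem_bot, inv_mul_eq_one]
      apply Subtype.ext
      rw [hcx]
      exact (hZc r (hRS hr) _ (Subgroup.mem_subgroupOf.mp hx)).symm
    · rw [Subgroup.mem_bot] at hx
      rw [hx, map_one]
  have hcI : c ∈ Inn E :=
    Subgroup.mem_subgroupOf.mp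
      (hBle (show (⟨c, hcA⟩ : F.autGroup E) ∈ CS.subgroupOf (F.autGroup E) from
        Subgroup.mem_subgroupOf.mpr hcCS))
  exact Cfsg.Agent.H84.mem_of_induces_inn hES
    (hE.1.2 E (Cfsg.Agent.H84.isConj_refl F hES)) c hcI (hRS hr) hcx

/-- If `E` is essential and `R ≤ S` normalizes `E` with `[E, R] ≤ Z₀`, `Z₀ ≤ E` of order `p`
central in `S`, then `|R : R ∩ E| ≤ p`. -/
theorem index_le (hS : IsPGroup p S) (F : FusionSystem S) (hF : F.IsSaturated p)
    {E : Subgroup Ω} (hE : F.IsEssential p E) (R Z₀ : Subgroup Ω) (hRS : R ≤ S)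
    (hnorm : ∀ r ∈ R, ∀ x ∈ E, r * x * r⁻¹ ∈ E)
    (hcomm : ∀ r ∈ R, ∀ x ∈ E, r * x * r⁻¹ * x⁻¹ ∈ Z₀)
    (hZE : Z₀ ≤ E) (hZcard : Nat.card Z₀ = p)
    (hZc : ∀ s ∈ S, ∀ z ∈ Z₀, s * z * s⁻¹ = z) : (E.subgroupOf R).index ≤ p := by
  have hp : p.Prime := Fact.out
  have hES : E ≤ S := hE.1.1
  haveI := Cfsg.Agent.H84.finite_of_le hES
  haveI := Cfsg.Agent.H84.finite_of_le hRS
  have hEp : IsPGroup p E := hS.to_le hES
  obtain ⟨g, hgA, hsep⟩ := ess_sep hS F hF hE
  set N₂ : Subgroup E := Z₀.subgroupOf E with hN₂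
  have hN₂card : Nat.card N₂ = p := by
    rw [← hZcard]
    exact Nat.card_congr (Subgroup.subgroupOfEquivOfLe hZE).toEquiv
  obtain ⟨z₀, hz₀, hz₀1⟩ := Cfsg.Agent.H84.Transv.exists_ne_one_of_card hN₂card
  have hzp : Subgroup.zpowers z₀ = N₂ := Cfsg.Agent.H84.Transv.zpowers_eq_of_prime hN₂card hz₀ hz₀1
  set N₃ : Subgroup E := N₂.map g.toMonoidHom with hN₃
  have hN₃card : Nat.card N₃ = p := by
    rw [← hN₂card]
    exact (Nat.card_congr (g.subgroupMap N₂).toEquiv).symm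
  -- the conjugation automorphisms
  have hRN : R ≤ Subgroup.normalizer (E : Set Ω) := by
    intro r hr
    rw [Subgroup.mem_normalizer_iff]
    intro x
    constructor
    · exact hnorm r hr x
    · intro hx
      have h := hnorm r⁻¹ (R.inv_mem hr) _ hx
      have e : r⁻¹ * (r * x * r⁻¹) * r⁻¹⁻¹ = x := by group
      rwa [e] at h
  set cR : R →* MulAut E := E.normalizerMonoidHom.comp (Subgroup.inclusion hRN) with hcR
  have hcx : ∀ (r : R) (x : E), ((cR r x : E) : Ω) = r * x * (r : Ω)⁻¹ := fun r x => rfl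
  have hcT : ∀ r : R, cR r ∈ autInducedBy S E := fun r =>
    (Cfsg.Agent.H84.mem_autInducedBy_iff S E _).mpr ⟨r, hRS r.2, fun x => rfl⟩
  have ha : ∀ (r : R) (x : E), x⁻¹ * cR r x ∈ N₂ := by
    intro r x
    rw [hN₂, Subgroup.mem_subgroupOf]
    have h1 := hcomm r r.2 x x.2
    have h2 := hZc (x : Ω)⁻¹ (S.inv_mem (hES x.2)) _ h1
    show (x : Ω)⁻¹ * ((cR r x : E) : Ω) ∈ Z₀
    rw [hcx]
    have e : (x : Ω)⁻¹ * (r * x * (r : Ω)⁻¹) =
        (x : Ω)⁻¹ * (r * x * (r : Ω)⁻¹ * (x : Ω)⁻¹) * ((x : Ω)⁻¹)⁻¹ := by group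
    rw [e, h2]
    exact h1
  have hb : ∀ (r : R), ∀ z ∈ N₂, cR r z = z := by
    intro r z hz
    apply Subtype.ext
    rw [hcx]
    exact hZc r (hRS r.2) _ (Subgroup.mem_subgroupOf.mp hz)
  set σ : R →* MulAut E := (MulAut.conj g).toMonoidHom.comp cR with hσ
  have hσx : ∀ (r : R) (x : E), σ r x = g (cR r (g⁻¹ x)) := fun r x => rfl
  have hc : ∀ (r : R) (x : E), x⁻¹ * σ r x ∈ N₃ := by
    intro r x
    refine ⟨(g⁻¹ x)⁻¹ * cR r (g⁻¹ x), ha r _, ?_⟩
    show g ((g⁻¹ x)⁻¹ * cR r (g⁻¹ x)) = x⁻¹ * σ r x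
    rw [map_mul, map_inv, MulAut.apply_inv_self, hσx]
  have hd : ∀ (r : R), ∀ w ∈ N₃, σ r w = w := by
    rintro r _ ⟨z, hz, rfl⟩
    show σ r (g z) = g z
    rw [hσx, MulAut.inv_apply_self, hb r z hz]
  -- the homomorphism
  let φ : R →* E :=
    { toFun := fun r => z₀⁻¹ * σ r z₀
      map_one' := by
        show z₀⁻¹ * σ 1 z₀ = 1
        rw [map_one, MulAut.one_apply, inv_mul_cancel]
      map_mul' := by
        intro r r'
        show z₀⁻¹ * σ (r * r') z₀ = z₀⁻¹ * σ r z₀ * (z₀⁻¹ * σ r' z₀)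
        have e1 : σ r' z₀ = z₀ * (z₀⁻¹ * σ r' z₀) := by group
        rw [map_mul, MulAut.mul_apply, e1, map_mul, hd r _ (hc r' z₀)]
        group }
  have hφ : ∀ r : R, φ r = z₀⁻¹ * σ r z₀ := fun r => rfl
  have hrange : φ.range ≤ N₃ := by
    rintro _ ⟨r, rfl⟩
    rw [hφ]
    exact hc r z₀
  have hker : φ.ker ≤ E.subgroupOf R := by
    intro r hr
    rw [MonoidHom.mem_ker, hφ, inv_mul_eq_one] at hr
    rw [Subgroup.mem_subgroupOf]
    by_contra hrE
    have hfix0 : N₂ ≤ fixSub (σ r) := by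
      rw [← hzp, Subgroup.zpowers_le]
      exact hr.symm
    have hfix : N₂ ⊔ N₃ ≤ fixSub (σ r) := sup_le hfix0 (fun w hw => hd r w hw)
    have hcA : cR r ∈ F.autGroup E := Cfsg.Agent.H84.autInducedBy_le_autGroup F hES (hcT r)
    have hσA : σ r ∈ F.autGroup E := by
      show g * cR r * g⁻¹ ∈ F.autGroup E
      exact Subgroup.mul_mem _ (Subgroup.mul_mem _ hgA hcA) (Subgroup.inv_mem _ hgA)
    have hc1 : cR r ∈ Cfsg.Agent.H84.Transv.chainStab (N₂ ⊔ N₃) N₂ le_sup_left :=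
      ⟨fun x => le_sup_left (a := N₂) (b := N₃) (ha r x), fun x _ => ha r x, fun x hx => hb r x hx⟩
    have hc2 : σ r ∈ Cfsg.Agent.H84.Transv.chainStab (N₂ ⊔ N₃) N₂ le_sup_left := by
      refine ⟨fun x => le_sup_right (a := N₂) (b := N₃) (hc r x), fun x hx => ?_,
        fun x hx => hfix (le_sup_left (a := N₂) (b := N₃) hx)⟩
      have h1 : σ r x = x := hfix hx
      rw [h1, inv_mul_cancel]
      exact Subgroup.one_mem _
    have hUp : IsPGroup p
        (Cfsg.Agent.H84.Transv.chainStab (N₂ ⊔ N₃) N₂ le_sup_left ⊓ F.autGroup E :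
          Subgroup (MulAut E)) :=
      (Cfsg.Agent.H84.Transv.isPGroup_chainStab hEp (N₂ ⊔ N₃) N₂ le_sup_left).to_le inf_le_left
    have hnI : cR r ∉ Inn E := fun hI =>
      hrE (Cfsg.Agent.H84.mem_of_induces_inn hES
        (hE.1.2 E (Cfsg.Agent.H84.isConj_refl F hES)) (cR r) hI (hRS r.2) (hcx r))
    have hconj : g⁻¹ * σ r * g = cR r := by
      show g⁻¹ * (g * cR r * g⁻¹) * g = cR r
      group
    have hσI : σ r ∈ Inn E := hsep _ inf_le_right hUp ⟨cR r, ⟨hc1, hcA⟩, hcT r, hnI⟩ (σ r)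
      ⟨hc2, hσA⟩ (by rw [hconj]; exact hcT r)
    apply hnI
    obtain ⟨-, -, hn, -⟩ := hE
    have h1 := hn.conj_mem ⟨σ r, hσA⟩ (Subgroup.mem_subgroupOf.mpr hσI)
      ⟨g⁻¹, Subgroup.inv_mem _ hgA⟩
    rw [Subgroup.mem_subgroupOf] at h1
    have e : (((⟨g⁻¹, Subgroup.inv_mem _ hgA⟩ : F.autGroup E) * ⟨σ r, hσA⟩ *
        (⟨g⁻¹, Subgroup.inv_mem _ hgA⟩ : F.autGroup E)⁻¹ : F.autGroup E) : MulAut E) = cR r := by
      show g⁻¹ * σ r * g⁻¹⁻¹ = cR r
      rw [inv_inv]
      exact hconj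
    rwa [e] at h1
  have h1 : (E.subgroupOf R).index ≤ φ.ker.index :=
    Nat.le_of_dvd (Nat.pos_of_ne_zero Subgroup.index_ne_zero_of_finite)
      (Subgroup.index_dvd_of_le hker)
  have h2 : φ.ker.index ≤ p := by
    rw [Subgroup.index_ker, ← hN₃card]
    exact Subgroup.card_le_of_le hrange
  exact h1.trans h2

end Fusion

section Center

/-- A subgroup of index at most `p` of a finite `p`-group together with any element outside it
generates the group. -/
theorem sup_zpowers_eq_top {G : Type*} [Group G] [Finite G] {p : ℕ} [Fact p.Prime]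
    (hG : IsPGroup p G) (K : Subgroup G) (hidx : K.index ≤ p) {s : G} (hs : s ∉ K) :
    K ⊔ Subgroup.zpowers s = ⊤ := by
  have hp : p.Prime := Fact.out
  have hlt : K < K ⊔ Subgroup.zpowers s := by
    refine lt_of_le_of_ne le_sup_left fun h => hs ?_
    rw [h]
    exact (le_sup_right : Subgroup.zpowers s ≤ K ⊔ Subgroup.zpowers s)
      (Subgroup.mem_zpowers s)
  have h1 := Subgroup.relIndex_mul_index (le_sup_left : K ≤ K ⊔ Subgroup.zpowers s)
  obtain ⟨a, ha⟩ := hG.index (K ⊔ Subgroup.zpowers s)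
  have hrel : K.relIndex (K ⊔ Subgroup.zpowers s) ≠ 1 := by
    intro h
    rw [Subgroup.relIndex_eq_one] at h
    exact (not_le_of_gt hlt) h
  obtain ⟨b, hb⟩ : ∃ b, K.relIndex (K ⊔ Subgroup.zpowers s) = p ^ b := by
    have hdvd : K.relIndex (K ⊔ Subgroup.zpowers s) ∣ K.index := Dvd.intro _ h1
    obtain ⟨c, hc⟩ := hG.index K
    rw [hc] at hdvd
    obtain ⟨b, -, hb⟩ := (Nat.dvd_prime_pow hp).mp hdvd
    exact ⟨b, hb⟩
  have hb1 : 1 ≤ b := by
    rcases Nat.eq_zero_or_pos b with h | h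
    · rw [h, pow_zero] at hb
      exact absurd hb hrel
    · exact h
  have ha0 : a = 0 := by
    by_contra hane
    have h2 : p ^ 1 * p ^ 1 ≤ p ^ b * p ^ a :=
      Nat.mul_le_mul (Nat.pow_le_pow_right hp.pos hb1)
        (Nat.pow_le_pow_right hp.pos (Nat.one_le_iff_ne_zero.mpr hane))
    rw [← hb, ← ha, h1, pow_one] at h2
    have h3 : p * p ≤ p := h2.trans hidx
    have h4 : p * 2 ≤ p * p := Nat.mul_le_mul_left p hp.two_le
    have := hp.pos
    omega
  rw [ha0, pow_zero, Subgroup.index_eq_one] at ha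
  exact ha

/-- A finite `p`-group of class at most two whose commutator subgroup has order at most `p` and
which has an abelian subgroup of index at most `p` has centre of index at most `p ^ 2`. -/
theorem index_center_le {G : Type*} [Group G] [Finite G] {p : ℕ} [Fact p.Prime]
    (hG : IsPGroup p G) (K : Subgroup G) (hK : ∀ a ∈ K, ∀ b ∈ K, a * b = b * a)
    (hidx : K.index ≤ p) (hDZ : commutator G ≤ Subgroup.center G)
    (hD : Nat.card (commutator G) ≤ p) : (Subgroup.center G).index ≤ p ^ 2 := by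
  have hp : p.Prime := Fact.out
  by_cases hKtop : K = ⊤
  · have hc : Subgroup.center G = ⊤ := by
      rw [eq_top_iff]
      intro x _
      rw [Subgroup.mem_center_iff]
      intro y
      exact hK y (by rw [hKtop]; trivial) x (by rw [hKtop]; trivial)
    rw [hc, Subgroup.index_top]
    exact Nat.one_le_pow _ _ hp.pos
  · obtain ⟨s, hs⟩ : ∃ s : G, s ∉ K := by
      by_contra hcon
      exact hKtop (eq_top_iff.mpr fun x _ => by_contra fun hx => hcon ⟨x, hx⟩)
    have hcm : ∀ x : G, ⁅x, s⁆ ∈ Subgroup.center G := fun x => hDZ (by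
      rw [commutator_def]
      exact Subgroup.commutator_mem_commutator (Subgroup.mem_top _) (Subgroup.mem_top _))
    -- the homomorphism `x ↦ [x, s]` on `K`
    let ψ : K →* G :=
      { toFun := fun x => ⁅(x : G), s⁆
        map_one' := by simp
        map_mul' := by
          intro x y
          show ⁅((x : G) * (y : G)), s⁆ = ⁅(x : G), s⁆ * ⁅(y : G), s⁆
          have h1 := Subgroup.mem_center_iff.mp (hcm (y : G))
          rw [commutatorElement_def, commutatorElement_def] at *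
          calc (x : G) * y * s * ((x : G) * y)⁻¹ * s⁻¹
              = (x : G) * ((y : G) * s * (y : G)⁻¹ * s⁻¹) * s * (x : G)⁻¹ * s⁻¹ := by group
            _ = ((y : G) * s * (y : G)⁻¹ * s⁻¹) * (x : G) * s * (x : G)⁻¹ * s⁻¹ := by
                rw [h1 (x : G)]
            _ = ((y : G) * s * (y : G)⁻¹ * s⁻¹) * ((x : G) * s * (x : G)⁻¹ * s⁻¹) := by group
            _ = ((x : G) * s * (x : G)⁻¹ * s⁻¹) * ((y : G) * s * (y : G)⁻¹ * s⁻¹) :=
                (h1 _).symm }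
    have hψ : ∀ x : K, ψ x = ⁅(x : G), s⁆ := fun x => rfl
    have hrange : ψ.range ≤ commutator G := by
      rintro _ ⟨x, rfl⟩
      rw [hψ, commutator_def]
      exact Subgroup.commutator_mem_commutator (Subgroup.mem_top _) (Subgroup.mem_top _)
    -- `K` together with `s` generates `G`
    have hgen : K ⊔ Subgroup.zpowers s = ⊤ := sup_zpowers_eq_top hG K hidx hs
    -- the kernel is central
    have hkerZ : ψ.ker.map K.subtype ≤ Subgroup.center G := by
      rintro _ ⟨x, hx0, rfl⟩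
      have hx := MonoidHom.mem_ker.mp hx0
      rw [hψ, commutatorElement_eq_one_iff_mul_comm] at hx
      have hcen : (⊤ : Subgroup G) ≤ Subgroup.centralizer ({(x : G)} : Set G) := by
        rw [← hgen]
        refine sup_le (fun y hy => ?_) ?_
        · rw [Subgroup.mem_centralizer_iff]
          intro z hz
          rw [Set.mem_singleton_iff] at hz
          rw [hz]
          exact hK _ x.2 _ hy
        · rw [Subgroup.zpowers_le, Subgroup.mem_centralizer_iff]
          intro z hz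
          rw [Set.mem_singleton_iff] at hz
          rw [hz]
          exact hx
      show (x : G) ∈ Subgroup.center G
      rw [Subgroup.mem_center_iff]
      intro y
      have := Subgroup.mem_centralizer_iff.mp (hcen (Subgroup.mem_top y)) (x : G) rfl
      exact this.symm
    have h1 : (Subgroup.center G).index ≤ (ψ.ker.map K.subtype).index :=
      Nat.le_of_dvd (Nat.pos_of_ne_zero Subgroup.index_ne_zero_of_finite)
        (Subgroup.index_dvd_of_le hkerZ)
    have h2 : (ψ.ker.map K.subtype).index = ψ.ker.index * K.index :=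
      Subgroup.index_map_subtype _
    have h3 : ψ.ker.index ≤ p := by
      rw [Subgroup.index_ker]
      exact (Subgroup.card_le_of_le hrange).trans hD
    calc (Subgroup.center G).index ≤ ψ.ker.index * K.index := by rw [← h2]; exact h1
      _ ≤ p * p := Nat.mul_le_mul h3 hidx
      _ = p ^ 2 := by ring

end Center

section Extra

variable {Ω : Type*} [Group Ω] {S : Subgroup Ω} [Finite S] {p : ℕ} [Fact p.Prime]

/-- If no nontrivial subgroup is normal in the saturated fusion system `F` over `S ≠ 1`, then `F`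
has an essential subgroup. -/
theorem exists_essential (hS : IsPGroup p S) (F : FusionSystem S) (hF : F.IsSaturated p)
    (hS1 : S ≠ ⊥) (hcore : F.core = ⊥) : ∃ P : Subgroup Ω, F.IsEssential p P := by
  by_contra hno
  have hnormal : F.IsNormal S := by
    rw [Cfsg.Agent.S5087.result p hS F hF]
    intro P hP
    rcases hP with h | hE
    · rw [h]
      refine ⟨le_rfl, fun α hα => ?_⟩
      rw [Subgroup.subgroupOf_self]
      exact Subgroup.map_top_of_surjective _ α.surjective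
    · exact absurd ⟨P, hE⟩ hno
  have : S ≤ F.core := le_sSup hnormal
  rw [hcore] at this
  exact hS1 (le_bot_iff.mp this)

/-- Basic facts on an extraspecial subgroup `Q` of index `p` in the `p`-group `S`; here
`Q ⊓ C(Q)` is the centre of `Q`. -/
theorem extra_setup (hS : IsPGroup p S) (Q : Subgroup Ω) (hQS : Q ≤ S)
    (hQ : Cfsg.IsExtraspecial p ↥Q) (hQi : (Q.subgroupOf S).index = p) :
    Nat.card ↥(Q ⊓ Subgroup.centralizer (Q : Set Ω)) = p ∧
    (∀ s ∈ S, ∀ x ∈ Q, s * x * s⁻¹ ∈ Q) ∧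
    (∀ s ∈ S, ∀ z ∈ Q ⊓ Subgroup.centralizer (Q : Set Ω), s * z * s⁻¹ = z) ∧
    (∀ x ∈ Q, ∀ y ∈ Q, x * y * x⁻¹ * y⁻¹ ∈ Q ⊓ Subgroup.centralizer (Q : Set Ω)) ∧
    (¬ ∀ x ∈ Q, ∀ y ∈ Q, x * y = y * x) := by
  have hp : p.Prime := Fact.out
  obtain ⟨⟨hQp, hfr, hcz⟩, hzcard⟩ := hQ
  have hmap : Q ⊓ Subgroup.centralizer (Q : Set Ω) = (Subgroup.center ↥Q).map Q.subtype := by
    ext x
    constructor
    · rintro ⟨hxQ, hxC⟩
      refine ⟨⟨x, hxQ⟩, ?_, rfl⟩
      rw [SetLike.mem_coe, Subgroup.mem_center_iff]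
      intro y
      apply Subtype.ext
      exact Subgroup.mem_centralizer_iff.mp hxC y y.2
    · rintro ⟨x, hx, rfl⟩
      refine ⟨x.2, Subgroup.mem_centralizer_iff.mpr fun y hy => ?_⟩
      exact congrArg Subtype.val (Subgroup.mem_center_iff.mp hx ⟨y, hy⟩)
  have hcard : Nat.card ↥(Q ⊓ Subgroup.centralizer (Q : Set Ω)) = p := by
    rw [hmap, Subgroup.card_map_of_injective Q.subtype_injective, hzcard]
  -- `Q` is normal in `S`
  have hnormal : (Q.subgroupOf S).Normal := by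
    apply Subgroup.normal_of_index_eq_minFac_card
    rw [hQi]
    obtain ⟨n, hn⟩ := IsPGroup.iff_card.mp hS
    have hn0 : n ≠ 0 := by
      rintro rfl
      rw [pow_zero] at hn
      have h1 := Subgroup.index_dvd_card (Q.subgroupOf S)
      rw [hQi, hn] at h1
      exact hp.one_lt.ne' (Nat.dvd_one.mp h1)
    rw [hn, Nat.Prime.pow_minFac hp hn0]
  have hQnorm : ∀ s ∈ S, ∀ x ∈ Q, s * x * s⁻¹ ∈ Q := fun s hs x hx =>
    (Subgroup.normal_subgroupOf_iff hQS).mp hnormal x s hx hs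
  -- the centre of `Q` is normal in `S`, hence central
  set Z₀ := Q ⊓ Subgroup.centralizer (Q : Set Ω) with hZ₀
  have hZ₀S : Z₀ ≤ S := inf_le_left.trans hQS
  have hZnormal : (Z₀.subgroupOf S).Normal := by
    rw [Subgroup.normal_subgroupOf_iff hZ₀S]
    intro z s hz hs
    refine ⟨hQnorm s hs z hz.1, Subgroup.mem_centralizer_iff.mpr fun y hy => ?_⟩
    have h1 := Subgroup.mem_centralizer_iff.mp hz.2 (s⁻¹ * y * s) (by
      have := hQnorm s⁻¹ (S.inv_mem hs) y hy
      rwa [inv_inv] at this)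
    calc y * (s * z * s⁻¹) = s * (s⁻¹ * y * s * z) * s⁻¹ := by group
      _ = s * (z * (s⁻¹ * y * s)) * s⁻¹ := by rw [h1]
      _ = s * z * s⁻¹ * y := by group
  have hZS : Z₀.subgroupOf S ≤ Subgroup.center ↥S := by
    haveI := hZnormal
    apply Cfsg.Agent.Lib.Helper63.PFrattini.normal_card_prime_le_center hS
    rw [← hcard]
    exact Nat.card_congr (Subgroup.subgroupOfEquivOfLe hZ₀S).toEquiv
  have hZc : ∀ s ∈ S, ∀ z ∈ Z₀, s * z * s⁻¹ = z := by
    intro s hs z hz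
    have h1 := Subgroup.mem_center_iff.mp (hZS (show (⟨z, hZ₀S hz⟩ : S) ∈ Z₀.subgroupOf S from
      Subgroup.mem_subgroupOf.mpr hz)) ⟨s, hs⟩
    have h2 : s * z = z * s := congrArg Subtype.val h1
    rw [h2]
    group
  refine ⟨hcard, hQnorm, hZc, ?_, ?_⟩
  · intro x hx y hy
    have h1 : ⁅(⟨x, hx⟩ : Q), (⟨y, hy⟩ : Q)⁆ ∈ commutator ↥Q := by
      rw [commutator_def]
      exact Subgroup.commutator_mem_commutator (Subgroup.mem_top _) (Subgroup.mem_top _)
    rw [hcz] at h1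
    rw [hmap]
    exact ⟨_, h1, rfl⟩
  · intro hab
    have hbot : commutator ↥Q ≤ ⊥ := by
      rw [commutator_def, Subgroup.commutator_le]
      intro x _ y _
      rw [Subgroup.mem_bot, commutatorElement_eq_one_iff_mul_comm]
      exact Subtype.ext (hab x x.2 y y.2)
    rw [hcz, le_bot_iff] at hbot
    rw [hbot, Subgroup.card_bot] at hzcard
    exact hp.one_lt.ne hzcard

end Extra

end Cfsg.Agent.Lib.Helper88.SmallComm
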