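import Mathlib
import Cfsg.Agent.H84.Transv
import Cfsg.Agent.Lib.Helper88.SmallComm

/-!
# Automorphism groups of an abelian `p`-group containing transvection-like elements

`H` is a finite abelian `p`-group, `Zp ≤ H` a subgroup of index `p`, `T ≤ G ≤ Aut(H)` with `T`
centralizing `Zp` and `H / Zp`, and `T` a maximal `p`-subgroup of `G`.  For `τ ∈ T`, `τ ≠ 1` and
`γ ∈ G` such that `⟨τ, γ τ γ⁻¹⟩` is not a `p`-group, `local_main` produces `h ∈ N_G(T)` inverting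
`[H, τ]`, centralizing `Zp ∩ γ(Zp)`, with `Zp = [H, τ] × (Zp ∩ γ(Zp))`; `card_le` bounds `|T| ≤ p`;
`not_pgroup_of_card` gives the hypothesis from `|T| = p` and `γ ∉ N_G(T)`.
Built on `Cfsg.Agent.H84.Transv` (`pair_decomp`, `exists_inverting`).
-/

set_option autoImplicit false

namespace Cfsg.Agent.Lib.Helper88.AbLocal

open Cfsg.Agent.H84.Transv

section General

variable {A : Type*} [Group A] [Finite A] {p : ℕ} [Fact p.Prime]

theorem not_pgroup_of_card {G T : Subgroup A} (hTG : T ≤ G)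
    (hmax : ∀ U : Subgroup A, U ≤ G → IsPGroup p U → T ≤ U → U ≤ T)
    (hTcard : Nat.card T = p) {τ γ : A} (hτT : τ ∈ T) (hτ : τ ≠ 1) (hγ : γ ∈ G)
    (hγT : ∃ τ₁ ∈ T, γ * τ₁ * γ⁻¹ ∉ T) :
    ¬ IsPGroup p (Subgroup.closure ({τ, γ * τ * γ⁻¹} : Set A)) := by
  intro hp
  have hz : Subgroup.zpowers τ = T := zpowers_eq_of_prime hTcard hτT hτ
  have hUG : Subgroup.closure ({τ, γ * τ * γ⁻¹} : Set A) ≤ G := by
    rw [Subgroup.closure_le]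
    intro x hx
    simp only [Set.mem_insert_iff, Set.mem_singleton_iff] at hx
    rcases hx with rfl | rfl
    · exact hTG hτT
    · exact G.mul_mem (G.mul_mem hγ (hTG hτT)) (G.inv_mem hγ)
  have hTU : T ≤ Subgroup.closure ({τ, γ * τ * γ⁻¹} : Set A) := by
    rw [← hz, Subgroup.zpowers_le]
    exact Subgroup.subset_closure (by simp)
  have hUT := hmax _ hUG hp hTU
  have h1 : γ * τ * γ⁻¹ ∈ T := hUT (Subgroup.subset_closure (by simp))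
  obtain ⟨τ₁, hτ₁, hn⟩ := hγT
  apply hn
  rw [← hz] at hτ₁
  obtain ⟨k, rfl⟩ := Subgroup.mem_zpowers_iff.mp hτ₁
  rw [← conj_zpow]
  exact Subgroup.zpow_mem _ h1 k

end General

section Comm

variable {H : Type*} [CommGroup H] [Finite H] {p : ℕ} [Fact p.Prime]

theorem Ax_eq (hH : IsPGroup p H) (Zp : Subgroup H) (hZidx : Zp.index = p) {τ : MulAut H}
    (hfix : ∀ z ∈ Zp, τ z = z) (hτ : τ ≠ 1) : Ax τ = Zp := by
  apply le_antisymm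
  · intro y hy
    by_contra hyZ
    apply hτ
    have htop := Cfsg.Agent.Lib.Helper88.SmallComm.sup_zpowers_eq_top hH Zp hZidx.le hyZ
    have hle : Zp ⊔ Subgroup.zpowers y ≤ Ax τ :=
      sup_le (fun z hz => mem_Ax.mpr (hfix z hz)) (by rw [Subgroup.zpowers_le]; exact hy)
    rw [htop] at hle
    apply MulEquiv.ext
    intro x
    exact mem_Ax.mp (hle (Subgroup.mem_top x))
  · exact fun z hz => mem_Ax.mpr (hfix z hz)

theorem Ax_conj_eq (hH : IsPGroup p H) (Zp : Subgroup H) (hZidx : Zp.index = p) {τ : MulAut H}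
    (hfix : ∀ z ∈ Zp, τ z = z) (hτ : τ ≠ 1) (γ : MulAut H) :
    Ax (γ * τ * γ⁻¹) = Zp.map γ.toMonoidHom := by
  ext x
  rw [mem_Ax_conj, Ax_eq hH Zp hZidx hfix hτ]
  constructor
  · intro h
    exact ⟨γ⁻¹ x, h, by
      show γ (γ⁻¹ x) = x
      exact MulAut.apply_inv_self _ γ x⟩
  · rintro ⟨z, hz, rfl⟩
    show γ⁻¹ (γ z) ∈ Zp
    rw [MulAut.inv_apply_self]
    exact hz

theorem transv_hyps (hH : IsPGroup p H) (Zp : Subgroup H) (hZidx : Zp.index = p) {τ : MulAut H}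
    (hfix : ∀ z ∈ Zp, τ z = z) (hD : ∀ y, y⁻¹ * τ y ∈ Zp) (hτ : τ ≠ 1) (γ : MulAut H) :
    Dg τ ≤ Zp ∧ Dg τ ≤ Ax τ ∧ Dg (γ * τ * γ⁻¹) ≤ Ax (γ * τ * γ⁻¹) ∧ Nat.card (Dg τ) = p ∧
      Nat.card (Dg (γ * τ * γ⁻¹)) = p := by
  have hAx := Ax_eq hH Zp hZidx hfix hτ
  have hAx' := Ax_conj_eq hH Zp hZidx hfix hτ γ
  have hDZ : Dg τ ≤ Zp := by
    rintro _ ⟨y, rfl⟩
    exact hD y
  have hc : Nat.card (Dg τ) = p := by rw [← index_Ax, hAx, hZidx]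
  refine ⟨hDZ, by rw [hAx]; exact hDZ, ?_, hc, ?_⟩
  · rw [Dg_conj, hAx']
    exact Subgroup.map_mono hDZ
  · rw [Dg_conj, Subgroup.card_map_of_injective (f := γ.toMonoidHom) γ.injective]
    exact hc

theorem local_main (hH : IsPGroup p H) (Zp : Subgroup H) (hZidx : Zp.index = p)
    (G T : Subgroup (MulAut H)) (hTG : T ≤ G)
    (hT1 : ∀ τ ∈ T, ∀ z ∈ Zp, τ z = z) (hT2 : ∀ τ ∈ T, ∀ y, y⁻¹ * τ y ∈ Zp)
    (hmax : ∀ U : Subgroup (MulAut H), U ≤ G → IsPGroup p U → T ≤ U → U ≤ T)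
    {τ γ : MulAut H} (hτT : τ ∈ T) (hτ : τ ≠ 1) (hγ : γ ∈ G)
    (hnp : ¬ IsPGroup p (Subgroup.closure ({τ, γ * τ * γ⁻¹} : Set (MulAut H)))) :
    ∃ h ∈ G, (∀ τ' ∈ T, h * τ' * h⁻¹ ∈ T) ∧ (∀ d ∈ Dg τ, h d = d⁻¹) ∧
      (∀ w ∈ Zp ⊓ Zp.map γ.toMonoidHom, h w = w) ∧
      (∀ z ∈ Zp, ∃ d ∈ Dg τ, ∃ w ∈ Zp ⊓ Zp.map γ.toMonoidHom, z = d * w) := by
  have hfix := hT1 τ hτT
  have hAx := Ax_eq hH Zp hZidx hfix hτ
  have hAx' := Ax_conj_eq hH Zp hZidx hfix hτ γ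
  obtain ⟨hDZ, h1, h2, hc, hc'⟩ := transv_hyps hH Zp hZidx hfix (hT2 τ hτT) hτ γ
  obtain ⟨hA, hB, -, hdec⟩ := pair_decomp hH τ (γ * τ * γ⁻¹) h1 h2 hc hc' hnp
  obtain ⟨ζ, hζcl, hζinv, hζfix⟩ := exists_inverting hH τ (γ * τ * γ⁻¹) h1 h2 hc hc' hnp
  have hζG : ζ ∈ G := by
    have : Subgroup.closure ({τ, γ * τ * γ⁻¹} : Set (MulAut H)) ≤ G := by
      rw [Subgroup.closure_le]
      intro x hx
      simp only [Set.mem_insert_iff, Set.mem_singleton_iff] at hx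
      rcases hx with rfl | rfl
      · exact hTG hτT
      · exact G.mul_mem (G.mul_mem hγ (hTG hτT)) (G.inv_mem hγ)
    exact this hζcl
  have hW : Ax τ ⊓ Ax (γ * τ * γ⁻¹) = Zp ⊓ Zp.map γ.toMonoidHom := by rw [hAx, hAx']
  have hdecZ : ∀ z ∈ Zp, ∃ d ∈ Dg τ, ∃ w ∈ Zp ⊓ Zp.map γ.toMonoidHom, z = d * w := by
    intro z hz
    obtain ⟨u, hu, c, hc0, rfl⟩ := hdec z
    obtain ⟨d, hd, d', hd', rfl⟩ := Subgroup.mem_sup.mp hu
    rw [hW] at hc0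
    have hd'Z : d' ∈ Zp := by
      have e : d' = d⁻¹ * (d * d' * c) * c⁻¹ := by
        apply Additive.ofMul.injective
        simp only [ofMul_mul, ofMul_inv]
        abel
      rw [e]
      exact Zp.mul_mem (Zp.mul_mem (Zp.inv_mem (hDZ hd)) hz) (Zp.inv_mem hc0.1)
    have hd'1 : d' = 1 := by
      have : d' ∈ Dg (γ * τ * γ⁻¹) ⊓ Ax τ := ⟨hd', by rw [hAx]; exact hd'Z⟩
      rw [hA] at this
      exact this
    exact ⟨d, hd, c, hc0, by rw [hd'1, mul_one]⟩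
  have hζZ : ∀ z ∈ Zp, ζ z ∈ Zp := by
    intro z hz
    obtain ⟨d, hd, w, hw, rfl⟩ := hdecZ z hz
    rw [map_mul, hζinv d (Subgroup.mem_sup_left hd), hζfix w (by rw [hW]; exact hw)]
    exact Zp.mul_mem (Zp.inv_mem (hDZ hd)) hw.1
  have hζζ : ∀ z ∈ Zp, ζ (ζ z) = z := by
    intro z hz
    obtain ⟨d, hd, w, hw, rfl⟩ := hdecZ z hz
    have hw' : w ∈ Ax τ ⊓ Ax (γ * τ * γ⁻¹) := by rw [hW]; exact hw
    rw [map_mul, hζinv d (Subgroup.mem_sup_left hd), hζfix w hw', map_mul, map_inv,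
      hζinv d (Subgroup.mem_sup_left hd), inv_inv, hζfix w hw']
  have hζinvZ : ∀ z ∈ Zp, ζ⁻¹ z ∈ Zp := by
    intro z hz
    have e : ζ⁻¹ z = ζ z := by
      have h := hζζ z hz
      calc ζ⁻¹ z = ζ⁻¹ (ζ (ζ z)) := by rw [h]
        _ = ζ z := MulAut.inv_apply_self _ _ _
    rw [e]
    exact hζZ z hz
  refine ⟨ζ, hζG, ?_, fun d hd => hζinv d (Subgroup.mem_sup_left hd),
    fun w hw => hζfix w (by rw [hW]; exact hw), hdecZ⟩
  intro τ' hτ'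
  have hU : chainStab Zp Zp le_rfl ⊓ G ≤ T := by
    apply hmax _ inf_le_right ((isPGroup_chainStab hH Zp Zp le_rfl).to_le inf_le_left)
    intro t ht
    exact ⟨⟨hT2 t ht, fun x _ => hT2 t ht x, fun x hx => hT1 t ht x hx⟩, hTG ht⟩
  apply hU
  have key : ∀ y, y⁻¹ * (ζ * τ' * ζ⁻¹) y ∈ Zp := by
    intro y
    have e : y⁻¹ * (ζ * τ' * ζ⁻¹) y = ζ ((ζ⁻¹ y)⁻¹ * τ' (ζ⁻¹ y)) := by
      rw [map_mul, map_inv, MulAut.apply_inv_self]
      rfl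
    rw [e]
    exact hζZ _ (hT2 τ' hτ' _)
  refine ⟨⟨key, fun y _ => key y, fun y hy => ?_⟩,
    G.mul_mem (G.mul_mem hζG (hTG hτ')) (G.inv_mem hζG)⟩
  show ζ (τ' (ζ⁻¹ y)) = y
  rw [hT1 τ' hτ' _ (hζinvZ y hy), MulAut.apply_inv_self]

theorem card_le (hH : IsPGroup p H) (Zp : Subgroup H) (hZidx : Zp.index = p)
    (T : Subgroup (MulAut H))
    (hT1 : ∀ τ ∈ T, ∀ z ∈ Zp, τ z = z) (hT2 : ∀ τ ∈ T, ∀ y, y⁻¹ * τ y ∈ Zp) {γ : MulAut H}
    (hnp : ∀ τ ∈ T, τ ≠ 1 →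
      ¬ IsPGroup p (Subgroup.closure ({τ, γ * τ * γ⁻¹} : Set (MulAut H)))) :
    Nat.card T ≤ p := by
  have hp : p.Prime := Fact.out
  obtain ⟨x, hx⟩ : ∃ x : H, x ∉ Zp := by
    by_contra hcon
    have : Zp = ⊤ := eq_top_iff.mpr fun x _ => by_contra fun h => hcon ⟨x, h⟩
    rw [this, Subgroup.index_top] at hZidx
    exact hp.one_lt.ne hZidx
  let f : T →* H ⧸ Zp.map γ.toMonoidHom :=
    { toFun := fun τ => QuotientGroup.mk (x⁻¹ * (τ : MulAut H) x)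
      map_one' := by
        show (QuotientGroup.mk (x⁻¹ * (1 : MulAut H) x) : H ⧸ Zp.map γ.toMonoidHom) = 1
        rw [MulAut.one_apply, inv_mul_cancel]
        rfl
      map_mul' := by
        intro τ τ'
        rw [← QuotientGroup.mk_mul]
        congr 1
        obtain ⟨c', hc'⟩ : ∃ c', c' = x⁻¹ * (τ' : MulAut H) x := ⟨_, rfl⟩
        have e : (τ' : MulAut H) x = x * c' := by rw [hc']; group
        show x⁻¹ * (τ : MulAut H) ((τ' : MulAut H) x) =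
          x⁻¹ * (τ : MulAut H) x * (x⁻¹ * (τ' : MulAut H) x)
        rw [← hc', e, map_mul, hT1 τ τ.2 c' (by rw [hc']; exact hT2 τ' τ'.2 x), mul_assoc] }
  have hf : ∀ τ : T, f τ = QuotientGroup.mk (x⁻¹ * (τ : MulAut H) x) := fun τ => rfl
  have hinj : Function.Injective f := by
    rw [injective_iff_map_eq_one]
    intro τ hτ
    rw [hf, QuotientGroup.eq_one_iff] at hτ
    by_contra hτ1
    have hτ1' : (τ : MulAut H) ≠ 1 := fun h => hτ1 (Subtype.ext h)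
    have hfix := hT1 τ τ.2
    obtain ⟨hDZ, h1, h2, hc, hc'⟩ := transv_hyps hH Zp hZidx hfix (hT2 τ τ.2) hτ1' γ
    obtain ⟨-, hB, -, -⟩ := pair_decomp hH (τ : MulAut H) (γ * τ * γ⁻¹) h1 h2 hc hc'
      (hnp τ τ.2 hτ1')
    have hmem : x⁻¹ * (τ : MulAut H) x ∈ Dg (τ : MulAut H) ⊓ Ax (γ * (τ : MulAut H) * γ⁻¹) :=
      ⟨cm_mem _ x, by rw [Ax_conj_eq hH Zp hZidx hfix hτ1' γ]; exact hτ⟩
    rw [hB, Subgroup.mem_bot, inv_mul_eq_one] at hmem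
    apply hx
    rw [← Ax_eq hH Zp hZidx hfix hτ1']
    exact mem_Ax.mpr hmem.symm
  have h1 := Nat.card_le_card_of_injective f hinj
  have h2 : Nat.card (H ⧸ Zp.map γ.toMonoidHom) = p := by
    rw [← Subgroup.index_eq_card, ← hZidx]
    exact Subgroup.index_map_equiv (H := Zp) γ
  rw [h2] at h1
  exact h1

end Comm

section Bridge

variable {H : Type*} [Group H] [Finite H] {p : ℕ} [Fact p.Prime]

/-- `card_le` for a group with a commutativity hypothesis. -/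
theorem card_le' (hcomm : ∀ a b : H, a * b = b * a) (hH : IsPGroup p H) (Zp : Subgroup H)
    (hZidx : Zp.index = p) (T : Subgroup (MulAut H))
    (hT1 : ∀ τ ∈ T, ∀ z ∈ Zp, τ z = z) (hT2 : ∀ τ ∈ T, ∀ y, y⁻¹ * τ y ∈ Zp) {γ : MulAut H}
    (hnp : ∀ τ ∈ T, τ ≠ 1 →
      ¬ IsPGroup p (Subgroup.closure ({τ, γ * τ * γ⁻¹} : Set (MulAut H)))) :
    Nat.card T ≤ p := by
  letI inst : CommGroup H := { (inferInstance : Group H) with mul_comm := hcomm }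
  exact card_le hH Zp hZidx T hT1 hT2 hnp

/-- `local_main` for a group with a commutativity hypothesis, with `[H, τ]` replaced by a given
subgroup `D` of order `p` containing all `y⁻¹ τ(y)`, `τ ∈ T`. -/
theorem local_main' (hcomm : ∀ a b : H, a * b = b * a) (hH : IsPGroup p H) (Zp : Subgroup H)
    (hZidx : Zp.index = p) (G T : Subgroup (MulAut H)) (hTG : T ≤ G)
    (hT1 : ∀ τ ∈ T, ∀ z ∈ Zp, τ z = z)
    (hmax : ∀ U : Subgroup (MulAut H), U ≤ G → IsPGroup p U → T ≤ U → U ≤ T)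
    (D : Subgroup H) (hDcard : Nat.card D = p) (hDZ : D ≤ Zp)
    (hT2 : ∀ τ ∈ T, ∀ y, y⁻¹ * τ y ∈ D)
    {τ γ : MulAut H} (hτT : τ ∈ T) (hτ : τ ≠ 1) (hγ : γ ∈ G)
    (hnp : ¬ IsPGroup p (Subgroup.closure ({τ, γ * τ * γ⁻¹} : Set (MulAut H)))) :
    ∃ h ∈ G, (∀ τ' ∈ T, h * τ' * h⁻¹ ∈ T) ∧ (∀ d ∈ D, h d = d⁻¹) ∧
      (∀ w ∈ Zp ⊓ Zp.map γ.toMonoidHom, h w = w) ∧
      (∀ z ∈ Zp, ∃ d ∈ D, ∃ w ∈ Zp ⊓ Zp.map γ.toMonoidHom, z = d * w) := by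
  letI inst : CommGroup H := { (inferInstance : Group H) with mul_comm := hcomm }
  have hT2' : ∀ τ ∈ T, ∀ y, y⁻¹ * τ y ∈ Zp := fun τ hτ y => hDZ (hT2 τ hτ y)
  obtain ⟨h, hG, hn, hinv, hfix, hdec⟩ :=
    local_main hH Zp hZidx G T hTG hT1 hT2' hmax hτT hτ hγ hnp
  have hDg : Dg τ = D := by
    apply Subgroup.eq_of_le_of_card_ge
    · rintro _ ⟨y, rfl⟩
      exact hT2 τ hτT y
    · rw [hDcard, (transv_hyps hH Zp hZidx (hT1 τ hτT) (hT2' τ hτT) hτ γ).2.2.2.1]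
  rw [hDg] at hinv hdec
  exact ⟨h, hG, hn, hinv, hfix, hdec⟩

end Bridge

end Cfsg.Agent.Lib.Helper88.AbLocal
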