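import Mathlib
import Cfsg.Prelude.Def_FusionSystem
import Cfsg.Agent.H84.FusZ1
import Cfsg.Agent.Lib.Helper87.FSSat

/-!
# Tracking a central subgroup through the maps of a saturated fusion system

Let `Z` be a central subgroup of `S` preserved by `Aut_F(S)`, and `m₀` a bound such that every
essential subgroup `E` of order larger than `m₀` contains `Z` and has `Z` invariant under
`Aut_F(E)`.  Then every map of `F` defined on a subgroup of order larger than `m₀` agrees on `Z`
(in both directions) with an element of `Aut_F(S)` (`zcontrol`).  The proof applies Alperin's fusion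
theorem to the subsystems `zSys F Z hZ m` by downward induction on `m`.

* `exists_ext_normalizer'`: an automorphism in `Aut_F(P)`, `P` fully normalized, normalizing
  `Aut_S(P)` extends to `N_S(P)`.
-/

set_option autoImplicit false

namespace Cfsg.Agent.Lib.Helper88.ZControl

open Cfsg Cfsg.FusionSystem

variable {Ω : Type*} [Group Ω] {S : Subgroup Ω}

/-- The map `φ` agrees with some `β ∈ Aut_F(S)` on all `x` such that `x ∈ Z` or `φ x ∈ Z`. -/
def ZProp (F : FusionSystem S) (Z : Subgroup Ω) {P : Subgroup Ω} (φ : P →* Ω) : Prop :=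
  ∃ β ∈ F.autGroup S, ∀ (x : P) (hx : (x : Ω) ∈ S),
    ((x : Ω) ∈ Z ∨ φ x ∈ Z) → φ x = ((β ⟨x, hx⟩ : S) : Ω)

/-- The subsystem of the maps of `F` which either have a source of order at most `m` or satisfy
`ZProp`. -/
def zSys [Finite S] (F : FusionSystem S) (Z : Subgroup Ω)
    (hZ : ∀ β ∈ F.autGroup S, ∀ z : S, (z : Ω) ∈ Z → ((β z : S) : Ω) ∈ Z) (m : ℕ) :
    FusionSystem S where
  Hom P := {φ | φ ∈ F.Hom P ∧ (Nat.card P ≤ m ∨ ZProp F Z φ)}
  le_of_mem h := F.le_of_mem h.1
  injective_of_mem h := F.injective_of_mem h.1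
  conj_mem := by
    intro P g hP hg
    exact ⟨F.conj_mem hP hg, Or.inr ⟨MulAut.conj (⟨g, hg⟩ : S),
      Cfsg.Agent.H84.inn_le_autGroup F le_rfl ⟨_, rfl⟩, fun x hx _ => rfl⟩⟩
  comp_mem := by
    rintro P Q φ ψ ⟨hφ, hφ'⟩ ⟨hψ, hψ'⟩ h
    refine ⟨F.comp_mem hφ hψ h, ?_⟩
    rcases hφ' with hcard | ⟨β, hβ, hβφ⟩
    · exact Or.inl hcard
    · by_cases hm : Nat.card P ≤ m
      · exact Or.inl hm
      · right
        have hQS : Q ≤ S := (F.le_of_mem hψ).1
        haveI : Finite Q := Cfsg.Agent.H84.finite_of_le hQS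
        have hPQ : Nat.card P ≤ Nat.card Q :=
          Nat.card_le_card_of_injective (φ.codRestrict Q h)
            (fun a b hab => F.injective_of_mem hφ (congrArg Subtype.val hab))
        rcases hψ' with hcard | ⟨β', hβ', hβψ⟩
        · omega
        · refine ⟨β' * β, Subgroup.mul_mem _ hβ' hβ, fun x hx hor => ?_⟩
          have hφS : φ x ∈ S := (F.le_of_mem hφ).2 x
          show ψ ⟨φ x, h x⟩ = ((β' (β ⟨x, hx⟩) : S) : Ω)
          rcases hor with hxZ | hψZ
          · have e1 := hβφ x hx (Or.inl hxZ)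
            have hφZ : φ x ∈ Z := by
              rw [e1]
              exact hZ β hβ _ hxZ
            have e2 := hβψ ⟨φ x, h x⟩ hφS (Or.inl hφZ)
            rw [e2]
            have e3 : (⟨φ x, hφS⟩ : S) = β ⟨x, hx⟩ := Subtype.ext e1
            rw [e3]
          · have e2 := hβψ ⟨φ x, h x⟩ hφS (Or.inr hψZ)
            have hφZ : φ x ∈ Z := by
              have h1 : ((β'⁻¹ (β' ⟨φ x, hφS⟩) : S) : Ω) ∈ Z :=
                hZ β'⁻¹ (Subgroup.inv_mem _ hβ') _ (by rw [← e2]; exact hψZ)
              rwa [MulAut.inv_apply_self] at h1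
            have e1 := hβφ x hx (Or.inr hφZ)
            rw [e2]
            have e3 : (⟨φ x, hφS⟩ : S) = β ⟨x, hx⟩ := Subtype.ext e1
            rw [e3]
  inv_mem := by
    rintro P φ ⟨hφ, hφ'⟩
    obtain ⟨ψ, hψ, hinv⟩ := F.inv_mem hφ
    refine ⟨ψ, ⟨hψ, ?_⟩, hinv⟩
    rcases hφ' with hcard | ⟨β, hβ, hβφ⟩
    · left
      rw [Cfsg.Agent.Lib.Helper87.FSSat.card_range F hφ]
      exact hcard
    · right
      refine ⟨β⁻¹, Subgroup.inv_mem _ hβ, ?_⟩
      rintro ⟨y, x, rfl⟩ hy hor
      have hxS : (x : Ω) ∈ S := (F.le_of_mem hφ).1 x.2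
      have hinvx : ψ ⟨φ x, ⟨x, rfl⟩⟩ = (x : Ω) := hinv x
      rw [hinvx] at hor ⊢
      have e1 := hβφ x hxS hor.symm
      have e3 : (⟨φ x, hy⟩ : S) = β ⟨x, hxS⟩ := Subtype.ext e1
      rw [e3, MulAut.inv_apply_self]

theorem mem_zSys_iff [Finite S] (F : FusionSystem S) (Z : Subgroup Ω)
    (hZ : ∀ β ∈ F.autGroup S, ∀ z : S, (z : Ω) ∈ Z → ((β z : S) : Ω) ∈ Z) (m : ℕ)
    {P : Subgroup Ω} (φ : P →* Ω) :
    φ ∈ (zSys F Z hZ m).Hom P ↔ φ ∈ F.Hom P ∧ (Nat.card P ≤ m ∨ ZProp F Z φ) := Iff.rfl

/-- An automorphism in `Aut_F(P)`, `P` fully normalized, which normalizes `Aut_S(P)` extends to a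
map of `F` on `N_S(P)`. -/
theorem exists_ext_normalizer' [Finite S] {p : ℕ} [Fact p.Prime] (hS : IsPGroup p S)
    (F : FusionSystem S) (hF : F.IsSaturated p) {P : Subgroup Ω} (hfn : F.IsFullyNormalized P)
    {ν : MulAut P} (hν : ν ∈ F.autGroup P)
    (hνT : ∀ τ ∈ autInducedBy S P, ν * τ * ν⁻¹ ∈ autInducedBy S P) :
    ∃ ψ ∈ F.Hom (normalizerIn S P), ∀ (x : P) (hx : (x : Ω) ∈ normalizerIn S P),
      ψ ⟨x, hx⟩ = ν x := by
  have hPS := hfn.1
  have hrec : F.IsReceptive P := Cfsg.Agent.H84.receptive_of_fc hS F hF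
    (Cfsg.Agent.H84.fullyCentralized_of_fn hS F hF hfn)
  have hφ : P.subtype.comp ν.toMonoidHom ∈ F.Hom P :=
    (Cfsg.Agent.H84.mem_autGroup_iff F hPS ν).mp hν
  obtain ⟨ψ, hψ, hψφ⟩ := hrec.2 P _ hφ (Cfsg.Agent.H84.range_subtype_comp_aut ν)
  have hle : normalizerIn S P ≤ extender S P (P.subtype.comp ν.toMonoidHom) := by
    rintro g ⟨hg, hgN⟩
    have hτ : P.normalizerMonoidHom ⟨g, hgN⟩ ∈ autInducedBy S P :=
      (Cfsg.Agent.H84.mem_autInducedBy_iff S P _).mpr ⟨g, hg, fun x => rfl⟩
    obtain ⟨h, hh, hhα⟩ := (Cfsg.Agent.H84.mem_autInducedBy_iff S P _).mp (hνT _ hτ)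
    refine (Cfsg.Agent.H84.mem_extender_iff S P _ g).mpr ⟨hg, hgN, h, hh, fun x hx => ?_⟩
    have := hhα (ν x)
    rw [MulAut.mul_apply, MulAut.mul_apply, MulAut.inv_apply_self] at this
    exact this
  refine ⟨ψ.comp (Subgroup.inclusion hle), Cfsg.Agent.H84.hom_restrict F hψ hle, fun x hx => ?_⟩
  exact hψφ x x.2 (hle hx)

/-- **Control of a central subgroup.**  Every map of `F` defined on a subgroup of order larger than
`m₀` agrees on `Z` with an element of `Aut_F(S)`. -/
theorem zcontrol [Finite S] {p : ℕ} [Fact p.Prime] (hS : IsPGroup p S) (F : FusionSystem S)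
    (hF : F.IsSaturated p) (Z : Subgroup Ω)
    (hZc : ∀ s ∈ S, ∀ z ∈ Z, s * z * s⁻¹ = z)
    (hZ : ∀ β ∈ F.autGroup S, ∀ z : S, (z : Ω) ∈ Z → ((β z : S) : Ω) ∈ Z) (m₀ : ℕ)
    (hess : ∀ E : Subgroup Ω, F.IsEssential p E → m₀ < Nat.card E →
      Z ≤ E ∧ ∀ α ∈ F.autGroup E, ∀ z : E, (z : Ω) ∈ Z → ((α z : E) : Ω) ∈ Z)
    {R : Subgroup Ω} {φ : R →* Ω} (hφ : φ ∈ F.Hom R) (hR : m₀ < Nat.card R) : ZProp F Z φ := by
  have key : ∀ d : ℕ, ∀ m : ℕ, m₀ ≤ m → Nat.card S ≤ m + d → ∀ (R : Subgroup Ω) (φ : R →* Ω),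
      φ ∈ F.Hom R → m < Nat.card R → ZProp F Z φ := by
    intro d
    induction d with
    | zero =>
      intro m _ hm R φ hφ hR
      have : Nat.card R ≤ Nat.card S := Subgroup.card_le_of_le (F.le_of_mem hφ).1
      omega
    | succ d ih =>
      intro m hm₀ hm R φ hφ hR
      have IH := ih (m + 1) (by omega) (by omega)
      have hle : F ≤ zSys F Z hZ m := by
        apply Cfsg.Agent.S5082.result p hS F hF
        intro P hP α hα
        have hPS : P ≤ S := by
          rcases hP with rfl | hP
          · exact le_rfl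
          · exact hP.1.1
        rw [Cfsg.Agent.H84.mem_autGroup_iff _ hPS]
        have hαF := (Cfsg.Agent.H84.mem_autGroup_iff F hPS α).mp hα
        refine ⟨hαF, ?_⟩
        by_cases hcard : Nat.card P ≤ m
        · exact Or.inl hcard
        · right
          rcases hP with rfl | hP
          · exact ⟨α, hα, fun x hx _ => rfl⟩
          · obtain ⟨hZP, hαZ⟩ := hess P hP (by omega)
            haveI : Finite P := Cfsg.Agent.H84.finite_of_le hPS
            have hfn := hP.2.1
            obtain ⟨-, Rs, hRs⟩ := Cfsg.Agent.H84.fullyAutomized_of_fn hS F hF hfn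
            -- the normal subgroup of the automorphisms fixing `Z` elementwise
            let C : Subgroup (F.autGroup P) :=
              { carrier := {a | ∀ z : P, (z : Ω) ∈ Z → (a : MulAut P) z = z}
                one_mem' := fun z _ => rfl
                mul_mem' := by
                  intro a b ha hb z hz
                  show (a : MulAut P) ((b : MulAut P) z) = z
                  rw [hb z hz, ha z hz]
                inv_mem' := by
                  intro a ha z hz
                  show (a : MulAut P)⁻¹ z = z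
                  have := ha z hz
                  calc (a : MulAut P)⁻¹ z = (a : MulAut P)⁻¹ ((a : MulAut P) z) := by rw [this]
                    _ = z := MulAut.inv_apply_self _ _ _ }
            have hCn : C.Normal := by
              constructor
              intro a ha b z hz
              show (b : MulAut P) ((a : MulAut P) ((b : MulAut P)⁻¹ z)) = z
              have h1 : (((b : MulAut P)⁻¹ z : P) : Ω) ∈ Z :=
                hαZ _ (Subgroup.inv_mem _ b.2) z hz
              rw [ha _ h1, MulAut.apply_inv_self]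
            have hTC : (Rs : Subgroup (F.autGroup P)) ≤ C := by
              rw [hRs]
              intro a ha z hz
              obtain ⟨g, hg, hga⟩ := (Cfsg.Agent.H84.mem_autInducedBy_iff S P _).mp
                (Subgroup.mem_subgroupOf.mp ha)
              apply Subtype.ext
              rw [hga]
              exact hZc g hg z hz
            have hfrat := Sylow.normalizer_sup_eq_top' Rs hTC
            have hmem : (⟨α, hα⟩ : F.autGroup P) ∈ (⊤ : Subgroup (F.autGroup P)) :=
              Subgroup.mem_top _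
            rw [← hfrat] at hmem
            obtain ⟨ν, hν, c, hc, hνc⟩ := Subgroup.mem_sup_of_normal_right.mp hmem
            have hνT : ∀ τ ∈ autInducedBy S P, (ν : MulAut P) * τ * (ν : MulAut P)⁻¹ ∈
                autInducedBy S P := by
              intro τ hτ
              have hτG := Cfsg.Agent.H84.autInducedBy_le_autGroup F hPS hτ
              have h1 : (⟨τ, hτG⟩ : F.autGroup P) ∈ (Rs : Subgroup (F.autGroup P)) := by
                rw [hRs]
                exact Subgroup.mem_subgroupOf.mpr hτ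
              have h2 := (Subgroup.mem_normalizer_iff.mp hν _).mp h1
              rw [hRs] at h2
              exact Subgroup.mem_subgroupOf.mp h2
            obtain ⟨ψ, hψ, hψν⟩ := exists_ext_normalizer' hS F hF hfn ν.2 hνT
            have hne : P ≠ S := Cfsg.Agent.H84.FusZ.ess_ne hS F hF hP
            have hNS : normalizerIn S P ≤ S := inf_le_left
            haveI : Finite (normalizerIn S P) := Cfsg.Agent.H84.finite_of_le hNS
            have hPN : P ≤ normalizerIn S P := fun x hx => ⟨hPS hx, Subgroup.le_normalizer hx⟩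
            have hNcard : Nat.card P < Nat.card (normalizerIn S P) := by
              by_contra hcon
              have heq := Subgroup.eq_of_le_of_card_ge hPN (not_lt.mp hcon)
              obtain ⟨g, hgS, hgN, hgP⟩ :=
                Cfsg.Agent.Lib.Helper87.FSSat.exists_normalizer_not_mem hS hPS hne
              apply hgP
              rw [heq]
              exact ⟨hgS, hgN⟩
            obtain ⟨β, hβ, hβψ⟩ := IH (normalizerIn S P) ψ hψ (by omega)
            refine ⟨β, hβ, fun x hx hor => ?_⟩
            have hxZ : (x : Ω) ∈ Z := by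
              rcases hor with h | h
              · exact h
              · have h1 : ((α⁻¹ (α x) : P) : Ω) ∈ Z := hαZ α⁻¹ (Subgroup.inv_mem _ hα) _ h
                rwa [MulAut.inv_apply_self] at h1
            have e1 : α = (ν : MulAut P) * (c : MulAut P) := by
              have := congrArg Subtype.val hνc
              exact this.symm
            have e2 : α x = (ν : MulAut P) x := by
              rw [e1, MulAut.mul_apply, hc x hxZ]
            show ((α x : P) : Ω) = _
            rw [e2, ← hψν x (hPN x.2)]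
            exact hβψ ⟨x, hPN x.2⟩ hx (Or.inl hxZ)
      exact ((hle R hφ).2).resolve_left (by omega)
  exact key (Nat.card S) m₀ le_rfl (by omega) R φ hφ hR

end Cfsg.Agent.Lib.Helper88.ZControl
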