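import Mathlib
import Cfsg.Prelude.Def_FusionSystem
import Cfsg.Agent.Lib.Helper88.SmallComm
import Cfsg.Agent.Lib.Helper88.AbLocal
import Cfsg.Agent.Lib.Helper88.ZControl

/-!
# Abelian essential subgroups with a central subgroup of index `p`

`P` is an abelian essential subgroup of the saturated fusion system `F` over `S`, and `Z ≤ P` is a
subgroup of index `p` central in `S` with `[P, N_S(P)] ≤ Z`.  Then `|Aut_S(P)| ≤ p`
(`card_autS_le`), and for `γ ∈ Aut_F(P)` not normalizing `Aut_S(P)` there is `h ∈ Aut_F(P)`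
normalizing `Aut_S(P)`, inverting `D = [P, N_S(P)]` and centralizing `Z ∩ γ(Z)`, with
`Z = D × (Z ∩ γ(Z))` (`exists_h`).  `exists_beta_of_h` transfers the action of such `h` on `Z` to
an element of `Aut_F(S)`.
-/

set_option autoImplicit false

namespace Cfsg.Agent.Lib.Helper88.AbEss

open Cfsg Cfsg.FusionSystem

variable {Ω : Type*} [Group Ω] {S : Subgroup Ω} [Finite S] {p : ℕ} [Fact p.Prime]

/-- `Aut_S(P)` is a maximal `p`-subgroup of `Aut_F(P)` for `P` fully normalized. -/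
theorem autS_max (hS : IsPGroup p S) (F : FusionSystem S) (hF : F.IsSaturated p)
    {P : Subgroup Ω} (hfn : F.IsFullyNormalized P) :
    ∀ U : Subgroup (MulAut P), U ≤ F.autGroup P → IsPGroup p U → autInducedBy S P ≤ U →
      U ≤ autInducedBy S P := by
  intro U hUG hU hTU
  haveI := Cfsg.Agent.H84.finite_of_le hfn.1
  obtain ⟨-, Rs, hRs⟩ := Cfsg.Agent.H84.fullyAutomized_of_fn hS F hF hfn
  have h1 : (Rs : Subgroup (F.autGroup P)) ≤ U.subgroupOf (F.autGroup P) := by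
    rw [hRs]
    intro a ha
    exact Subgroup.mem_subgroupOf.mpr (hTU (Subgroup.mem_subgroupOf.mp ha))
  have h2 : U.subgroupOf (F.autGroup P) = (Rs : Subgroup (F.autGroup P)) :=
    Rs.is_maximal' hU.comap_subtype h1
  intro u hu
  have h3 : (⟨u, hUG hu⟩ : F.autGroup P) ∈ U.subgroupOf (F.autGroup P) :=
    Subgroup.mem_subgroupOf.mpr hu
  rw [h2] at h3
  have h4 : (⟨u, hUG hu⟩ : F.autGroup P) ∈ (autInducedBy S P).subgroupOf (F.autGroup P) := by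
    rw [← hRs]
    exact h3
  exact Subgroup.mem_subgroupOf.mp h4

theorem autS_facts {P : Subgroup Ω} (Z : Subgroup Ω) (hZc : ∀ s ∈ S, ∀ z ∈ Z, s * z * s⁻¹ = z)
    (D : Subgroup Ω) (hD : ∀ s ∈ S, ∀ y ∈ P, s * y * s⁻¹ ∈ P → y⁻¹ * (s * y * s⁻¹) ∈ D) :
    (∀ τ ∈ autInducedBy S P, ∀ z ∈ Z.subgroupOf P, τ z = z) ∧
    (∀ τ ∈ autInducedBy S P, ∀ y : P, y⁻¹ * τ y ∈ D.subgroupOf P) := by
  constructor
  · intro τ hτ z hz
    obtain ⟨s, hs, hτs⟩ := (Cfsg.Agent.H84.mem_autInducedBy_iff S P τ).mp hτ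
    apply Subtype.ext
    rw [hτs]
    exact hZc s hs z (Subgroup.mem_subgroupOf.mp hz)
  · intro τ hτ y
    obtain ⟨s, hs, hτs⟩ := (Cfsg.Agent.H84.mem_autInducedBy_iff S P τ).mp hτ
    rw [Subgroup.mem_subgroupOf]
    show (y : Ω)⁻¹ * ((τ y : P) : Ω) ∈ D
    rw [hτs y]
    exact hD s hs y y.2 (by rw [← hτs y]; exact (τ y).2)

theorem inn_eq_one {P : Subgroup Ω} (hPab : ∀ a ∈ P, ∀ b ∈ P, a * b = b * a) {α : MulAut P}
    (hα : α ∈ Inn P) : α = 1 := by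
  obtain ⟨y, rfl⟩ := hα
  apply MulEquiv.ext
  intro x
  apply Subtype.ext
  show (y : Ω) * x * (y : Ω)⁻¹ = x
  rw [hPab y y.2 x x.2, mul_inv_cancel_right]

/-- Conjugation by an element of `S` normalizing `E`, as an element of `Aut_S(E)`. -/
theorem exists_conj_elt {E : Subgroup Ω} {r : Ω} (hrS : r ∈ S) (h1 : ∀ x ∈ E, r * x * r⁻¹ ∈ E)
    (h2 : ∀ x ∈ E, r⁻¹ * x * r ∈ E) :
    ∃ c : MulAut E, c ∈ autInducedBy S E ∧ ∀ x : E, ((c x : E) : Ω) = r * x * r⁻¹ := by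
  have hrN : r ∈ Subgroup.normalizer (E : Set Ω) := by
    rw [Subgroup.mem_normalizer_iff]
    intro x
    constructor
    · exact h1 x
    · intro hx
      have h := h2 _ hx
      have e : r⁻¹ * (r * x * r⁻¹) * r = x := by group
      rwa [e] at h
  refine ⟨E.normalizerMonoidHom ⟨r, hrN⟩, ?_, fun x => rfl⟩
  exact (Cfsg.Agent.H84.mem_autInducedBy_iff S E _).mpr ⟨r, hrS, fun x => rfl⟩

/-- A proper subgroup of `S` is properly contained in its normalizer in `S`. -/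
theorem card_lt_normalizerIn (hS : IsPGroup p S) {P : Subgroup Ω} (hPS : P ≤ S) (hne : P ≠ S) :
    Nat.card P < Nat.card (normalizerIn S P) := by
  have hNS : normalizerIn S P ≤ S := inf_le_left
  haveI : Finite (normalizerIn S P) := Cfsg.Agent.H84.finite_of_le hNS
  have hPN : P ≤ normalizerIn S P := fun x hx => ⟨hPS hx, Subgroup.le_normalizer hx⟩
  by_contra hcon
  have heq := Subgroup.eq_of_le_of_card_ge hPN (not_lt.mp hcon)
  obtain ⟨g, hgS, hgN, hgP⟩ :=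
    Cfsg.Agent.Lib.Helper87.FSSat.exists_normalizer_not_mem hS hPS hne
  apply hgP
  rw [heq]
  exact ⟨hgS, hgN⟩

/-- A nontrivial `p`-group of order at most `p` has order `p`. -/
theorem card_eq_of_le {G : Type*} [Group G] [Finite G] (K : Subgroup G) (hK : IsPGroup p K)
    (hne : K ≠ ⊥) (hle : Nat.card K ≤ p) : Nat.card K = p := by
  have hp : p.Prime := Fact.out
  obtain ⟨n, hn⟩ := IsPGroup.iff_card.mp hK
  rcases Nat.eq_zero_or_pos n with h0 | hpos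
  · exfalso
    apply hne
    rw [h0, pow_zero] at hn
    exact Subgroup.card_eq_one.mp hn
  · have h1 : p ^ 1 ≤ p ^ n := Nat.pow_le_pow_right hp.pos hpos
    rw [pow_one, ← hn] at h1
    exact le_antisymm hle h1

/-- `|Aut_S(P)| ≤ p`. -/
theorem card_autS_le (hS : IsPGroup p S) (F : FusionSystem S) (hF : F.IsSaturated p)
    {P : Subgroup Ω} (hE : F.IsEssential p P) (hPab : ∀ a ∈ P, ∀ b ∈ P, a * b = b * a)
    (Z : Subgroup Ω) (hZidx : (Z.subgroupOf P).index = p)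
    (hZc : ∀ s ∈ S, ∀ z ∈ Z, s * z * s⁻¹ = z)
    (hcomm : ∀ s ∈ S, ∀ y ∈ P, s * y * s⁻¹ ∈ P → y⁻¹ * (s * y * s⁻¹) ∈ Z) :
    Nat.card (autInducedBy S P) ≤ p := by
  have hPS : P ≤ S := hE.1.1
  haveI := Cfsg.Agent.H84.finite_of_le hPS
  obtain ⟨g, hgA, hsep⟩ := Cfsg.Agent.Lib.Helper88.SmallComm.ess_sep hS F hF hE
  obtain ⟨hT1, hT2⟩ := autS_facts (P := P) Z hZc Z hcomm
  have hnp : ∀ τ ∈ autInducedBy S P, τ ≠ 1 →
      ¬ IsPGroup p (Subgroup.closure ({τ, g * τ * g⁻¹} : Set (MulAut P))) := by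
    intro τ hτ hτ1 hp
    have hτG := Cfsg.Agent.H84.autInducedBy_le_autGroup F hPS hτ
    have hUG : Subgroup.closure ({τ, g * τ * g⁻¹} : Set (MulAut P)) ≤ F.autGroup P := by
      rw [Subgroup.closure_le]
      intro x hx
      simp only [Set.mem_insert_iff, Set.mem_singleton_iff] at hx
      rcases hx with rfl | rfl
      · exact hτG
      · exact Subgroup.mul_mem _ (Subgroup.mul_mem _ hgA hτG) (Subgroup.inv_mem _ hgA)
    have h1 := hsep _ hUG hp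
      ⟨τ, Subgroup.subset_closure (by simp), hτ, fun h => hτ1 (inn_eq_one hPab h)⟩
      (g * τ * g⁻¹) (Subgroup.subset_closure (by simp)) (by
        have e : g⁻¹ * (g * τ * g⁻¹) * g = τ := by group
        rw [e]
        exact hτ)
    have h2 := inn_eq_one hPab h1
    apply hτ1
    have e : τ = g⁻¹ * (g * τ * g⁻¹) * g := by group
    rw [e, h2]
    group
  exact Cfsg.Agent.Lib.Helper88.AbLocal.card_le'
    (fun a b => Subtype.ext (hPab a a.2 b b.2)) (hS.to_le hPS) (Z.subgroupOf P) hZidx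
    (autInducedBy S P) hT1 hT2 hnp

/-- The element `h` for `γ ∈ Aut_F(P)` not normalizing `Aut_S(P)`. -/
theorem exists_h (hS : IsPGroup p S) (F : FusionSystem S) (hF : F.IsSaturated p)
    {P : Subgroup Ω} (hE : F.IsEssential p P) (hPab : ∀ a ∈ P, ∀ b ∈ P, a * b = b * a)
    (Z : Subgroup Ω) (hZidx : (Z.subgroupOf P).index = p)
    (hZc : ∀ s ∈ S, ∀ z ∈ Z, s * z * s⁻¹ = z)
    (D : Subgroup Ω) (hDcard : Nat.card D = p) (hDZ : D ≤ Z) (hDP : D ≤ P)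
    (hD : ∀ s ∈ S, ∀ y ∈ P, s * y * s⁻¹ ∈ P → y⁻¹ * (s * y * s⁻¹) ∈ D)
    (hTcard : Nat.card (autInducedBy S P) = p)
    {γ : MulAut P} (hγ : γ ∈ F.autGroup P)
    (hγT : ∃ τ₁ ∈ autInducedBy S P, γ * τ₁ * γ⁻¹ ∉ autInducedBy S P) :
    ∃ h ∈ F.autGroup P, (∀ τ' ∈ autInducedBy S P, h * τ' * h⁻¹ ∈ autInducedBy S P) ∧
      (∀ d : P, (d : Ω) ∈ D → h d = d⁻¹) ∧
      (∀ w : P, (w : Ω) ∈ Z → ((γ⁻¹ w : P) : Ω) ∈ Z → h w = w) ∧
      (∀ z : P, (z : Ω) ∈ Z → ∃ d w : P, (d : Ω) ∈ D ∧ (w : Ω) ∈ Z ∧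
        ((γ⁻¹ w : P) : Ω) ∈ Z ∧ z = d * w) := by
  have hPS : P ≤ S := hE.1.1
  haveI := Cfsg.Agent.H84.finite_of_le hPS
  have hTG := Cfsg.Agent.H84.autInducedBy_le_autGroup F hPS (S := S) (P := P)
  have hmax := autS_max hS F hF hE.2.1
  obtain ⟨hT1, hT2⟩ := autS_facts (P := P) Z hZc D hD
  obtain ⟨τ, hτT, hτ1⟩ := Cfsg.Agent.H84.Transv.exists_ne_one_of_card hTcard
  have hnp := Cfsg.Agent.Lib.Helper88.AbLocal.not_pgroup_of_card hTG hmax hTcard hτT hτ1 hγ hγT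
  have hDcard' : Nat.card (D.subgroupOf P) = p := by
    rw [← hDcard]
    exact Nat.card_congr (Subgroup.subgroupOfEquivOfLe hDP).toEquiv
  have hDZ' : D.subgroupOf P ≤ Z.subgroupOf P := fun x hx =>
    Subgroup.mem_subgroupOf.mpr (hDZ (Subgroup.mem_subgroupOf.mp hx))
  obtain ⟨h, hG, hn, hinv, hfix, hdec⟩ := Cfsg.Agent.Lib.Helper88.AbLocal.local_main'
    (fun a b => Subtype.ext (hPab a a.2 b b.2)) (hS.to_le hPS) (Z.subgroupOf P) hZidx
    (F.autGroup P) (autInducedBy S P) hTG hT1 hmax (D.subgroupOf P) hDcard' hDZ' hT2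
    hτT hτ1 hγ hnp
  have hW : ∀ w : P, (w : Ω) ∈ Z → ((γ⁻¹ w : P) : Ω) ∈ Z →
      w ∈ Z.subgroupOf P ⊓ (Z.subgroupOf P).map γ.toMonoidHom := by
    intro w hw hγw
    refine ⟨Subgroup.mem_subgroupOf.mpr hw, γ⁻¹ w, Subgroup.mem_subgroupOf.mpr hγw, ?_⟩
    show γ (γ⁻¹ w) = w
    exact MulAut.apply_inv_self _ γ w
  refine ⟨h, hG, hn, fun d hd => hinv d (Subgroup.mem_subgroupOf.mpr hd),
    fun w hw hγw => hfix w (hW w hw hγw), fun z hz => ?_⟩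
  obtain ⟨d, hd, w, ⟨hw1, z', hz', hw2⟩, e⟩ := hdec z (Subgroup.mem_subgroupOf.mpr hz)
  refine ⟨d, w, Subgroup.mem_subgroupOf.mp hd, Subgroup.mem_subgroupOf.mp hw1, ?_, e⟩
  have e2 : γ⁻¹ w = z' := by
    rw [← hw2]
    show γ⁻¹ (γ z') = z'
    exact MulAut.inv_apply_self _ γ z'
  rw [e2]
  exact Subgroup.mem_subgroupOf.mp hz'

/-- An element of `Aut_F(P)` normalizing `Aut_S(P)` acts on `Z` as an element of `Aut_F(S)`, in the
situation of `ZControl.zcontrol`. -/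
theorem exists_beta_of_h (hS : IsPGroup p S) (F : FusionSystem S) (hF : F.IsSaturated p)
    {P : Subgroup Ω} (hfn : F.IsFullyNormalized P) (Z : Subgroup Ω)
    (hZc : ∀ s ∈ S, ∀ z ∈ Z, s * z * s⁻¹ = z)
    (hZ : ∀ β ∈ F.autGroup S, ∀ z : S, (z : Ω) ∈ Z → ((β z : S) : Ω) ∈ Z) (m₀ : ℕ)
    (hess : ∀ E : Subgroup Ω, F.IsEssential p E → m₀ < Nat.card E →
      Z ≤ E ∧ ∀ α ∈ F.autGroup E, ∀ z : E, (z : Ω) ∈ Z → ((α z : E) : Ω) ∈ Z)
    (hN : m₀ < Nat.card (normalizerIn S P))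
    {h : MulAut P} (hh : h ∈ F.autGroup P)
    (hhT : ∀ τ ∈ autInducedBy S P, h * τ * h⁻¹ ∈ autInducedBy S P) :
    ∃ β ∈ F.autGroup S, ∀ z : P, (z : Ω) ∈ Z → ((h z : P) : Ω) = ((β ⟨z, hfn.1 z.2⟩ : S) : Ω) := by
  have hPS := hfn.1
  obtain ⟨ψ, hψ, hψh⟩ := Cfsg.Agent.Lib.Helper88.ZControl.exists_ext_normalizer' hS F hF hfn hh hhT
  obtain ⟨β, hβ, hβψ⟩ := Cfsg.Agent.Lib.Helper88.ZControl.zcontrol hS F hF Z hZc hZ m₀ hess hψ hN
  refine ⟨β, hβ, fun z hz => ?_⟩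
  have hzN : (z : Ω) ∈ normalizerIn S P := ⟨hPS z.2, Subgroup.le_normalizer z.2⟩
  rw [← hψh z hzN]
  exact hβψ ⟨z, hzN⟩ (hPS z.2) (Or.inl hz)

end Cfsg.Agent.Lib.Helper88.AbEss
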