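import Mathlib
import Cfsg.Prelude.Def_FusionSystem
import Cfsg.Agent.Lib.Helper87.FSAlperin
import Cfsg.Agent.Lib.Helper88.FSBase
import Cfsg.Agent.Lib.Helper88.AbEss
import Cfsg.Agent.H85.Sat
import Cfsg.Agent.H85.Aut
import Cfsg.Agent.H85.FullyNorm
import Cfsg.Agent.H84.FusEss

/-!
# Climbing to a maximal "active" subgroup

A subgroup `Y ≤ S` is *active* for a fusion system `F` when `Aut_F(Y)` is not a `p`-group.
A saturated fusion system without active subgroups is inner (Alperin).  An active subgroup `X`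
maximizing `(|N_S(X)|, |X|)` is fully normalized and `F`-centric, and every subgroup `Y` with
`|N_S(Y)| > |N_S(X)|` has a `p`-group as automizer.
-/

set_option autoImplicit false

namespace Cfsg.Agent.Lib.Helper88.Climb

open Cfsg Cfsg.FusionSystem

variable {Ω : Type*} [Group Ω] {S : Subgroup Ω}

/-- A subgroup of `S` whose automizer in `F` is not a `p`-group. -/
def Active (F : FusionSystem S) (p : ℕ) (Y : Subgroup Ω) : Prop :=
  Y ≤ S ∧ ¬ IsPGroup p (F.autGroup Y)

theorem isPGroup_autGroup_iff (F : FusionSystem S) (p : ℕ) (Y : Subgroup Ω) :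
    IsPGroup p (F.autGroup Y) ↔ ∀ α ∈ F.autGroup Y, ∃ k : ℕ, α ^ p ^ k = 1 := by
  constructor
  · intro h α hα
    obtain ⟨k, hk⟩ := h ⟨α, hα⟩
    refine ⟨k, ?_⟩
    have h1 := congrArg Subtype.val hk
    exact h1
  · rintro h ⟨α, hα⟩
    obtain ⟨k, hk⟩ := h α hα
    exact ⟨k, Subtype.ext hk⟩

theorem exists_bad (F : FusionSystem S) {p : ℕ} {Y : Subgroup Ω} (hY : Active F p Y) :
    ∃ α ∈ F.autGroup Y, ∀ k : ℕ, α ^ p ^ k ≠ 1 := by
  by_contra hcon
  apply hY.2
  rw [isPGroup_autGroup_iff]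
  intro α hα
  by_contra h
  exact hcon ⟨α, hα, fun k hk => h ⟨k, hk⟩⟩

/-- A saturated fusion system which is not inner has an active subgroup. -/
theorem exists_active [Finite S] {p : ℕ} [Fact p.Prime] (hS : IsPGroup p S) (F : FusionSystem S)
    (hF : F.IsSaturated p)
    (hne : ¬ ∀ P : Subgroup Ω, F.Hom P = (innerFusionSystem S).Hom P) :
    ∃ Y, Active F p Y := by
  by_contra hcon
  apply hne
  apply Cfsg.Agent.Lib.Helper87.FSAlperin.eq_inner_of_autGroup_pGroup hS F hF
  intro P hP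
  by_contra h
  exact hcon ⟨P, hP, h⟩

/-- Conjugates of active subgroups are active. -/
theorem active_of_conj (F : FusionSystem S) {p : ℕ} {Y Q : Subgroup Ω} (hY : Active F p Y)
    (hc : F.IsConj Y Q) : Active F p Q := by
  obtain ⟨φ, hφ, hQ⟩ := hc
  have hQS : Q ≤ S := by
    rw [← hQ]
    rintro _ ⟨x, rfl⟩
    exact (F.le_of_mem hφ).2 x
  refine ⟨hQS, fun hpQ => hY.2 ?_⟩
  rw [isPGroup_autGroup_iff] at hpQ ⊢
  intro α hα
  have he := Cfsg.Agent.H85.isIso_isoOf F hφ hQ
  obtain ⟨k, hk⟩ := hpQ _ (Cfsg.Agent.H85.congr_mem_autGroup F he hα)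
  refine ⟨k, ?_⟩
  have h1 : MulAut.congr (Cfsg.Agent.H85.isoOf F hφ hQ) (α ^ p ^ k) = 1 := by
    rw [map_pow]
    exact hk
  exact (MulEquiv.map_eq_one_iff _).mp h1

/-- An active subgroup maximizing `(|N_S(X)|, |X|)` lexicographically. -/
def IsMaxActive (F : FusionSystem S) (p : ℕ) (X : Subgroup Ω) : Prop :=
  Active F p X ∧ ∀ Y, Active F p Y →
    Nat.card (normalizerIn S Y) ≤ Nat.card (normalizerIn S X) ∧
    (Nat.card (normalizerIn S Y) = Nat.card (normalizerIn S X) → Nat.card Y ≤ Nat.card X)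

theorem exists_max [Finite S] (F : FusionSystem S) {p : ℕ} (h : ∃ Y, Active F p Y) :
    ∃ X, IsMaxActive F p X := by
  classical
  have hbound : ∀ Y : Subgroup Ω, Y ≤ S → Nat.card Y ≤ Nat.card S :=
    fun Y hY => Subgroup.card_le_of_le hY
  have hNb : ∀ Y : Subgroup Ω, Nat.card (normalizerIn S Y) ≤ Nat.card S :=
    fun Y => hbound _ inf_le_left
  have hex : ∃ m : ℕ, ∀ Y, Active F p Y →
      Nat.card (normalizerIn S Y) * (Nat.card S + 1) + Nat.card Y ≤ m :=
    ⟨Nat.card S * (Nat.card S + 1) + Nat.card S, fun Y hY =>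
      Nat.add_le_add (Nat.mul_le_mul_right _ (hNb Y)) (hbound Y hY.1)⟩
  obtain ⟨X, hX, hmax⟩ : ∃ X, Active F p X ∧ ∀ Y, Active F p Y →
      Nat.card (normalizerIn S Y) * (Nat.card S + 1) + Nat.card Y ≤
        Nat.card (normalizerIn S X) * (Nat.card S + 1) + Nat.card X := by
    have hm := Nat.find_spec hex
    rcases Nat.eq_zero_or_pos (Nat.find hex) with h0 | hpos
    · obtain ⟨Y, hY⟩ := h
      refine ⟨Y, hY, fun Y' hY' => ?_⟩
      have h1 := hm Y' hY'
      omega
    · have hlt : Nat.find hex - 1 < Nat.find hex := by omega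
      have h1 := Nat.find_min hex hlt
      have h2 : ∃ X, Active F p X ∧ ¬ (Nat.card (normalizerIn S X) * (Nat.card S + 1)
          + Nat.card X ≤ Nat.find hex - 1) := by
        by_contra hcon
        apply h1
        intro Y hY
        by_contra hY2
        exact hcon ⟨Y, hY, hY2⟩
      obtain ⟨X, hX, hXm⟩ := h2
      refine ⟨X, hX, fun Y hY => ?_⟩
      have h3 := hm Y hY
      omega
  refine ⟨X, hX, fun Y hY => ?_⟩
  have h1 := hmax Y hY
  have hYs := hbound Y hY.1
  have hXs := hbound X hX.1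
  constructor
  · by_contra hlt
    have h2 : Nat.card (normalizerIn S X) + 1 ≤ Nat.card (normalizerIn S Y) := by omega
    have h3 := Nat.mul_le_mul_right (Nat.card S + 1) h2
    have h4 : (Nat.card (normalizerIn S X) + 1) * (Nat.card S + 1) =
        Nat.card (normalizerIn S X) * (Nat.card S + 1) + (Nat.card S + 1) := by ring
    omega
  · intro heq
    rw [heq] at h1
    omega

theorem IsMaxActive.isFullyNormalized {F : FusionSystem S} {p : ℕ} {X : Subgroup Ω}
    (hX : IsMaxActive F p X) : F.IsFullyNormalized X :=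
  ⟨hX.1.1, fun Q hQ => (hX.2 Q (active_of_conj F hX.1 hQ)).1⟩

theorem IsMaxActive.not_active {F : FusionSystem S} {p : ℕ} {X Y : Subgroup Ω}
    (hX : IsMaxActive F p X)
    (h : Nat.card (normalizerIn S X) < Nat.card (normalizerIn S Y)) : ¬ Active F p Y := by
  intro hY
  have := (hX.2 Y hY).1
  omega

/-- The join of two subgroups is normalized by whatever normalizes both. -/
theorem normalizer_inf_le_sup {G : Type*} [Group G] (A B : Subgroup G) :
    Subgroup.normalizer (A : Set G) ⊓ Subgroup.normalizer (B : Set G) ≤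
      Subgroup.normalizer ((A ⊔ B : Subgroup G) : Set G) := by
  have key : ∀ g : G, g ∈ Subgroup.normalizer (A : Set G) → g ∈ Subgroup.normalizer (B : Set G) →
      ∀ h ∈ A ⊔ B, g * h * g⁻¹ ∈ A ⊔ B := by
    intro g hgA hgB
    have hle : A ⊔ B ≤ (A ⊔ B).comap (MulAut.conj g).toMonoidHom := by
      apply sup_le
      · intro a ha
        show g * a * g⁻¹ ∈ A ⊔ B
        exact le_sup_left (a := A) ((Subgroup.mem_normalizer_iff.mp hgA a).mp ha)
      · intro b hb
        show g * b * g⁻¹ ∈ A ⊔ B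
        exact le_sup_right (b := B) ((Subgroup.mem_normalizer_iff.mp hgB b).mp hb)
    intro h hh
    exact hle hh
  rintro g ⟨hgA, hgB⟩
  refine Cfsg.Agent.H85.mem_normalizer_of_forall (key g hgA hgB) (fun t ht => ?_)
  have h1 := key g⁻¹ (Subgroup.inv_mem _ hgA) (Subgroup.inv_mem _ hgB) t ht
  rwa [inv_inv] at h1

/-- `N_S(X)` normalizes `X C_S(X)`. -/
theorem normalizerIn_le_normalizerIn_sup (X : Subgroup Ω) :
    normalizerIn S X ≤ normalizerIn S (X ⊔ centralizerIn S X) := by
  have key : ∀ g : Ω, g ∈ S → g ∈ Subgroup.normalizer (X : Set Ω) →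
      ∀ c ∈ centralizerIn S X, g * c * g⁻¹ ∈ centralizerIn S X := by
    rintro g hgS hgN c ⟨hcS, hcC⟩
    have hcC' : c ∈ Subgroup.centralizer (X : Set Ω) := hcC
    refine ⟨S.mul_mem (S.mul_mem hgS hcS) (S.inv_mem hgS), ?_⟩
    show g * c * g⁻¹ ∈ Subgroup.centralizer (X : Set Ω)
    rw [Subgroup.mem_centralizer_iff]
    intro x hx
    have hx' : g⁻¹ * x * g ∈ X := by
      have h1 := (Subgroup.mem_normalizer_iff.mp (Subgroup.inv_mem _ hgN) x).mp hx
      rwa [inv_inv] at h1
    have h2 := Subgroup.mem_centralizer_iff.mp hcC' _ hx'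
    calc x * (g * c * g⁻¹) = g * (g⁻¹ * x * g * c) * g⁻¹ := by group
      _ = g * (c * (g⁻¹ * x * g)) * g⁻¹ := by rw [h2]
      _ = g * c * g⁻¹ * x := by group
  rintro g ⟨hgS, hgN⟩
  refine ⟨hgS, normalizer_inf_le_sup X (centralizerIn S X) ⟨hgN, ?_⟩⟩
  refine Cfsg.Agent.H85.mem_normalizer_of_forall (key g hgS hgN) (fun t ht => ?_)
  have h1 := key g⁻¹ (S.inv_mem hgS) (Subgroup.inv_mem _ hgN) t ht
  rwa [inv_inv] at h1

/-- A maximal active subgroup contains its centralizer in `S`. -/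
theorem IsMaxActive.centralizerIn_le [Finite S] {p : ℕ} [Fact p.Prime] (hS : IsPGroup p S)
    {F : FusionSystem S} (hF : F.IsSaturated p) {X : Subgroup Ω} (hX : IsMaxActive F p X) :
    centralizerIn S X ≤ X := by
  have hXS := hX.1.1
  have hfn := hX.isFullyNormalized
  have hrec : F.IsReceptive X := Cfsg.Agent.H84.receptive_of_fc hS F hF
    (Cfsg.Agent.H84.fullyCentralized_of_fn hS F hF hfn)
  obtain ⟨α, hα, hαk⟩ := exists_bad F hX.1
  have hφ : X.subtype.comp α.toMonoidHom ∈ F.Hom X :=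
    (Cfsg.Agent.H84.mem_autGroup_iff F hXS α).mp hα
  have hrange : (X.subtype.comp α.toMonoidHom).range = X :=
    Cfsg.Agent.H84.range_subtype_comp_aut α
  obtain ⟨ψ, hψ, hψφ⟩ := Cfsg.Agent.H85.receptive_extend_sup F hrec hφ hrange
  have hX₁S : X ⊔ centralizerIn S X ≤ S := sup_le hXS inf_le_left
  have : Finite ↥(X ⊔ centralizerIn S X) := Cfsg.Agent.H85.finite_of_le hX₁S
  have hψα : ∀ x : X, ψ (Subgroup.inclusion le_sup_left x) = ((α x : X) : Ω) := hψφ
  have hK : X ⊔ centralizerIn S X ≤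
      ((X ⊔ centralizerIn S X).comap ψ).map (X ⊔ centralizerIn S X).subtype := by
    apply sup_le
    · intro x hx
      refine ⟨Subgroup.inclusion le_sup_left ⟨x, hx⟩, Subgroup.mem_comap.mpr ?_, rfl⟩
      rw [hψα ⟨x, hx⟩]
      exact (le_sup_left : X ≤ X ⊔ centralizerIn S X) (α ⟨x, hx⟩).2
    · intro c hc
      have hcX : c ∈ X ⊔ centralizerIn S X :=
        (le_sup_right : centralizerIn S X ≤ X ⊔ centralizerIn S X) hc
      refine ⟨⟨c, hcX⟩, Subgroup.mem_comap.mpr ?_, rfl⟩
      refine (le_sup_right : centralizerIn S X ≤ X ⊔ centralizerIn S X)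
        (Cfsg.Agent.H85.map_centralizer_mem F hψ (Q := X) (fun y hy => ⟨α⁻¹ ⟨y, hy⟩, ?_⟩)
          ⟨c, hcX⟩ hc)
      rw [hψα]
      show ((α (α⁻¹ ⟨y, hy⟩) : X) : Ω) = y
      rw [MulAut.apply_inv_self]
  have hv : ∀ y : ↥(X ⊔ centralizerIn S X), ψ y ∈ X ⊔ centralizerIn S X := by
    intro y
    obtain ⟨z, hz, hzy⟩ := hK y.2
    have e : z = y := Subtype.ext hzy
    rw [← e]
    exact hz
  have hr := Cfsg.Agent.Lib.Helper88.FSBase.range_eq_of_finite F hψ hv
  obtain ⟨β, hβ, hβψ⟩ := Cfsg.Agent.Lib.Helper88.FSBase.exists_aut_of_mem F hψ hr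
  have hβα : ∀ (n : ℕ) (x : X),
      (((β ^ n) (Subgroup.inclusion le_sup_left x) : ↥(X ⊔ centralizerIn S X)) : Ω) =
        (((α ^ n) x : X) : Ω) := by
    intro n
    induction n with
    | zero => intro x; rfl
    | succ n ih =>
      intro x
      rw [pow_succ', pow_succ', MulAut.mul_apply, MulAut.mul_apply]
      have e : (β ^ n) (Subgroup.inclusion le_sup_left x) =
          Subgroup.inclusion le_sup_left ((α ^ n) x) := Subtype.ext (ih x)
      rw [e, hβψ, hψα]
  have hact : Active F p (X ⊔ centralizerIn S X) := by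
    refine ⟨hX₁S, fun hp => ?_⟩
    obtain ⟨k, hk⟩ := (isPGroup_autGroup_iff F p _).mp hp β hβ
    apply hαk k
    apply MulEquiv.ext
    intro x
    apply Subtype.ext
    have h1 := hβα (p ^ k) x
    rw [hk] at h1
    exact h1.symm
  obtain ⟨h1, h2⟩ := hX.2 _ hact
  have : Finite ↥(normalizerIn S (X ⊔ centralizerIn S X)) :=
    Cfsg.Agent.H85.finite_of_le inf_le_left
  have h3 := Subgroup.card_le_of_le (normalizerIn_le_normalizerIn_sup (S := S) X)
  have h4 := h2 (le_antisymm h1 h3)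
  have h5 : X = X ⊔ centralizerIn S X := Subgroup.eq_of_le_of_card_ge le_sup_left h4
  exact le_sup_right.trans (le_of_eq h5.symm)

/-- A maximal active subgroup is centric. -/
theorem IsMaxActive.isCentric [Finite S] {p : ℕ} [Fact p.Prime] (hS : IsPGroup p S)
    {F : FusionSystem S} (hF : F.IsSaturated p) {X : Subgroup Ω} (hX : IsMaxActive F p X) :
    F.IsCentric X :=
  Cfsg.Agent.H84.centric_of_fc F
    (Cfsg.Agent.H84.fullyCentralized_of_fn hS F hF hX.isFullyNormalized)
    (hX.centralizerIn_le hS hF)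

/-! ### Automorphisms of a `p`-group fixing a self-centralizing subgroup -/

/-- The fixed points of an automorphism. -/
def fixSub {P : Type*} [Group P] (β : MulAut P) : Subgroup P where
  carrier := {x | β x = x}
  mul_mem' := by
    intro a b ha hb
    show β (a * b) = a * b
    have ha' : β a = a := ha
    have hb' : β b = b := hb
    rw [map_mul, ha', hb']
  one_mem' := map_one β
  inv_mem' := by
    intro a ha
    show β a⁻¹ = a⁻¹
    have ha' : β a = a := ha
    rw [map_inv, ha']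

theorem mem_fixSub {P : Type*} [Group P] (β : MulAut P) (x : P) : x ∈ fixSub β ↔ β x = x :=
  Iff.rfl

theorem pow_apply_of_fix {P : Type*} [Group P] (β : MulAut P) {x : P} (h : β x = x) (n : ℕ) :
    (β ^ n) x = x := by
  induction n with
  | zero => rfl
  | succ n ih => rw [pow_succ', MulAut.mul_apply, ih, h]

/-- An automorphism of a finite `p`-group fixing pointwise a subgroup containing its own
centralizer has `p`-power order. -/
theorem pow_eq_one_of_fix {P : Type*} [Group P] [Finite P] {p : ℕ} [Fact p.Prime]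
    (hP : IsPGroup p P) (Y : Subgroup P) (hY : Subgroup.centralizer (Y : Set P) ≤ Y) :
    ∀ (n : ℕ) (β : MulAut P), (∀ y ∈ Y, β y = y) → Nat.card P ≤ Nat.card (fixSub β) + n →
      ∃ k : ℕ, β ^ p ^ k = 1 := by
  have base : ∀ β : MulAut P, fixSub β = ⊤ → ∃ k : ℕ, β ^ p ^ k = 1 := by
    intro β h
    refine ⟨0, ?_⟩
    rw [pow_zero, pow_one]
    apply MulEquiv.ext
    intro x
    have : x ∈ fixSub β := by rw [h]; exact Subgroup.mem_top x
    exact this
  intro n
  induction n with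
  | zero =>
    intro β _ hcard
    exact base β (Subgroup.eq_top_of_le_card _ (by simpa using hcard))
  | succ n ih =>
    intro β hβY hcard
    by_cases htop : fixSub β = ⊤
    · exact base β htop
    have hYU : Y ≤ fixSub β := fun y hy => hβY y hy
    have : Group.IsNilpotent P := hP.isNilpotent
    have hnc := Group.normalizerCondition_of_isNilpotent (G := P) (fixSub β) (lt_top_iff_ne_top.mpr htop)
    obtain ⟨x, hxN, hxU⟩ := SetLike.exists_of_lt hnc
    have hβx : β x = x * (x⁻¹ * β x) := by group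
    have hyC : x⁻¹ * β x ∈ Subgroup.centralizer ((fixSub β : Subgroup P) : Set P) := by
      rw [Subgroup.mem_centralizer_iff]
      intro u hu
      have hu' : x * u * x⁻¹ ∈ fixSub β := (Subgroup.mem_normalizer_iff.mp hxN u).mp hu
      have h1 : β (x * u * x⁻¹) = x * u * x⁻¹ := hu'
      have h2 : β u = u := hu
      rw [map_mul, map_mul, map_inv, h2] at h1
      calc u * (x⁻¹ * β x) = x⁻¹ * (x * u * x⁻¹) * β x := by group
        _ = x⁻¹ * (β x * u * (β x)⁻¹) * β x := by rw [h1]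
        _ = x⁻¹ * β x * u := by group
    have hyY : x⁻¹ * β x ∈ Y := hY (Subgroup.centralizer_le (fun z hz => hYU hz) hyC)
    have hβy : β (x⁻¹ * β x) = x⁻¹ * β x := hβY _ hyY
    obtain ⟨j, hj⟩ := hP (x⁻¹ * β x)
    have hx' : (β ^ p ^ j) x = x := by
      rw [Cfsg.Agent.H84.Transv.pow_apply_of_fix' β x (x⁻¹ * β x) hβx hβy (p ^ j), hj, mul_one]
    have hUle : fixSub β ≤ fixSub (β ^ p ^ j) := fun u hu => pow_apply_of_fix β hu _
    have hlt : Nat.card (fixSub β) < Nat.card (fixSub (β ^ p ^ j)) := by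
      by_contra hcon
      have heq := Subgroup.eq_of_le_of_card_ge hUle (not_lt.mp hcon)
      apply hxU
      rw [heq]
      exact hx'
    obtain ⟨k, hk⟩ := ih (β ^ p ^ j) (fun y hy => pow_apply_of_fix β (hβY y hy) _) (by omega)
    refine ⟨j + k, ?_⟩
    rw [pow_add, pow_mul]
    exact hk

/-- In a group, an element normalizing a finite `p`-subgroup `R` and centralizing a subgroup
`Y ≤ R` with `C_R(Y) ≤ Y` has a `p`-power centralizing `R`. -/
theorem exists_pow_mem_centralizer {G : Type*} [Group G] {p : ℕ} [Fact p.Prime]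
    (R Y : Subgroup G) [Finite R] (hR : IsPGroup p R) (hYR : Y ≤ R)
    (hcent : R ⊓ Subgroup.centralizer (Y : Set G) ≤ Y) (g : G)
    (hgR : g ∈ Subgroup.normalizer (R : Set G)) (hgY : g ∈ Subgroup.centralizer (Y : Set G)) :
    ∃ k : ℕ, g ^ p ^ k ∈ Subgroup.centralizer (R : Set G) := by
  have hc : Subgroup.centralizer ((Y.subgroupOf R : Subgroup R) : Set R) ≤ Y.subgroupOf R := by
    intro r hr
    rw [Subgroup.mem_subgroupOf]
    refine hcent ⟨r.2, ?_⟩
    show (r : G) ∈ Subgroup.centralizer (Y : Set G)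
    rw [Subgroup.mem_centralizer_iff]
    intro y hy
    have h1 := Subgroup.mem_centralizer_iff.mp hr ⟨y, hYR hy⟩ (Subgroup.mem_subgroupOf.mpr hy)
    exact congrArg Subtype.val h1
  have hfix : ∀ y ∈ Y.subgroupOf R, R.normalizerMonoidHom ⟨g, hgR⟩ y = y := by
    intro y hy
    apply Subtype.ext
    show g * (y : G) * g⁻¹ = y
    have h1 := Subgroup.mem_centralizer_iff.mp hgY (y : G) (Subgroup.mem_subgroupOf.mp hy)
    rw [← h1, mul_inv_cancel_right]
  obtain ⟨k, hk⟩ := pow_eq_one_of_fix hR (Y.subgroupOf R) hc (Nat.card R)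
    (R.normalizerMonoidHom ⟨g, hgR⟩) hfix (Nat.le_add_left _ _)
  refine ⟨k, ?_⟩
  rw [← map_pow] at hk
  rw [Subgroup.mem_centralizer_iff]
  intro r hr
  have h1 := congrArg (fun γ : MulAut R => ((γ ⟨r, hr⟩ : R) : G)) hk
  have h2 : g ^ p ^ k * r * (g ^ p ^ k)⁻¹ = r := h1
  calc r * g ^ p ^ k = g ^ p ^ k * r * (g ^ p ^ k)⁻¹ * g ^ p ^ k := by rw [h2]
    _ = g ^ p ^ k * r := by group

end Cfsg.Agent.Lib.Helper88.Climb
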