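import Mathlib
import Cfsg.Prelude.Def_FusionSystem
import Cfsg.Prelude.Def_FusionComponents
import Cfsg.Agent.H85.Basic
import Cfsg.Agent.H85.Aut

/-! The `p'`-residual subsystem of a saturated fusion system: definitions and the statements of
the pieces of the existence proof (BCGLO2, Theorem 5.4). -/

set_option autoImplicit false

namespace Cfsg.Agent.Lib.Helper88.PResStmt

open Cfsg Cfsg.FusionSystem

universe u

variable {Ω : Type*} [Group Ω] {S : Subgroup Ω}

/-- The restriction of an automorphism of `S` to a subgroup `P ≤ S`, as a map `P →* Ω`. -/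
def resAut (α : MulAut S) (P : Subgroup Ω) (hP : P ≤ S) : P →* Ω :=
  (S.subtype.comp α.toMonoidHom).comp (Subgroup.inclusion hP)

theorem resAut_apply (α : MulAut S) (P : Subgroup Ω) (hP : P ≤ S) (x : P) :
    resAut α P hP x = ((α ⟨x, hP x.2⟩ : S) : Ω) := rfl

/-- `D` is closed (relative to `F` and `p`): the automizers in `D` of the `F`-centric subgroups
contain the elements of `p`-power order of the automizers in `F`, and an element of `Aut_F(S)`
whose restriction to some `F`-centric subgroup is a map of `D` lies in `Aut_D(S)`. -/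
def Closed (p : ℕ) (F D : FusionSystem S) : Prop :=
  (∀ P : Subgroup Ω, F.IsCentric P →
    (Subgroup.closure {α : ↥(F.autGroup P) | ∃ k : ℕ, orderOf α = p ^ k}).map
      (F.autGroup P).subtype ≤ D.autGroup P) ∧
  (∀ α ∈ F.autGroup S, ∀ (P : Subgroup Ω) (hP : F.IsCentric P),
    resAut α P hP.1 ∈ D.Hom P → α ∈ D.autGroup S)

/-- The intersection of `F` with all closed systems. -/
def resSys (p : ℕ) (F : FusionSystem S) : FusionSystem S where
  Hom P := {φ | φ ∈ F.Hom P ∧ ∀ D : FusionSystem S, Closed p F D → φ ∈ D.Hom P}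
  le_of_mem h := F.le_of_mem h.1
  injective_of_mem h := F.injective_of_mem h.1
  conj_mem := fun hP hg => ⟨F.conj_mem hP hg, fun D _ => D.conj_mem hP hg⟩
  comp_mem := fun hφ hψ h => ⟨F.comp_mem hφ.1 hψ.1 h, fun D hD => D.comp_mem (hφ.2 D hD) (hψ.2 D hD) h⟩
  inv_mem := by
    intro P φ hφ
    obtain ⟨ψ, hψ, hψx⟩ := F.inv_mem hφ.1
    refine ⟨ψ, ⟨hψ, fun D hD => ?_⟩, hψx⟩
    obtain ⟨ψ', hψ', hψ'x⟩ := D.inv_mem (hφ.2 D hD)
    have e : ψ = ψ' := by
      ext ⟨_, x, rfl⟩
      rw [hψx, hψ'x]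
    rw [e]; exact hψ'

theorem mem_resSys_iff (p : ℕ) (F : FusionSystem S) {P : Subgroup Ω} (φ : P →* Ω) :
    φ ∈ (resSys p F).Hom P ↔ φ ∈ F.Hom P ∧ ∀ D : FusionSystem S, Closed p F D → φ ∈ D.Hom P :=
  Iff.rfl

theorem resSys_le (p : ℕ) (F : FusionSystem S) : (resSys p F).IsSubsystemOf F :=
  fun _ _ h => h.1

theorem resSys_min (p : ℕ) (F : FusionSystem S) {D : FusionSystem S} (hD : Closed p F D) :
    (resSys p F).IsSubsystemOf D :=
  fun _ _ h => h.2 D hD

theorem closed_resSys (p : ℕ) (F : FusionSystem S) : Closed p F (resSys p F) := by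
  refine ⟨fun P hP b hb => ?_, fun α hα P hP h => ?_⟩
  · have hbF : b ∈ F.autGroup P := by
      obtain ⟨c, -, rfl⟩ := hb
      exact c.2
    refine (H85.mem_autGroup_iff (resSys p F) hP.1 b).mpr ⟨(H85.mem_autGroup_iff F hP.1 b).mp hbF,
      fun D hD => ?_⟩
    exact (H85.mem_autGroup_iff D hP.1 b).mp (hD.1 P hP hb)
  · refine (H85.mem_autGroup_iff (resSys p F) le_rfl α).mpr
      ⟨(H85.mem_autGroup_iff F le_rfl α).mp hα, fun D hD => ?_⟩
    exact (H85.mem_autGroup_iff D le_rfl α).mp (hD.2 α hα P hP (h.2 D hD))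

/-! ### The pieces -/

/-- MIN: a saturated subsystem of index prime to `p` is closed. -/
def SatClosed : Prop :=
  ∀ {Ω : Type u} [Group Ω] {S : Subgroup Ω} [Finite S] (p : ℕ) [Fact p.Prime] (_ : IsPGroup p S)
    (F : FusionSystem S) (_ : F.IsSaturated p) (D : FusionSystem S) (_ : D.IsSaturated p)
    (_ : D.HasPrimeToPIndexIn F p), Closed p F D

/-- EXT: in a closed subsystem `E` of the saturated `F`, a map of `F` whose restriction to an
`F`-centric subgroup is a map of `E` is a map of `E`. -/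
def ExtMem : Prop :=
  ∀ {Ω : Type u} [Group Ω] {S : Subgroup Ω} [Finite S] (p : ℕ) [Fact p.Prime] (_ : IsPGroup p S)
    (F : FusionSystem S) (_ : F.IsSaturated p) (E : FusionSystem S) (_ : E.IsSubsystemOf F)
    (_ : Closed p F E) (N R : Subgroup Ω) (hRN : R ≤ N), F.IsCentric R →
    ∀ ψ : N →* Ω, ψ ∈ F.Hom N → ψ.comp (Subgroup.inclusion hRN) ∈ E.Hom R → ψ ∈ E.Hom N

/-- SATC: a closed subsystem `E` of the saturated `F` with the extension property is saturated on
the `F`-centric subgroups. -/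
def SatCentric : Prop :=
  ∀ {Ω : Type u} [Group Ω] {S : Subgroup Ω} [Finite S] (p : ℕ) [Fact p.Prime] (_ : IsPGroup p S)
    (F : FusionSystem S) (_ : F.IsSaturated p) (E : FusionSystem S) (_ : E.IsSubsystemOf F)
    (_ : Closed p F E)
    (_ : ∀ (N R : Subgroup Ω) (hRN : R ≤ N), F.IsCentric R →
      ∀ ψ : N →* Ω, ψ ∈ F.Hom N → ψ.comp (Subgroup.inclusion hRN) ∈ E.Hom R → ψ ∈ E.Hom N)
    (P : Subgroup Ω), F.IsCentric P →
    ∃ Q : Subgroup Ω, E.IsConj P Q ∧ E.IsFullyAutomized p Q ∧ E.IsReceptive Q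

/-- GEN: `resSys p F` is the smallest fusion system over `S` containing its maps with `F`-centric
source. -/
def GenCentric : Prop :=
  ∀ {Ω : Type u} [Group Ω] {S : Subgroup Ω} [Finite S] (p : ℕ) [Fact p.Prime] (_ : IsPGroup p S)
    (F : FusionSystem S) (_ : F.IsSaturated p) (E' : FusionSystem S),
    (∀ P : Subgroup Ω, F.IsCentric P → (resSys p F).Hom P ⊆ E'.Hom P) → resSys p F ≤ E'

end Cfsg.Agent.Lib.Helper88.PResStmt
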