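import Mathlib
import Cfsg.Prelude.Def_FusionSystem
import Cfsg.Prelude.Def_FusionComponents
import Cfsg.Agent.H85.Basic
import Cfsg.Agent.H85.Aut
import Cfsg.Agent.H85.InvSys
import Cfsg.Agent.Lib.Helper88.PResStmt

/-! Statements of the pieces for S5141: for `E` weakly normal in the saturated `F` over the
strongly closed `T`, the `p'`-residual subsystem of `E` is normal in `F`.

Notation in the sketches: `C = C_S(T) = centralizerIn S T`. A map `φ` with source `P ≤ T` is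
*good* when it extends to a map of `F` on `P C` that is the identity modulo `T` on `C`. -/

set_option autoImplicit false

namespace Cfsg.Agent.Lib.Helper88.WNStmt

open Cfsg Cfsg.FusionSystem Cfsg.Agent.Lib.Helper88.PResStmt

universe u

variable {Ω : Type*} [Group Ω] {S : Subgroup Ω}

/-- `φ : P →* Ω` has a good extension: a map of `F` on `P ⊔ C_S(T)` restricting to `φ` on `P`
and sending every `c ∈ C_S(T)` into `c T`. -/
def GoodExt (F : FusionSystem S) (T : Subgroup Ω) {P : Subgroup Ω} (φ : P →* Ω) : Prop :=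
  ∃ ψ ∈ F.Hom (P ⊔ centralizerIn S T),
    (∀ x : P, ψ (Subgroup.inclusion le_sup_left x) = φ x) ∧
    ∀ c : ↥(P ⊔ centralizerIn S T), (c : Ω) ∈ centralizerIn S T → (c : Ω)⁻¹ * ψ c ∈ T

/-- GS: the maps of `E` that are good whenever their source is `E`-centric form a fusion system
over `T`. -/
def GoodSys : Prop :=
  ∀ {Ω : Type u} [Group Ω] {S T : Subgroup Ω} (_ : T ≤ S) (F : FusionSystem S)
    (E : FusionSystem T),
    ∃ X : FusionSystem T, ∀ (P : Subgroup Ω) (φ : P →* Ω),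
      φ ∈ X.Hom P ↔ φ ∈ E.Hom P ∧ (E.IsCentric P → GoodExt F T φ)

/-- C1: an automorphism of `p`-power order in `Aut_E(P)`, `P` an `E`-centric subgroup, is good. -/
def PGood : Prop :=
  ∀ {Ω : Type u} [Group Ω] {S : Subgroup Ω} [Finite S] (p : ℕ) [Fact p.Prime] (_ : IsPGroup p S)
    (F : FusionSystem S) (_ : F.IsSaturated p) {T : Subgroup Ω} (E : FusionSystem T)
    (_ : E.IsWeaklyNormalIn F p) (P : Subgroup Ω) (_ : E.IsCentric P) (γ : MulAut P)
    (_ : γ ∈ E.autGroup P) (k : ℕ) (_ : orderOf γ = p ^ k),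
    GoodExt F T (P.subtype.comp γ.toMonoidHom)

/-- AUTX: every element of `Aut_F(T)`, `T` strongly closed in the saturated `F`, extends to an
element of `Aut_F(T C_S(T))`. -/
def AutExt : Prop :=
  ∀ {Ω : Type u} [Group Ω] {S : Subgroup Ω} [Finite S] (p : ℕ) [Fact p.Prime] (_ : IsPGroup p S)
    (F : FusionSystem S) (_ : F.IsSaturated p) (T : Subgroup Ω) (_ : F.StronglyClosed T)
    (α : MulAut T) (_ : α ∈ F.autGroup T),
    ∃ β ∈ F.autGroup (T ⊔ centralizerIn S T), ∀ x : T,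
      ((β (Subgroup.inclusion le_sup_left x) : ↥(T ⊔ centralizerIn S T)) : Ω) = ((α x : T) : Ω)

/-- WSYL: let `T` be strongly closed in `F` and `R` fully automized. An element `ξ` of `Aut_F(R)`
that is the identity on `R ∩ T` and moves every `y ∈ R` by an element `y⁻¹ ξ(y)` of `T`
centralizing `R ∩ T` is induced by conjugation by an element of `S`. -/
def WSyl : Prop :=
  ∀ {Ω : Type u} [Group Ω] {S : Subgroup Ω} [Finite S] (p : ℕ) [Fact p.Prime] (_ : IsPGroup p S)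
    (F : FusionSystem S) (T : Subgroup Ω) (_ : F.StronglyClosed T) (R : Subgroup Ω)
    (_ : F.IsFullyAutomized p R) (ξ : MulAut R) (_ : ξ ∈ F.autGroup R)
    (_ : ∀ x : R, (x : Ω) ∈ T → ξ x = x)
    (_ : ∀ y : R, (y : Ω)⁻¹ * ((ξ y : R) : Ω) ∈ T ∧ ∀ x : R, (x : Ω) ∈ T →
      (y : Ω)⁻¹ * ((ξ y : R) : Ω) * (x : Ω) = (x : Ω) * ((y : Ω)⁻¹ * ((ξ y : R) : Ω))),
    ∃ h ∈ S, ∀ y : R, ((ξ y : R) : Ω) = h * (y : Ω) * h⁻¹

/-- FCEN: for `E` invariant in `F` and `P` an `E`-centric subgroup, the image of `P` under any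
map of `F` contains its centralizer in `T`. -/
def FCentric : Prop :=
  ∀ {Ω : Type u} [Group Ω] {S : Subgroup Ω} (F : FusionSystem S) {T : Subgroup Ω}
    (E : FusionSystem T) (_ : E.IsInvariantIn F) (P : Subgroup Ω) (_ : E.IsCentric P)
    (ψ : P →* Ω) (_ : ψ ∈ F.Hom P), centralizerIn T ψ.range ≤ ψ.range

/-- XC: the extender condition. Let `P` be `E`-centric, `R = P C`, `θ` a map of `F` from `R` to
`R` that is the identity on `P`, and `ψ` a map of `F` from `R` onto a fully automized `R'`. If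
`g ∈ N_T(P)` and `g' ∈ S` satisfy `ψ(g y g⁻¹) = g' ψ(y) g'⁻¹` on `R`, then some `h ∈ S` satisfies
`ψ(θ(g y g⁻¹)) = h ψ(θ(y)) h⁻¹` on `R`. -/
def ExtCond : Prop :=
  ∀ {Ω : Type u} [Group Ω] {S : Subgroup Ω} [Finite S] (p : ℕ) [Fact p.Prime] (_ : IsPGroup p S)
    (F : FusionSystem S) (_ : F.IsSaturated p) {T : Subgroup Ω} (E : FusionSystem T)
    (_ : E.IsWeaklyNormalIn F p) (P : Subgroup Ω) (_ : E.IsCentric P)
    (θ : ↥(P ⊔ centralizerIn S T) →* Ω) (_ : θ ∈ F.Hom (P ⊔ centralizerIn S T))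
    (_ : ∀ x : P, θ (Subgroup.inclusion le_sup_left x) = (x : Ω))
    (hθR : ∀ y, θ y ∈ P ⊔ centralizerIn S T)
    (R' : Subgroup Ω) (_ : F.IsFullyAutomized p R')
    (ψ : ↥(P ⊔ centralizerIn S T) →* Ω) (_ : ψ ∈ F.Hom (P ⊔ centralizerIn S T))
    (_ : ψ.range = R')
    (g : Ω) (_ : g ∈ normalizerIn T P) (g' : Ω) (_ : g' ∈ S)
    (_ : ∀ (y : ↥(P ⊔ centralizerIn S T)) (hy : g * (y : Ω) * g⁻¹ ∈ P ⊔ centralizerIn S T),
      ψ ⟨g * (y : Ω) * g⁻¹, hy⟩ = g' * ψ y * g'⁻¹),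
    ∃ h ∈ S, ∀ (y : ↥(P ⊔ centralizerIn S T)) (hy : g * (y : Ω) * g⁻¹ ∈ P ⊔ centralizerIn S T),
      ψ ⟨θ ⟨g * (y : Ω) * g⁻¹, hy⟩, hθR _⟩ = h * ψ ⟨θ y, hθR y⟩ * h⁻¹

/-- TE: a map `θ` of `F` from `P C` to `P C` that is the identity on the `E`-centric subgroup `P`
extends to a map of `F` from `N_T(P) C` to `N_T(P) C`. -/
def ThetaExt : Prop :=
  ∀ {Ω : Type u} [Group Ω] {S : Subgroup Ω} [Finite S] (p : ℕ) [Fact p.Prime] (_ : IsPGroup p S)
    (F : FusionSystem S) (_ : F.IsSaturated p) {T : Subgroup Ω} (E : FusionSystem T)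
    (_ : E.IsWeaklyNormalIn F p) (P : Subgroup Ω) (_ : E.IsCentric P)
    (θ : ↥(P ⊔ centralizerIn S T) →* Ω) (_ : θ ∈ F.Hom (P ⊔ centralizerIn S T))
    (_ : ∀ x : P, θ (Subgroup.inclusion le_sup_left x) = (x : Ω))
    (_ : ∀ y, θ y ∈ P ⊔ centralizerIn S T),
    ∃ θ₂ ∈ F.Hom (normalizerIn T P ⊔ centralizerIn S T),
      (∀ (y : ↥(P ⊔ centralizerIn S T)) (hy : (y : Ω) ∈ normalizerIn T P ⊔ centralizerIn S T),
        θ₂ ⟨y, hy⟩ = θ y) ∧
      ∀ y : ↥(normalizerIn T P ⊔ centralizerIn S T),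
        θ₂ y ∈ normalizerIn T P ⊔ centralizerIn S T

/-- STEP: if `α ∈ Aut_E(T)` is good on the `E`-centric subgroup `P ≠ T` then `α ^ |S|` is good on
a strictly larger `E`-centric subgroup. -/
def GoodStep : Prop :=
  ∀ {Ω : Type u} [Group Ω] {S : Subgroup Ω} [Finite S] (p : ℕ) [Fact p.Prime] (_ : IsPGroup p S)
    (F : FusionSystem S) (_ : F.IsSaturated p) {T : Subgroup Ω} (E : FusionSystem T)
    (_ : E.IsWeaklyNormalIn F p) (α : MulAut T) (_ : α ∈ E.autGroup T) (P : Subgroup Ω)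
    (hP : E.IsCentric P), P ≠ T → GoodExt F T (resAut α P hP.1) →
    ∃ (N : Subgroup Ω) (hN : E.IsCentric N), Nat.card P < Nat.card N ∧
      GoodExt F T (resAut (α ^ Nat.card S) N hN.1)

/-- C2: an element of `Aut_E(T)` that is good on some `E`-centric subgroup is good. -/
def GoodUp : Prop :=
  ∀ {Ω : Type u} [Group Ω] {S : Subgroup Ω} [Finite S] (p : ℕ) [Fact p.Prime] (_ : IsPGroup p S)
    (F : FusionSystem S) (_ : F.IsSaturated p) {T : Subgroup Ω} (E : FusionSystem T)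
    (_ : E.IsWeaklyNormalIn F p) (α : MulAut T) (_ : α ∈ E.autGroup T) (P : Subgroup Ω)
    (hP : E.IsCentric P), GoodExt F T (resAut α P hP.1) →
    GoodExt F T (T.subtype.comp α.toMonoidHom)

/-- INV: the system `resSys p E` is invariant under `Aut_F(T)`. -/
def ResInvariant : Prop :=
  ∀ {Ω : Type u} [Group Ω] {S : Subgroup Ω} [Finite S] (p : ℕ) [Fact p.Prime] (_ : IsPGroup p S)
    (F : FusionSystem S) (_ : F.IsSaturated p) {T : Subgroup Ω} (E : FusionSystem T)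
    (_ : E.IsWeaklyNormalIn F p), H85.InvCond (resSys p E) F

/-- EXTC: a good automorphism of `T` satisfies the extension condition of a normal subsystem. -/
def ExtClause : Prop :=
  ∀ {Ω : Type u} [Group Ω] {S : Subgroup Ω} [Finite S] (F : FusionSystem S) (T : Subgroup Ω)
    (_ : T ≤ S) (α : MulAut T), GoodExt F T (T.subtype.comp α.toMonoidHom) →
    ∃ β ∈ F.autGroup (T ⊔ centralizerIn S T),
      (∀ x : T, ((β (Subgroup.inclusion le_sup_left x) : ↥(T ⊔ centralizerIn S T)) : Ω) =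
        ((α x : T) : Ω)) ∧
      ∀ c : ↥(T ⊔ centralizerIn S T), (c : Ω) ∈ centralizerIn S T →
        (c : Ω)⁻¹ * ((β c : ↥(T ⊔ centralizerIn S T)) : Ω) ∈ T ⊓ Subgroup.centralizer (T : Set Ω)

end Cfsg.Agent.Lib.Helper88.WNStmt
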