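import Mathlib
import Cfsg.Prelude.Def_FusionSystem
import Cfsg.Prelude.Def_FusionComponents
import Cfsg.Agent.H85.Basic
import Cfsg.Agent.H85.Aut
import Cfsg.Agent.Lib.Helper88.PResStmt

/-! Piece GEN of S5140: `resSys p F` is generated by its maps with `F`-centric source. -/

set_option autoImplicit false

namespace Cfsg.Agent.Lib.Helper88.PResGEN

open Cfsg Cfsg.FusionSystem Cfsg.Agent.Lib.Helper88.PResStmt

universe u

variable {Ω : Type*} [Group Ω] {S : Subgroup Ω}

/-- The intersection of two fusion systems over `S`. -/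
def interSys (A B : FusionSystem S) : FusionSystem S where
  Hom P := {φ | φ ∈ A.Hom P ∧ φ ∈ B.Hom P}
  le_of_mem h := A.le_of_mem h.1
  injective_of_mem h := A.injective_of_mem h.1
  conj_mem := fun hP hg => ⟨A.conj_mem hP hg, B.conj_mem hP hg⟩
  comp_mem := fun hφ hψ h => ⟨A.comp_mem hφ.1 hψ.1 h, B.comp_mem hφ.2 hψ.2 h⟩
  inv_mem := by
    intro P φ hφ
    obtain ⟨ψ, hψ, hψx⟩ := A.inv_mem hφ.1
    obtain ⟨ψ', hψ', hψ'x⟩ := B.inv_mem hφ.2
    have e : ψ = ψ' := by
      ext ⟨_, x, rfl⟩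
      rw [hψx, hψ'x]
    exact ⟨ψ, ⟨hψ, e ▸ hψ'⟩, hψx⟩

/-- `S` is centric in every fusion system over the finite group `S`. -/
theorem isCentric_self [Finite S] (F : FusionSystem S) : F.IsCentric S := by
  refine ⟨le_rfl, ?_⟩
  rintro Q ⟨φ, hφ, rfl⟩
  have hle : φ.range ≤ S := by
    rintro _ ⟨x, rfl⟩
    exact (F.le_of_mem hφ).2 x
  have heq : φ.range = S := by
    apply Subgroup.eq_of_le_of_card_ge hle
    exact (Nat.card_congr (MonoidHom.ofInjective (F.injective_of_mem hφ)).toEquiv).le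
  rw [heq]
  exact inf_le_left

theorem main : GenCentric.{u} := by
  intro Ω _ S _ p _ _ F _ E' hE'
  have hcl := closed_resSys p F
  have hD : Closed p F (interSys (resSys p F) E') := by
    refine ⟨fun P hP b hb => ?_, fun α hα P hP h => ?_⟩
    · have h1 : b ∈ (resSys p F).autGroup P := hcl.1 P hP hb
      have h2 := (H85.mem_autGroup_iff (resSys p F) hP.1 b).mp h1
      exact (H85.mem_autGroup_iff (interSys (resSys p F) E') hP.1 b).mpr ⟨h2, hE' P hP h2⟩
    · have h1 : α ∈ (resSys p F).autGroup S := hcl.2 α hα P hP h.1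
      have h2 := (H85.mem_autGroup_iff (resSys p F) le_rfl α).mp h1
      exact (H85.mem_autGroup_iff (interSys (resSys p F) E') le_rfl α).mpr
        ⟨h2, hE' S (isCentric_self F) h2⟩
  intro P φ hφ
  exact (resSys_min p F hD P hφ).2

end Cfsg.Agent.Lib.Helper88.PResGEN
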