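import Mathlib
import Cfsg.Prelude.Def_FusionSystem
import Cfsg.Prelude.Def_FusionComponents
import Cfsg.Agent.H85.Basic
import Cfsg.Agent.H85.Aut
import Cfsg.Agent.H85.Sat
import Cfsg.Agent.H85.PrimeIdx
import Cfsg.Agent.H84.FusSat2
import Cfsg.Agent.Lib.Helper87.FSSat
import Cfsg.Agent.Lib.Helper88.Centric
import Cfsg.Agent.Lib.Helper88.PResStmt

/-! Piece MIN of S5140: a saturated subsystem of index prime to `p` is closed. -/

set_option autoImplicit false

namespace Cfsg.Agent.Lib.Helper88.PResMIN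

open Cfsg Cfsg.FusionSystem Cfsg.Agent.Lib.Helper88.PResStmt

universe u

variable {Ω : Type*} [Group Ω] {S : Subgroup Ω}

/-- A centric subgroup is fully centralized. -/
theorem fc_of_centric [Finite S] (D : FusionSystem S) {Q : Subgroup Ω} (hQ : D.IsCentric Q) :
    D.IsFullyCentralized Q := by
  refine ⟨hQ.1, fun Q' hQQ' => ?_⟩
  obtain ⟨θ, hθ, rfl⟩ := hQQ'
  have hle := hQ.2 θ.range ⟨θ, hθ, rfl⟩
  have hex : ∀ c : centralizerIn S θ.range, ∃ y : Q, θ y = (c : Ω) := fun c => hle c.2
  choose f hf using hex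
  have hmem : ∀ c, (f c : Ω) ∈ centralizerIn S Q := by
    intro c
    refine ⟨hQ.1 (f c).2, Subgroup.mem_centralizer_iff.mpr ?_⟩
    intro x hx
    have h1 : θ ⟨x, hx⟩ * (c : Ω) = (c : Ω) * θ ⟨x, hx⟩ :=
      (Subgroup.mem_centralizer_iff.mp c.2.2) _ ⟨⟨x, hx⟩, rfl⟩
    rw [← hf c, ← map_mul, ← map_mul] at h1
    have h2 := D.injective_of_mem hθ h1
    exact congrArg Subtype.val h2
  have hinj : Function.Injective
      (fun c : centralizerIn S θ.range => (⟨f c, hmem c⟩ : centralizerIn S Q)) := by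
    intro a b hab
    have h1 : f a = f b := Subtype.ext (congrArg (fun z : centralizerIn S Q => (z : Ω)) hab)
    apply Subtype.ext
    rw [← hf a, ← hf b, h1]
  have : Finite (centralizerIn S Q) := H85.finite_of_le inf_le_left
  exact Nat.card_le_card_of_injective _ hinj

theorem main : SatClosed.{u} := by
  intro Ω _ S _ p _ hS F hF D hD hDF
  refine ⟨fun P hP => hDF.2 P hP.1, ?_⟩
  have hcen := (H85.primeIdx_main p hS F hF D hDF.1 (fun P hP => hDF.2 P hP.1)).2.2
  have key : ∀ (n : ℕ) (α : MulAut S), α ∈ F.autGroup S → ∀ (P : Subgroup Ω)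
      (hP : F.IsCentric P), Nat.card S - Nat.card P = n → resAut α P hP.1 ∈ D.Hom P →
      α ∈ D.autGroup S := by
    intro n
    induction n using Nat.strong_induction_on with
    | _ n ih =>
      intro α hα P hP hn h
      have hPS : P ≤ S := hP.1
      by_cases hSP : S ≤ P
      · exact (H85.mem_autGroup_iff D le_rfl α).mpr
          (H85.hom_congr D (H85.restrict_mem D h hSP) (fun x => rfl))
      · have hne : P ≠ S := fun e => hSP (e ▸ le_rfl)
        obtain ⟨N, hNdef⟩ : ∃ N : Subgroup Ω, N = normalizerIn S P := ⟨_, rfl⟩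
        have hNS : N ≤ S := by rw [hNdef]; exact inf_le_left
        have hPN : P ≤ N := by
          rw [hNdef]; exact fun x hx => ⟨hPS hx, Subgroup.le_normalizer hx⟩
        have hNnorm : N ≤ Subgroup.normalizer (P : Set Ω) := by rw [hNdef]; exact inf_le_right
        have hlt : Nat.card P < Nat.card N := by
          rw [hNdef]; exact Lib.Helper87.FSSat.card_lt_card_normalizerIn hS hPS hne
        have hNle : Nat.card N ≤ Nat.card S := Subgroup.card_le_of_le hNS
        -- the image of `P`
        obtain ⟨φ, hφdef⟩ : ∃ φ : P →* Ω, φ = resAut α P hPS := ⟨_, rfl⟩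
        have hφD : φ ∈ D.Hom P := by rw [hφdef]; exact h
        have hφx : ∀ (y : Ω) (hy : y ∈ P), φ ⟨y, hy⟩ = ((α ⟨y, hPS hy⟩ : S) : Ω) := by
          intro y hy; rw [hφdef]; rfl
        have hQF : F.IsCentric φ.range :=
          H85.isCentric_of_isConj F hP ⟨φ, hDF.1 P hφD, rfl⟩
        have hQD : D.IsCentric φ.range := (hcen _).mpr hQF
        have hrec : D.IsReceptive φ.range :=
          H84.receptive_of_fc hS D hD (fc_of_centric D hQD)
        obtain ⟨ψ, hψ, hψx⟩ := hrec.2 P φ hφD rfl
        have hNext : N ≤ extender S P φ := by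
          intro g hg
          rw [hNdef] at hg
          refine Subgroup.subset_closure ⟨hg.1, hg.2, ((α ⟨g, hg.1⟩ : S) : Ω), (α ⟨g, hg.1⟩).2,
            fun x hx => ?_⟩
          rw [hφx _ hx, hφx _ x.2]
          have e : (⟨g * (x : Ω) * g⁻¹, hPS hx⟩ : S) =
              ⟨g, hg.1⟩ * ⟨x, hPS x.2⟩ * (⟨g, hg.1⟩ : S)⁻¹ := Subtype.ext rfl
          rw [e, map_mul, map_mul, map_inv]
          rfl
        have hψ' : ψ.comp (Subgroup.inclusion hNext) ∈ D.Hom N := H85.restrict_mem D hψ hNext
        have hαN : resAut α N hNS ∈ F.Hom N :=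
          H85.restrict_mem F ((H85.mem_autGroup_iff F le_rfl α).mp hα) hNS
        have hagree : ∀ x : N, (x : Ω) ∈ P →
            resAut α N hNS x = (ψ.comp (Subgroup.inclusion hNext)) x := by
          intro x hx
          have h1 := hψx (x : Ω) hx (hNext x.2)
          rw [hφx _ hx] at h1
          exact h1.symm
        obtain ⟨z, hzP, -, hz⟩ := Lib.Helper88.Centric.centric_normal hS F hF hP hPN hNnorm hαN
          (hDF.1 N hψ') hagree
        have hzS : (z : Ω) ∈ S := hNS z.2
        have hc : ∀ x : N, conjHom N (z : Ω) x ∈ N := fun x =>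
          N.mul_mem (N.mul_mem z.2 x.2) (N.inv_mem z.2)
        have hαD : resAut α N hNS ∈ D.Hom N := by
          refine H85.comp_mem' D (D.conj_mem hNS hzS) hψ' hc (fun x => ?_)
          rw [hz x]
          rfl
        have hNc : F.IsCentric N := Lib.Helper88.Centric.isCentric_of_le F hP hPN hNS
        exact ih (Nat.card S - Nat.card N) (by omega) α hα N hNc rfl hαD
  intro α hα P hP h
  exact key _ α hα P hP rfl h

end Cfsg.Agent.Lib.Helper88.PResMIN
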