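import Mathlib
import Cfsg.Prelude.Def_FusionSystem
import Cfsg.Agent.Lib.Helper87.FSSat

set_option autoImplicit false

/-! Sylow-type conjugacy property `SCP p H T` (every `p`-subgroup of `H` is `H`-conjugate into
`T`) and its formal consequences; a Sylow criterion. -/

namespace Cfsg.Agent.Lib.Helper88.GenSCP

open scoped Pointwise

variable {G : Type*} [Group G]

/-- Every `p`-subgroup of `H` is conjugate, by an element of `H`, into `T`. -/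
def SCP (p : ℕ) (H T : Subgroup G) : Prop :=
  ∀ K : Subgroup G, K ≤ H → IsPGroup p K → ∃ χ ∈ H, ∀ σ ∈ K, χ * σ * χ⁻¹ ∈ T

/-- A finite subgroup has a `p`-subgroup into which all its `p`-subgroups are conjugate. -/
theorem exists_scp (p : ℕ) [Fact p.Prime] (H : Subgroup G) [Finite H] :
    ∃ T : Subgroup G, T ≤ H ∧ IsPGroup p T ∧ SCP p H T := by
  obtain ⟨P₀, -⟩ := (IsPGroup.of_bot : IsPGroup p (⊥ : Subgroup H)).exists_le_sylow
  refine ⟨(P₀ : Subgroup H).map H.subtype, ?_, P₀.isPGroup'.map _, ?_⟩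
  · rintro _ ⟨x, -, rfl⟩
    exact x.2
  · intro K hK hKp
    have hK' : IsPGroup p (K.subgroupOf H) :=
      hKp.comap_of_injective _ (Subgroup.subtype_injective _)
    obtain ⟨R', hR'⟩ := hK'.exists_le_sylow
    obtain ⟨g, hg⟩ := MulAction.exists_smul_eq (↥H) R' P₀
    refine ⟨g, g.2, fun σ hσ => ?_⟩
    have h1 : (⟨σ, hK hσ⟩ : H) ∈ (R' : Subgroup H) := hR' (Subgroup.mem_subgroupOf.mpr hσ)
    have h2 : g * ⟨σ, hK hσ⟩ * g⁻¹ ∈ (P₀ : Subgroup H) := by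
      rw [← hg, Sylow.coe_subgroup_smul]
      have : MulAut.conj g • (⟨σ, hK hσ⟩ : H) ∈ MulAut.conj g • (R' : Subgroup H) :=
        Subgroup.smul_mem_pointwise_smul_iff.mpr h1
      simpa using this
    exact ⟨_, h2, rfl⟩

/-- Conjugating a subgroup `B` of `A` so that its `p`-subgroups become conjugate into `T`. -/
theorem scp_conj {p : ℕ} [Fact p.Prime] {A T B : Subgroup G} (hAT : SCP p A T) (hBA : B ≤ A)
    [Finite B] :
    ∃ δ ∈ A, ∀ H₂ : Subgroup G, (∀ σ ∈ H₂, δ⁻¹ * σ * δ ∈ B) → (∀ b ∈ B, δ * b * δ⁻¹ ∈ H₂) →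
      SCP p H₂ T := by
  obtain ⟨T₀, hT₀B, hT₀p, hT₀⟩ := exists_scp p B
  obtain ⟨δ, hδA, hδ⟩ := hAT T₀ (hT₀B.trans hBA) hT₀p
  refine ⟨δ, hδA, fun H₂ h1 h2 K hK hKp => ?_⟩
  have hK'p : IsPGroup p (K.map (MulAut.conj δ⁻¹).toMonoidHom) := hKp.map _
  have hK'B : K.map (MulAut.conj δ⁻¹).toMonoidHom ≤ B := by
    rintro _ ⟨σ, hσ, rfl⟩
    have := h1 σ (hK hσ)
    simpa [MulAut.conj_apply] using this
  obtain ⟨b, hbB, hb⟩ := hT₀ _ hK'B hK'p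
  refine ⟨δ * b * δ⁻¹, h2 b hbB, fun σ hσ => ?_⟩
  have h3 : b * (δ⁻¹ * σ * δ) * b⁻¹ ∈ T₀ := by
    have := hb (δ⁻¹ * σ * δ) ⟨σ, hσ, by simp⟩
    exact this
  have h4 := hδ _ h3
  have e : δ * b * δ⁻¹ * σ * (δ * b * δ⁻¹)⁻¹ = δ * (b * (δ⁻¹ * σ * δ) * b⁻¹) * δ⁻¹ := by group
  rw [e]
  exact h4

/-- The conjugacy property passes to subgroups normalized by `H`. -/
theorem scp_normal {p : ℕ} [Fact p.Prime] {H T K : Subgroup G} (hHT : SCP p H T) (hKH : K ≤ H)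
    [Finite K] (hn : ∀ h ∈ H, ∀ k ∈ K, h * k * h⁻¹ ∈ K) : SCP p K T := by
  obtain ⟨δ, hδ, h⟩ := scp_conj hHT hKH
  apply h K
  · intro σ hσ
    have := hn δ⁻¹ (H.inv_mem hδ) σ hσ
    simpa using this
  · intro b hb
    exact hn δ hδ b hb

/-- The conjugacy property passes to subgroups containing `T ⊓ H`. -/
theorem scp_of_le {p : ℕ} [Fact p.Prime] {H T L : Subgroup G} [Finite H] (hHT : SCP p H T)
    (hTp : IsPGroup p (T ⊓ H : Subgroup G)) (hLH : L ≤ H) (hTL : T ⊓ H ≤ L) : SCP p L T := by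
  have hfinL : Finite L := Finite.of_injective (Subgroup.inclusion hLH)
    (Subgroup.inclusion_injective hLH)
  have hfinT : Finite (T ⊓ H : Subgroup G) := Finite.of_injective
    (Subgroup.inclusion (inf_le_right : T ⊓ H ≤ H)) (Subgroup.inclusion_injective _)
  obtain ⟨T₀, hT₀L, hT₀p, hT₀⟩ := exists_scp p L
  obtain ⟨l, hlL, hl⟩ := hT₀ (T ⊓ H) hTL hTp
  obtain ⟨χ, hχH, hχ⟩ := hHT T₀ (hT₀L.trans hLH) hT₀p
  -- conjugation by `χ l` maps `T ⊓ H` into itself, hence onto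
  have hmem : ∀ t : (T ⊓ H : Subgroup G), χ * (l * (t : G) * l⁻¹) * χ⁻¹ ∈ T ⊓ H := by
    intro t
    refine ⟨hχ _ (hl t t.2), ?_⟩
    have hlH := hLH hlL
    exact H.mul_mem (H.mul_mem hχH (H.mul_mem (H.mul_mem hlH t.2.2) (H.inv_mem hlH)))
      (H.inv_mem hχH)
  let f : (T ⊓ H : Subgroup G) → (T ⊓ H : Subgroup G) := fun t => ⟨_, hmem t⟩
  have hinj : Function.Injective f := by
    intro a b hab
    have h1 : χ * (l * (a : G) * l⁻¹) * χ⁻¹ = χ * (l * (b : G) * l⁻¹) * χ⁻¹ :=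
      congrArg Subtype.val hab
    apply Subtype.ext
    have h2 : (a : G) = l⁻¹ * (χ⁻¹ * (χ * (l * (a : G) * l⁻¹) * χ⁻¹) * χ) * l := by group
    rw [h2, h1]
    group
  have hsurj : Function.Surjective f := Finite.injective_iff_surjective.mp hinj
  have key : ∀ s ∈ T₀, ∃ t ∈ T ⊓ H, s = l * t * l⁻¹ := by
    intro s hs
    have hs' : χ * s * χ⁻¹ ∈ T ⊓ H :=
      ⟨hχ s hs, H.mul_mem (H.mul_mem hχH (hLH (hT₀L hs))) (H.inv_mem hχH)⟩
    obtain ⟨t, ht⟩ := hsurj ⟨_, hs'⟩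
    refine ⟨t, t.2, ?_⟩
    have h1 : χ * (l * (t : G) * l⁻¹) * χ⁻¹ = χ * s * χ⁻¹ := congrArg Subtype.val ht
    have h2 : s = χ⁻¹ * (χ * s * χ⁻¹) * χ := by group
    rw [h2, ← h1]
    group
  intro K hK hKp
  obtain ⟨b, hbL, hb⟩ := hT₀ K hK hKp
  refine ⟨l⁻¹ * b, L.mul_mem (L.inv_mem hlL) hbL, fun σ hσ => ?_⟩
  obtain ⟨t, ht, hst⟩ := key _ (hb σ hσ)
  have e : l⁻¹ * b * σ * (l⁻¹ * b)⁻¹ = l⁻¹ * (b * σ * b⁻¹) * l := by group
  rw [e, hst]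
  have e2 : l⁻¹ * (l * t * l⁻¹) * l = t := by group
  rw [e2]
  exact ht.1

/-- Transport of the conjugacy property along a group isomorphism. -/
theorem scp_transport {G' : Type*} [Group G'] {p : ℕ} (f : G ≃* G') {H T : Subgroup G}
    {H' T' : Subgroup G'} (hHT : SCP p H T) (h1 : ∀ δ' ∈ H', f.symm δ' ∈ H)
    (h2 : ∀ δ ∈ H, f δ ∈ H') (h3 : ∀ σ ∈ H, σ ∈ T → f σ ∈ T') : SCP p H' T' := by
  intro K hK hKp
  have hK'p : IsPGroup p (K.map f.symm.toMonoidHom) := hKp.map _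
  have hK'H : K.map f.symm.toMonoidHom ≤ H := by
    rintro _ ⟨σ, hσ, rfl⟩
    exact h1 σ (hK hσ)
  obtain ⟨χ, hχH, hχ⟩ := hHT _ hK'H hK'p
  refine ⟨f χ, h2 χ hχH, fun σ hσ => ?_⟩
  have hmem : f.symm σ ∈ K.map f.symm.toMonoidHom := ⟨σ, hσ, rfl⟩
  have h4 := hχ _ hmem
  have h5 : χ * f.symm σ * χ⁻¹ ∈ H :=
    H.mul_mem (H.mul_mem hχH (hK'H hmem)) (H.inv_mem hχH)
  have h6 := h3 _ h5 h4
  simpa using h6

/-- Sylow criterion: a `p`-subgroup containing every `p`-element normalizing it is a Sylow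
`p`-subgroup. -/
theorem exists_sylow_of_normalizer [Finite G] {p : ℕ} [Fact p.Prime] {T : Subgroup G}
    (hT : IsPGroup p T)
    (h : ∀ a : G, (∃ k : ℕ, a ^ p ^ k = 1) → (∀ t ∈ T, a * t * a⁻¹ ∈ T) → a ∈ T) :
    ∃ R : Sylow p G, (R : Subgroup G) = T := by
  obtain ⟨R, hTR⟩ := hT.exists_le_sylow
  refine ⟨R, ?_⟩
  by_contra hne
  obtain ⟨g, hgR, hgN, hgT⟩ := Cfsg.Agent.Lib.Helper87.FSSat.exists_normalizer_not_mem
    (S := (R : Subgroup G)) R.isPGroup' hTR (fun h => hne h.symm)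
  apply hgT
  apply h g
  · obtain ⟨k, hk⟩ := R.isPGroup' ⟨g, hgR⟩
    exact ⟨k, congrArg Subtype.val hk⟩
  · intro t ht
    exact (Subgroup.mem_normalizer_iff.mp hgN t).mp ht

end Cfsg.Agent.Lib.Helper88.GenSCP
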