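import Mathlib
import Cfsg.Prelude.Def_FusionSystem
import Cfsg.Agent.Lib.Helper87.FSSat
import Cfsg.Agent.Lib.Helper88.GenSCP
import Cfsg.Agent.H84.FusIso

set_option autoImplicit false

/-! Pairs `(R, P)` of subgroups in a fusion system: isomorphisms carrying a marked subgroup,
good pairs (receptive `R` with the stabilizer of `P` in `Aut_F(R)` having `Aut_S` as a Sylow
subgroup), existence of good pairs and the extension property. -/

namespace Cfsg.Agent.Lib.Helper88.GenPair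

open Cfsg Cfsg.FusionSystem Cfsg.Agent.H84 Cfsg.Agent.Lib.Helper88.GenSCP

variable {Ω : Type*} [Group Ω] {S : Subgroup Ω}

/-- The automorphisms of `R` preserving `P`. -/
def stab (R P : Subgroup Ω) : Subgroup (MulAut R) where
  carrier := {δ | ∀ x : R, ((δ x : R) : Ω) ∈ P ↔ (x : Ω) ∈ P}
  mul_mem' := by
    intro a b ha hb x
    exact (ha (b x)).trans (hb x)
  one_mem' := fun x => Iff.rfl
  inv_mem' := by
    intro a ha x
    have := ha (a⁻¹ x)
    rw [MulAut.apply_inv_self] at this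
    exact this.symm

theorem mem_stab {R P : Subgroup Ω} {δ : MulAut R} :
    δ ∈ stab R P ↔ ∀ x : R, ((δ x : R) : Ω) ∈ P ↔ (x : Ω) ∈ P := Iff.rfl

/-- The isomorphism `e` carries `P` onto `P'`. -/
structure Carries {D D' : Subgroup Ω} (e : D ≃* D') (P P' : Subgroup Ω) : Prop where
  iff : ∀ x : D, ((e x : D') : Ω) ∈ P' ↔ (x : Ω) ∈ P
  le : P' ≤ D'

section carries

variable {D D' D'' : Subgroup Ω}

theorem Carries.symm {e : D ≃* D'} {P P' : Subgroup Ω} (h : Carries e P P') (hP : P ≤ D) :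
    Carries e.symm P' P :=
  ⟨fun y => by
    have := h.iff (e.symm y)
    rw [e.apply_symm_apply] at this
    exact this.symm, hP⟩

theorem Carries.trans {e₁ : D ≃* D'} {e₂ : D' ≃* D''} {P P' P'' : Subgroup Ω}
    (h₁ : Carries e₁ P P') (h₂ : Carries e₂ P' P'') : Carries (e₁.trans e₂) P P'' :=
  ⟨fun x => (h₂.iff (e₁ x)).trans (h₁.iff x), h₂.le⟩

theorem Carries.refl (D P : Subgroup Ω) (hP : P ≤ D) : Carries (MulEquiv.refl D) P P :=
  ⟨fun _ => Iff.rfl, hP⟩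

theorem Carries.self (e : D ≃* D') : Carries e D D' :=
  ⟨fun x => ⟨fun _ => x.2, fun _ => (e x).2⟩, le_rfl⟩

/-- The restriction of an isomorphism `e : D ≃* D'` carrying `R` onto `R'`. -/
noncomputable def Carries.restrict {e : D ≃* D'} {R R' : Subgroup Ω} (h : Carries e R R')
    (hR : R ≤ D) : R ≃* R' :=
  MulEquiv.ofBijective
    (((D'.subtype.comp e.toMonoidHom).comp (Subgroup.inclusion hR)).codRestrict R'
      (fun x => (h.iff _).2 x.2))
    ⟨by
      intro a b hab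
      have h1 : ((e ⟨a, hR a.2⟩ : D') : Ω) = ((e ⟨b, hR b.2⟩ : D') : Ω) := by
        have := congrArg Subtype.val hab
        exact this
      have h2 := e.injective (Subtype.ext h1)
      have h3 : ((⟨a, hR a.2⟩ : D) : Ω) = ((⟨b, hR b.2⟩ : D) : Ω) := congrArg Subtype.val h2
      exact Subtype.ext h3, by
      intro y
      have hx : ((e.symm ⟨y, h.le y.2⟩ : D) : Ω) ∈ R := by
        rw [← h.iff, e.apply_symm_apply]
        exact y.2
      refine ⟨⟨_, hx⟩, ?_⟩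
      apply Subtype.ext
      show ((e ⟨((e.symm ⟨y, h.le y.2⟩ : D) : Ω), _⟩ : D') : Ω) = y
      simp⟩

theorem Carries.restrict_apply {e : D ≃* D'} {R R' : Subgroup Ω} (h : Carries e R R')
    (hR : R ≤ D) (x : R) : ((h.restrict hR x : R') : Ω) = e ⟨x, hR x.2⟩ := rfl

theorem Carries.isIso_restrict {F : FusionSystem S} {e : D ≃* D'} (he : IsIso F e)
    {R R' : Subgroup Ω} (h : Carries e R R') (hR : R ≤ D) : IsIso F (h.restrict hR) :=
  he.restrict hR _ (fun _ => rfl)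

theorem Carries.of_restrict {e : D ≃* D'} {R R' : Subgroup Ω} (h : Carries e R R')
    (hR : R ≤ D) {P P' : Subgroup Ω} (hP : P ≤ R) (h' : Carries e P P') :
    Carries (h.restrict hR) P P' :=
  ⟨fun x => h'.iff ⟨x, hR x.2⟩, by
    intro y hy
    have hx : ((e.symm ⟨y, h'.le hy⟩ : D) : Ω) ∈ P := by
      rw [← h'.iff, e.apply_symm_apply]
      exact hy
    have := (h.iff (e.symm ⟨y, h'.le hy⟩)).2 (hP hx)
    rw [e.apply_symm_apply] at this
    exact this⟩

theorem Carries.isConj {F : FusionSystem S} {e : D ≃* D'} (he : IsIso F e)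
    {P P' : Subgroup Ω} (h : Carries e P P') (hP : P ≤ D) : F.IsConj P P' :=
  (isConj_iff_exists_iso F).2 ⟨h.restrict hP, h.isIso_restrict he hP⟩

theorem Carries.card {e : D ≃* D'} {P P' : Subgroup Ω} (h : Carries e P P') (hP : P ≤ D) :
    Nat.card P = Nat.card P' :=
  Nat.card_congr (h.restrict hP).toEquiv

/-- The image of `E` under `e`. -/
def img (e : D ≃* D') (E : Subgroup Ω) : Subgroup Ω :=
  (E.subgroupOf D).map (D'.subtype.comp e.toMonoidHom)

theorem carries_img (e : D ≃* D') (E : Subgroup Ω) : Carries e E (img e E) :=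
  ⟨fun x => by
    constructor
    · rintro ⟨x', hx', hxx⟩
      have : x' = x := e.injective (Subtype.ext hxx)
      rw [← this]
      exact hx'
    · intro hx
      exact ⟨x, hx, rfl⟩, by
    rintro _ ⟨x, -, rfl⟩
    exact (e x).2⟩

/-- An isomorphism carrying `P` to `P'` carries elements normalizing `P` to elements normalizing
`P'`. -/
theorem Carries.normalizer {e : D ≃* D'} {P P' : Subgroup Ω} (h : Carries e P P')
    (g : D) (hg : (g : Ω) ∈ Subgroup.normalizer (P : Set Ω)) :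
    ((e g : D') : Ω) ∈ Subgroup.normalizer (P' : Set Ω) := by
  have key : ∀ g : D, (g : Ω) ∈ Subgroup.normalizer (P : Set Ω) → ∀ y ∈ P',
      ((e g : D') : Ω) * y * ((e g : D') : Ω)⁻¹ ∈ P' := by
    intro g hg y hy
    have hx : ((e.symm ⟨y, h.le hy⟩ : D) : Ω) ∈ P := by
      rw [← h.iff, e.apply_symm_apply]
      exact hy
    have h1 : (g : Ω) * (e.symm ⟨y, h.le hy⟩ : D) * (g : Ω)⁻¹ ∈ P :=
      (Subgroup.mem_normalizer_iff.mp hg _).mp hx
    have h2 := (h.iff (g * e.symm ⟨y, h.le hy⟩ * g⁻¹)).2 h1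
    rw [map_mul, map_mul, map_inv, e.apply_symm_apply] at h2
    exact h2
  rw [Subgroup.mem_normalizer_iff]
  intro y
  constructor
  · exact key g hg y
  · intro hy
    have h1 := key g⁻¹ (Subgroup.inv_mem _ hg) _ hy
    rw [map_inv] at h1
    have e1 : ((e g : D') : Ω)⁻¹ * (((e g : D') : Ω) * y * ((e g : D') : Ω)⁻¹) *
        (((e g : D') : Ω)⁻¹)⁻¹ = y := by group
    simp only [Subgroup.coe_inv] at h1
    rw [e1] at h1
    exact h1

end carries

/-- `N_S(R) ∩ N_S(P)`. -/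
def NN (S R P : Subgroup Ω) : Subgroup Ω :=
  S ⊓ Subgroup.normalizer (R : Set Ω) ⊓ Subgroup.normalizer (P : Set Ω)

theorem NN_le (S R P : Subgroup Ω) : NN S R P ≤ S := inf_le_left.trans inf_le_left

/-- A good pair: `R` is receptive and every `p`-subgroup of the stabilizer of `P` in `Aut_F(R)`
is conjugate in this stabilizer into `Aut_S(R)`. -/
def GoodPair (F : FusionSystem S) (p : ℕ) (R P : Subgroup Ω) : Prop :=
  F.IsReceptive R ∧ SCP p (F.autGroup R ⊓ stab R P) (autInducedBy S R)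

/-- Every pair over a subgroup with a fully automized receptive conjugate is isomorphic to a good
pair. -/
theorem exists_goodPair [Finite S] {p : ℕ} [Fact p.Prime] (F : FusionSystem S) {R : Subgroup Ω}
    (hR : ∃ R', F.IsConj R R' ∧ F.IsFullyAutomized p R' ∧ F.IsReceptive R') (P : Subgroup Ω) :
    ∃ (R₁ P₁ : Subgroup Ω) (e : R ≃* R₁), IsIso F e ∧ Carries e P P₁ ∧ GoodPair F p R₁ P₁ := by
  obtain ⟨R₁, hconj, hfa, hrec⟩ := hR
  obtain ⟨e₀, he₀⟩ := (isConj_iff_exists_iso F).1 hconj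
  have hR₁S : R₁ ≤ S := hfa.1
  have hfin : Finite R₁ := Cfsg.Agent.Lib.Helper87.FSSat.finite_of_le hR₁S
  have hAT : SCP p (F.autGroup R₁) (autInducedBy S R₁) := fun K hK hKp =>
    Cfsg.Agent.Lib.Helper87.FSSat.exists_conj_le_autS F hfa K hKp hK
  obtain ⟨δ, hδA, hδ⟩ := scp_conj hAT
    (inf_le_left : F.autGroup R₁ ⊓ stab R₁ (img e₀ P) ≤ F.autGroup R₁)
  have hc₀ := carries_img e₀ P
  have hcδ := carries_img (δ : R₁ ≃* R₁) (img e₀ P)
  refine ⟨R₁, img (δ : R₁ ≃* R₁) (img e₀ P), e₀.trans δ,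
    he₀.trans ((mem_autGroup_iff_isIso F hR₁S δ).1 hδA), hc₀.trans hcδ, hrec, ?_⟩
  apply hδ
  · intro σ hσ
    refine ⟨Subgroup.mul_mem _ (Subgroup.mul_mem _ (Subgroup.inv_mem _ hδA) hσ.1) hδA,
      fun x => ?_⟩
    have h1 := hcδ.iff x
    have h2 := hσ.2 (δ x)
    have h3 := hcδ.iff ((δ⁻¹ * σ * δ) x)
    have h4 : δ ((δ⁻¹ * σ * δ) x) = σ (δ x) := by simp [MulAut.mul_apply]
    rw [h4] at h3
    exact h3.symm.trans (h2.trans h1)
  · intro b hb
    refine ⟨Subgroup.mul_mem _ (Subgroup.mul_mem _ hδA hb.1) (Subgroup.inv_mem _ hδA),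
      fun x => ?_⟩
    have h1 := hcδ.iff (b (δ⁻¹ x))
    have h2 := hb.2 (δ⁻¹ x)
    have h3 := hcδ.iff (δ⁻¹ x)
    rw [MulAut.apply_inv_self] at h3
    exact h1.trans (h2.trans h3.symm)

theorem range_iso {D D' : Subgroup Ω} (e : D ≃* D') :
    (D'.subtype.comp e.toMonoidHom).range = D' := by
  ext y
  constructor
  · rintro ⟨x, rfl⟩
    exact (e x).2
  · intro hy
    exact ⟨e.symm ⟨y, hy⟩, by simp⟩

/-- A finite subgroup mapped into itself by conjugation with `g` is normalized by `g`. -/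
theorem mem_normalizer_of_conj_mem {P : Subgroup Ω} [Finite P] {g : Ω}
    (h : ∀ y ∈ P, g * y * g⁻¹ ∈ P) : g ∈ Subgroup.normalizer (P : Set Ω) := by
  rw [Subgroup.mem_normalizer_iff]
  intro y
  refine ⟨h y, fun hy => ?_⟩
  let f : P → P := fun x => ⟨g * x * g⁻¹, h x x.2⟩
  have hinj : Function.Injective f := by
    intro a b hab
    have h1 : g * (a : Ω) * g⁻¹ = g * (b : Ω) * g⁻¹ := congrArg Subtype.val hab
    exact Subtype.ext (mul_left_cancel (mul_right_cancel h1))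
  obtain ⟨x, hx⟩ := Finite.injective_iff_surjective.mp hinj ⟨_, hy⟩
  have h1 : g * (x : Ω) * g⁻¹ = g * y * g⁻¹ := congrArg Subtype.val hx
  have h2 : (x : Ω) = y := mul_left_cancel (mul_right_cancel h1)
  rw [← h2]
  exact x.2

/-- An automorphism in `Aut_S(R)` preserving `P ≤ R` is induced by an element of
`N_S(R) ∩ N_S(P)`. -/
theorem exists_of_mem_autS_stab {R P : Subgroup Ω} [Finite P] (hPR : P ≤ R) {α : MulAut R}
    (hα : α ∈ autInducedBy S R) (hst : α ∈ stab R P) :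
    ∃ g ∈ NN S R P, ∀ x : R, ((α x : R) : Ω) = g * x * g⁻¹ := by
  obtain ⟨g, hg, hgα⟩ := (mem_autInducedBy_iff _ _ _).1 hα
  refine ⟨g, ⟨⟨hg, Cfsg.Agent.Lib.Helper87.FSBasic.mem_normalizer_of_induces hgα⟩, ?_⟩, hgα⟩
  apply mem_normalizer_of_conj_mem
  intro y hy
  rw [← hgα ⟨y, hPR hy⟩]
  exact (hst ⟨y, hPR hy⟩).2 hy

/-- The extension property, from the Sylow-type property of the stabilizer and a receptivity
property: an isomorphism of pairs extends, after composition with an automorphism of the target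
pair, to `N_S(R) ∩ N_S(P)`. -/
theorem extend_core [Finite S] {p : ℕ} [Fact p.Prime] (hS : IsPGroup p S)
    {F : FusionSystem S} {R R' P P' : Subgroup Ω}
    (hscp : SCP p (F.autGroup R' ⊓ stab R' P') (autInducedBy S R'))
    (hrecX : ∀ (e' : R ≃* R'), IsIso F e' → Carries e' P P' →
      ∃ (D : Subgroup Ω) (ψ₀ : D →* Ω), ψ₀ ∈ F.Hom D ∧
        extender S R (R'.subtype.comp e'.toMonoidHom) ⊓ Subgroup.normalizer (P : Set Ω) ≤ D ∧
        ∀ (x : R) (hx : (x : Ω) ∈ D), ψ₀ ⟨x, hx⟩ = ((e' x : R') : Ω))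
    {e : R ≃* R'}
    (he : IsIso F e) (hPR : P ≤ R) (hRN : R ≤ Subgroup.normalizer (P : Set Ω))
    (hP'R' : P' ≤ R') (hc : Carries e P P') :
    ∃ (M' : Subgroup Ω) (e₁ : ↥(NN S R P) ≃* ↥M'),
      IsIso F e₁ ∧ Carries e₁ R R' ∧ Carries e₁ P P' := by
  have hRS : R ≤ S := he.le_left
  have hR'S : R' ≤ S := he.le_right
  have hNNS : NN S R P ≤ S := NN_le S R P
  let K : Subgroup (MulAut R') := (autInducedBy (NN S R P) R).map (MulAut.congr e).toMonoidHom
  have hKp : IsPGroup p K :=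
    (Cfsg.Agent.Lib.Helper87.FSBasic.isPGroup_autInducedBy (hS.to_le hNNS) R).map _
  have hKle : K ≤ F.autGroup R' ⊓ stab R' P' := by
    rintro _ ⟨α, hα, rfl⟩
    obtain ⟨g, hg, hgα⟩ := (mem_autInducedBy_iff _ _ _).1 hα
    refine Subgroup.mem_inf.mpr ⟨?_, ?_⟩
    · show MulAut.congr e α ∈ F.autGroup R'
      have hαF : α ∈ F.autGroup R :=
        Cfsg.Agent.Lib.Helper87.FSBasic.autInducedBy_le_autGroup F hRS
          ((mem_autInducedBy_iff S R α).2 ⟨g, hNNS hg, hgα⟩)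
      rw [mem_autGroup_iff_isIso F hR'S]
      have h1 : IsIso F (e.symm.trans ((α : R ≃* R).trans e)) :=
        he.symm.trans (((mem_autGroup_iff_isIso F hRS α).1 hαF).trans he)
      exact h1
    · intro y
      show ((e (α (e.symm y)) : R') : Ω) ∈ P' ↔ _
      have h1 := hc.iff (α (e.symm y))
      have h2 := hc.iff (e.symm y)
      rw [e.apply_symm_apply] at h2
      have h3 : ((α (e.symm y) : R) : Ω) ∈ P ↔ ((e.symm y : R) : Ω) ∈ P := by
        rw [hgα]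
        exact (Subgroup.mem_normalizer_iff.mp hg.2 _).symm
      exact h1.trans (h3.trans h2.symm)
  obtain ⟨χ, ⟨hχF, hχst⟩, hconj⟩ := hscp K hKle hKp
  have hχiso : IsIso F (χ : R' ≃* R') := (mem_autGroup_iff_isIso F hR'S χ).1 hχF
  have hθ : IsIso F (e.trans χ) := he.trans hχiso
  have hcθ : Carries (e.trans χ) P P' := ⟨fun x => (hχst (e x)).trans (hc.iff x), hc.le⟩
  obtain ⟨D, ψ₀, hψ₀, hD, hext⟩ := hrecX (e.trans χ) hθ hcθ
  have hle : NN S R P ≤ D := by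
    intro g hg
    apply hD
    refine Subgroup.mem_inf.mpr ⟨?_, hg.2⟩
    rw [mem_extender_iff]
    refine ⟨hNNS hg, hg.1.2, ?_⟩
    have hβ : (MulAut.congr e) (R.normalizerMonoidHom ⟨g, hg.1.2⟩) ∈ K :=
      ⟨_, Cfsg.Agent.Lib.Helper87.FSBasic.conj_mem_autInducedBy hg hg.1.2, rfl⟩
    obtain ⟨h, hhS, hh⟩ := (mem_autInducedBy_iff _ _ _).1 (hconj _ hβ)
    refine ⟨h, hhS, fun x hx => ?_⟩
    have h3 := hh (χ (e x))
    show ((χ (e ⟨g * x * g⁻¹, hx⟩) : R') : Ω) = h * ((χ (e x) : R') : Ω) * h⁻¹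
    rw [← h3]
    show ((χ (e ⟨g * x * g⁻¹, hx⟩) : R') : Ω) =
      ((χ (e (R.normalizerMonoidHom ⟨g, hg.1.2⟩ (e.symm (χ⁻¹ (χ (e x)))))) : R') : Ω)
    rw [MulAut.inv_apply_self, e.symm_apply_apply]
    rfl
  have hψ₁ : ψ₀.comp (Subgroup.inclusion hle) ∈ F.Hom (NN S R P) := hom_restrict F hψ₀ hle
  have hRNN : R ≤ NN S R P := fun x hx => ⟨⟨hRS hx, Subgroup.le_normalizer hx⟩, hRN hx⟩
  have hψ₁x : ∀ x : R, ψ₀ ⟨x, hle (hRNN x.2)⟩ = ((χ (e x) : R') : Ω) := fun x =>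
    hext x (hle (hRNN x.2))
  have hinj := F.injective_of_mem hψ₁
  have h1 : ∀ x : NN S R P, ψ₀ ⟨x, hle x.2⟩ ∈ R' ↔ (x : Ω) ∈ R := by
    intro x
    constructor
    · intro h
      have h2 := hψ₁x (e.symm (χ⁻¹ ⟨_, h⟩))
      rw [e.apply_symm_apply, MulAut.apply_inv_self] at h2
      have h3 : (ψ₀.comp (Subgroup.inclusion hle)) ⟨_, hRNN (e.symm (χ⁻¹ ⟨_, h⟩)).2⟩ =
          (ψ₀.comp (Subgroup.inclusion hle)) x := h2
      have h4 := hinj h3
      rw [← h4]
      exact (e.symm (χ⁻¹ ⟨_, h⟩)).2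
    · intro hx
      have := hψ₁x ⟨x, hx⟩
      rw [this]
      exact (χ (e ⟨x, hx⟩)).2
  have h2 : R' ≤ (ψ₀.comp (Subgroup.inclusion hle)).range := by
    intro y hy
    have h2 := hψ₁x (e.symm (χ⁻¹ ⟨y, hy⟩))
    rw [e.apply_symm_apply, MulAut.apply_inv_self] at h2
    exact ⟨⟨_, hRNN (e.symm (χ⁻¹ ⟨y, hy⟩)).2⟩, h2⟩
  refine ⟨_, MonoidHom.ofInjective hinj, isIso_ofInjective hψ₁, ⟨h1, h2⟩,
    ⟨fun x => ?_, hP'R'.trans h2⟩⟩
  show ψ₀ ⟨x, hle x.2⟩ ∈ P' ↔ (x : Ω) ∈ P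
  constructor
  · intro h
    have hxR : (x : Ω) ∈ R := (h1 x).1 (hP'R' h)
    have h3 := hψ₁x ⟨x, hxR⟩
    have h4 : ((χ (e ⟨x, hxR⟩) : R') : Ω) ∈ P' := by rw [← h3]; exact h
    exact (hc.iff ⟨x, hxR⟩).1 ((hχst (e ⟨x, hxR⟩)).1 h4)
  · intro hx
    have h3 := hψ₁x ⟨x, hPR hx⟩
    have h4 : ψ₀ ⟨x, hle x.2⟩ = ((χ (e ⟨x, hPR hx⟩) : R') : Ω) := h3
    rw [h4]
    exact (hχst _).2 ((hc.iff ⟨x, hPR hx⟩).2 hx)

/-- The extension property of good pairs: an isomorphism of pairs onto a good pair extends,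
after composition with an automorphism of the good pair, to `N_S(R) ∩ N_S(P)`. -/
theorem GoodPair.extend [Finite S] {p : ℕ} [Fact p.Prime] (hS : IsPGroup p S)
    {F : FusionSystem S} {R R' P P' : Subgroup Ω} (hgood : GoodPair F p R' P') {e : R ≃* R'}
    (he : IsIso F e) (hPR : P ≤ R) (hRN : R ≤ Subgroup.normalizer (P : Set Ω))
    (hP'R' : P' ≤ R') (hc : Carries e P P') :
    ∃ (M' : Subgroup Ω) (e₁ : ↥(NN S R P) ≃* ↥M'),
      IsIso F e₁ ∧ Carries e₁ R R' ∧ Carries e₁ P P' := by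
  refine extend_core hS hgood.2 (fun e' he' _ => ?_) he hPR hRN hP'R' hc
  obtain ⟨ψ₀, hψ₀, hext⟩ := hgood.1.2 R _ he' (range_iso e')
  exact ⟨_, ψ₀, hψ₀, inf_le_left, fun x hx => hext x x.2 hx⟩

end Cfsg.Agent.Lib.Helper88.GenPair
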