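import Mathlib
import Cfsg.Prelude.Def_FusionSystem
import Cfsg.Agent.Lib.Helper88.GenPair
import Cfsg.Agent.Lib.Helper88.FSBase

set_option autoImplicit false

/-! Generation by a family: the induction principle, and the maps `N_S(P) → N_S(P̂)` onto a fully
normalized member `P̂` of a conjugacy class of maximal order outside the family. -/

namespace Cfsg.Agent.Lib.Helper88.GenA

open Cfsg Cfsg.FusionSystem Cfsg.Agent.H84 Cfsg.Agent.Lib.Helper88.GenSCP
  Cfsg.Agent.Lib.Helper88.GenPair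

variable {Ω : Type*} [Group Ω] {S : Subgroup Ω}

theorem card_lt_of_not_mem {A B : Subgroup Ω} [Finite B] (h : A ≤ B) {g : Ω} (hg : g ∈ B)
    (hn : g ∉ A) : Nat.card A < Nat.card B := by
  by_contra hcon
  have := Subgroup.eq_of_le_of_card_ge h (not_lt.mp hcon)
  exact hn (this ▸ hg)

/-- The induction principle given by generation: a property of isomorphisms of the system between
members of a class `C`, stable under composition and inverses, holding for conjugations by `S` and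
for restrictions of maps defined on members of the family, holds for all isomorphisms. -/
theorem gen_principle (F : FusionSystem S) (ℋ : Set (Subgroup Ω))
    (hgen : ∀ E : FusionSystem S, (∀ P ∈ ℋ, F.Hom P ⊆ E.Hom P) → F ≤ E)
    (C : Set (Subgroup Ω))
    (hC : ∀ Y ∈ C, ∀ (Y' : Subgroup Ω) (e : Y ≃* Y'), IsIso F e → Y' ∈ C)
    (Nice : ∀ (Y Y' : Subgroup Ω), (Y ≃* Y') → Prop)
    (hconj : ∀ Y ∈ C, ∀ g ∈ S, ∀ (Y' : Subgroup Ω) (e : Y ≃* Y'),
      (∀ x : Y, ((e x : Y') : Ω) = g * x * g⁻¹) → Nice Y Y' e)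
    (htrans : ∀ Y ∈ C, ∀ (Y' Y'' : Subgroup Ω) (e₁ : Y ≃* Y') (e₂ : Y' ≃* Y''), IsIso F e₁ →
      IsIso F e₂ → Nice Y Y' e₁ → Nice Y' Y'' e₂ → Nice Y Y'' (e₁.trans e₂))
    (hsymm : ∀ Y ∈ C, ∀ (Y' : Subgroup Ω) (e : Y ≃* Y'), IsIso F e → Nice Y Y' e →
      Nice Y' Y e.symm)
    (hext : ∀ X ∈ ℋ, ∀ φ ∈ F.Hom X, ∀ Y ∈ C, ∀ (hYX : Y ≤ X) (Y' : Subgroup Ω) (e : Y ≃* Y'),
      (∀ x : Y, ((e x : Y') : Ω) = φ ⟨x, hYX x.2⟩) → Nice Y Y' e) :
    ∀ Y ∈ C, ∀ (Y' : Subgroup Ω) (e : Y ≃* Y'), IsIso F e → Nice Y Y' e := by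
  let E : FusionSystem S :=
    { Hom := fun X => {φ | φ ∈ F.Hom X ∧ ∀ Y ∈ C, ∀ (hYX : Y ≤ X) (Y' : Subgroup Ω)
        (e : Y ≃* Y'), (∀ x : Y, ((e x : Y') : Ω) = φ ⟨x, hYX x.2⟩) → Nice Y Y' e}
      le_of_mem := fun h => F.le_of_mem h.1
      injective_of_mem := fun h => F.injective_of_mem h.1
      conj_mem := by
        intro P g hP hg
        exact ⟨F.conj_mem hP hg, fun Y hY hYP Y' e he => hconj Y hY g hg Y' e he⟩
      comp_mem := by
        intro P Q φ ψ hφ hψ h
        refine ⟨F.comp_mem hφ.1 hψ.1 h, fun Y hY hYP Y' e he => ?_⟩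
        have hφY : φ.comp (Subgroup.inclusion hYP) ∈ F.Hom Y := hom_restrict F hφ.1 hYP
        let e₁ := MonoidHom.ofInjective (F.injective_of_mem hφY)
        have he₁ : IsIso F e₁ := isIso_ofInjective hφY
        have hY₁Q : (φ.comp (Subgroup.inclusion hYP)).range ≤ Q := by
          rintro _ ⟨x, rfl⟩
          exact h _
        have hY₁C := hC Y hY _ e₁ he₁
        have hN₁ : Nice Y _ e₁ := hφ.2 Y hY hYP _ e₁ (fun x => rfl)
        have heiso : IsIso F e := by
          have h1 : (ψ.comp (φ.codRestrict Q h)).comp (Subgroup.inclusion hYP) ∈ F.Hom Y :=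
            hom_restrict F (F.comp_mem hφ.1 hψ.1 h) hYP
          exact hom_congr F h1 (fun x => he x)
        have he₂ : IsIso F (e₁.symm.trans e) := he₁.symm.trans heiso
        have hN₂ : Nice _ Y' (e₁.symm.trans e) := by
          apply hψ.2 _ hY₁C hY₁Q Y' (e₁.symm.trans e)
          rintro ⟨_, x, rfl⟩
          have h1 : e₁.symm ⟨(φ.comp (Subgroup.inclusion hYP)) x, ⟨x, rfl⟩⟩ = x := by
            apply e₁.injective
            rw [e₁.apply_symm_apply]
            rfl
          show ((e (e₁.symm ⟨(φ.comp (Subgroup.inclusion hYP)) x, ⟨x, rfl⟩⟩) : Y') : Ω) = _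
          rw [h1, he x]
          rfl
        have h3 := htrans Y hY _ Y' e₁ (e₁.symm.trans e) he₁ he₂ hN₁ hN₂
        have h4 : e₁.trans (e₁.symm.trans e) = e := by
          ext x
          simp
        rwa [h4] at h3
      inv_mem := by
        intro P φ hφ
        obtain ⟨ψ, hψ, hψx⟩ := F.inv_mem hφ.1
        refine ⟨ψ, ⟨hψ, fun Y' hY' hY'r Y'' e' he' => ?_⟩, hψx⟩
        have he'iso : IsIso F e' := hom_congr F (hom_restrict F hψ hY'r) (fun x => he' x)
        have hY''C := hC Y' hY' Y'' e' he'iso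
        have hY''P : Y'' ≤ P := by
          intro z hz
          have h1 := he' (e'.symm ⟨z, hz⟩)
          rw [e'.apply_symm_apply] at h1
          obtain ⟨x, hx⟩ := hY'r (e'.symm ⟨z, hz⟩).2
          have h2 : (⟨((e'.symm ⟨z, hz⟩ : Y') : Ω), hY'r (e'.symm ⟨z, hz⟩).2⟩ : φ.range) =
              ⟨φ x, ⟨x, rfl⟩⟩ := Subtype.ext hx.symm
          rw [h2, hψx] at h1
          have h3 : z = x := h1
          rw [h3]
          exact x.2
        have hN : Nice Y'' Y' e'.symm := by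
          apply hφ.2 Y'' hY''C hY''P Y' e'.symm
          intro z
          obtain ⟨x, hx⟩ := hY'r (e'.symm z).2
          have h1 := he' (e'.symm z)
          rw [e'.apply_symm_apply] at h1
          have h2 : (⟨((e'.symm z : Y') : Ω), hY'r (e'.symm z).2⟩ : φ.range) =
              ⟨φ x, ⟨x, rfl⟩⟩ := Subtype.ext hx.symm
          rw [h2, hψx] at h1
          rw [← hx]
          congr 1
          exact Subtype.ext h1.symm
        have := hsymm Y'' hY''C Y' e'.symm he'iso.symm hN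
        rwa [MulEquiv.symm_symm] at this }
  have hle : F ≤ E := hgen E (fun X hX φ hφ => ⟨hφ, fun Y hY hYX Y' e he =>
    hext X hX φ hφ Y hY hYX Y' e he⟩)
  intro Y hY Y' e he
  exact (hle Y he).2 Y hY le_rfl Y' e (fun x => rfl)


/-- `P` is carried onto `P̂` by an isomorphism of the system defined on `N_S(P)`. -/
def Good0 (F : FusionSystem S) (P Phat : Subgroup Ω) : Prop :=
  ∃ (M : Subgroup Ω) (e : ↥(normalizerIn S P) ≃* ↥M), IsIso F e ∧ Carries e P Phat

section lemmaA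

variable [Finite S] {p : ℕ} [Fact p.Prime]

/-- If an isomorphism defined on a subgroup `R` with `P < R ≤ N_S(P)` carries `P` onto the fully
normalized `P̂`, so does one defined on `N_S(P)`. -/
theorem good0_of_extends (hS : IsPGroup p S) (F : FusionSystem S) {Phat : Subgroup Ω}
    (hfn : ∀ Y, F.IsConj Phat Y →
      Nat.card (normalizerIn S Y) ≤ Nat.card (normalizerIn S Phat))
    (hbig : ∀ R : Subgroup Ω, R ≤ S → Nat.card Phat < Nat.card R →
      ∃ R', F.IsConj R R' ∧ F.IsFullyAutomized p R' ∧ F.IsReceptive R') :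
    ∀ (k : ℕ) (P R R' : Subgroup Ω) (e : R ≃* R'), IsIso F e → F.IsConj Phat P → P ≤ R →
      R ≤ normalizerIn S P → Nat.card P < Nat.card R → Carries e P Phat →
      Nat.card (normalizerIn S Phat) - Nat.card R ≤ k → Good0 F P Phat := by
  intro k
  induction k with
  | zero =>
    intro P R R' e he hconj hPR hRN hlt hc hk
    have h1 := hfn P hconj
    have hfinN : Finite (normalizerIn S P) :=
      Cfsg.Agent.Lib.Helper87.FSSat.finite_of_le inf_le_left
    have hRe : R = normalizerIn S P := Subgroup.eq_of_le_of_card_ge hRN (by omega)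
    subst hRe
    exact ⟨R', e, he, hc⟩
  | succ k ih =>
    intro P R R' e he hconj hPR hRN hlt hc hk
    by_cases hRe : R = normalizerIn S P
    · subst hRe
      exact ⟨R', e, he, hc⟩
    · have hcardP : Nat.card Phat = Nat.card P := Cfsg.Agent.Lib.Helper88.FSBase.isConj_card F hconj
      have hRS : R ≤ S := he.le_left
      have hR'S : R' ≤ S := he.le_right
      have hPhR' : Phat ≤ R' := hc.le
      have hcardR : Nat.card R = Nat.card R' := Nat.card_congr e.toEquiv
      have hR'N : R' ≤ normalizerIn S Phat := by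
        intro y hy
        have := hc.normalizer (e.symm ⟨y, hy⟩) (hRN (e.symm ⟨y, hy⟩).2).2
        rw [e.apply_symm_apply] at this
        exact ⟨hR'S hy, this⟩
      have hfinN : Finite (normalizerIn S P) :=
        Cfsg.Agent.Lib.Helper87.FSSat.finite_of_le inf_le_left
      have hfinNh : Finite (normalizerIn S Phat) :=
        Cfsg.Agent.Lib.Helper87.FSSat.finite_of_le inf_le_left
      have hfinM : Finite (NN S R P) := Cfsg.Agent.Lib.Helper87.FSSat.finite_of_le (NN_le S R P)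
      have hfinM' : Finite (NN S R' Phat) :=
        Cfsg.Agent.Lib.Helper87.FSSat.finite_of_le (NN_le S R' Phat)
      -- `R < N_S(R) ∩ N_S(P)`
      obtain ⟨g, hgN, hgR, hgnot⟩ := Cfsg.Agent.Lib.Helper87.FSSat.exists_normalizer_not_mem
        (S := normalizerIn S P) (hS.to_le inf_le_left) hRN hRe
      have hgM : g ∈ NN S R P := ⟨⟨hgN.1, hgR⟩, hgN.2⟩
      have hRM : R ≤ NN S R P := fun x hx => ⟨⟨hRS hx, Subgroup.le_normalizer hx⟩, (hRN hx).2⟩
      have hMlt : Nat.card R < Nat.card (NN S R P) := card_lt_of_not_mem hRM hgM hgnot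
      -- `R' < N_S(R') ∩ N_S(P̂)`
      have hR'ne : R' ≠ normalizerIn S Phat := by
        intro h
        apply hRe
        apply Subgroup.eq_of_le_of_card_ge hRN
        rw [hcardR, h]
        exact hfn P hconj
      obtain ⟨g', hg'N, hg'R, hg'not⟩ := Cfsg.Agent.Lib.Helper87.FSSat.exists_normalizer_not_mem
        (S := normalizerIn S Phat) (hS.to_le inf_le_left) hR'N hR'ne
      have hg'M : g' ∈ NN S R' Phat := ⟨⟨hg'N.1, hg'R⟩, hg'N.2⟩
      have hR'M : R' ≤ NN S R' Phat :=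
        fun x hx => ⟨⟨hR'S hx, Subgroup.le_normalizer hx⟩, (hR'N hx).2⟩
      have hM'lt : Nat.card R' < Nat.card (NN S R' Phat) := card_lt_of_not_mem hR'M hg'M hg'not
      -- a good pair isomorphic to `(R', P̂)`
      obtain ⟨R₁, P₁, θ, hθ, hcθ, hgood⟩ := exists_goodPair F (hbig R' hR'S (by omega)) Phat
      have hP₁R₁ : P₁ ≤ R₁ := hcθ.le
      obtain ⟨M₁, ψ₁, hψ₁, hψ₁R, hψ₁P⟩ := hgood.extend hS (he.trans hθ) hPR
        (fun x hx => (hRN hx).2) hP₁R₁ (hc.trans hcθ)
      obtain ⟨M₁', θ₁, hθ₁, hθ₁R, hθ₁P⟩ := hgood.extend hS hθ hPhR'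
        (fun x hx => (hR'N hx).2) hP₁R₁ hcθ
      -- induction for `P₁`
      have hconj₁ : F.IsConj Phat P₁ := hcθ.isConj hθ hPhR'
      have hPhM' : Phat ≤ NN S R' Phat := hPhR'.trans hR'M
      have hM₁'N : M₁' ≤ normalizerIn S P₁ := by
        intro y hy
        have := hθ₁P.normalizer (θ₁.symm ⟨y, hy⟩) (θ₁.symm ⟨y, hy⟩).2.2
        rw [θ₁.apply_symm_apply] at this
        exact ⟨hθ₁.le_right hy, this⟩
      have hcardM' : Nat.card (NN S R' Phat) = Nat.card M₁' := Nat.card_congr θ₁.toEquiv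
      have hcardP₁ : Nat.card Phat = Nat.card P₁ := hcθ.card hPhR'
      obtain ⟨M₃, φ₁, hφ₁, hcφ₁⟩ := ih P₁ M₁' (NN S R' Phat) θ₁.symm hθ₁.symm hconj₁ hθ₁P.le
        hM₁'N (by omega) (hθ₁P.symm hPhM') (by omega)
      -- compose
      have hPM : P ≤ NN S R P := hPR.trans hRM
      have hM₁N : M₁ ≤ normalizerIn S P₁ := by
        intro y hy
        have := hψ₁P.normalizer (ψ₁.symm ⟨y, hy⟩) (ψ₁.symm ⟨y, hy⟩).2.2
        rw [ψ₁.apply_symm_apply] at this
        exact ⟨hψ₁.le_right hy, this⟩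
      have hci := carries_img φ₁ M₁
      have hφ₂ : IsIso F (hci.restrict hM₁N) := hci.isIso_restrict hφ₁ hM₁N
      have hcφ₂ : Carries (hci.restrict hM₁N) P₁ Phat := hci.of_restrict hM₁N hψ₁P.le hcφ₁
      exact ih P (NN S R P) _ (ψ₁.trans (hci.restrict hM₁N)) (hψ₁.trans hφ₂) hconj hPM
        (fun x hx => ⟨hx.1.1, hx.2⟩) (by omega) (hψ₁P.trans hcφ₂) (by omega)

/-- Restricting a map defined on a strictly bigger subgroup `X` to a member `Y` of the class:
the source `Y` is carried onto `P̂` from its normalizer iff the image is. -/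
theorem good0_iff_of_restrict (hS : IsPGroup p S) (F : FusionSystem S) {Phat : Subgroup Ω}
    (hfn : ∀ Y, F.IsConj Phat Y →
      Nat.card (normalizerIn S Y) ≤ Nat.card (normalizerIn S Phat))
    (hbig : ∀ R : Subgroup Ω, R ≤ S → Nat.card Phat < Nat.card R →
      ∃ R', F.IsConj R R' ∧ F.IsFullyAutomized p R' ∧ F.IsReceptive R')
    {X : Subgroup Ω} {φ : X →* Ω} (hφ : φ ∈ F.Hom X) {Y Y' : Subgroup Ω}
    (hY : F.IsConj Phat Y) (hYX : Y ≤ X) (hne : Y ≠ X) (e : Y ≃* Y')
    (he : ∀ x : Y, ((e x : Y') : Ω) = φ ⟨x, hYX x.2⟩) :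
    Good0 F Y Phat ↔ Good0 F Y' Phat := by
  have hXS : X ≤ S := (F.le_of_mem hφ).1
  have hfinX : Finite X := Cfsg.Agent.Lib.Helper87.FSSat.finite_of_le hXS
  obtain ⟨g, hgX, hgN, hgY⟩ := Cfsg.Agent.Lib.Helper87.FSSat.exists_normalizer_not_mem
    (S := X) (hS.to_le hXS) hYX hne
  obtain ⟨R, hRdef⟩ : ∃ R : Subgroup Ω, R = X ⊓ Subgroup.normalizer (Y : Set Ω) := ⟨_, rfl⟩
  have hYR : Y ≤ R := fun x hx => hRdef ▸ ⟨hYX hx, Subgroup.le_normalizer hx⟩
  have hRX : R ≤ X := hRdef ▸ inf_le_left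
  have hRN : R ≤ normalizerIn S Y := fun x hx => by
    rw [hRdef] at hx
    exact ⟨hXS hx.1, hx.2⟩
  have hfinR : Finite R := Cfsg.Agent.Lib.Helper87.FSSat.finite_of_le (hRX.trans hXS)
  have hgR : g ∈ R := hRdef ▸ ⟨hgX, hgN⟩
  have hlt : Nat.card Y < Nat.card R := card_lt_of_not_mem hYR hgR hgY
  have hφR : φ.comp (Subgroup.inclusion hRX) ∈ F.Hom R := hom_restrict F hφ hRX
  obtain ⟨eR, heRdef⟩ : ∃ eR : R ≃* (φ.comp (Subgroup.inclusion hRX)).range,
      eR = MonoidHom.ofInjective (F.injective_of_mem hφR) := ⟨_, rfl⟩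
  have heRx : ∀ x : R, ((eR x : (φ.comp (Subgroup.inclusion hRX)).range) : Ω) =
      φ ⟨x, hRX x.2⟩ := fun x => by rw [heRdef]; rfl
  have heR : IsIso F eR := heRdef ▸ isIso_ofInjective hφR
  have heiso : IsIso F e := hom_congr F (hom_restrict F hφ hYX) (fun x => he x)
  have hY'C : F.IsConj Phat Y' := isConj_trans F hY ((isConj_iff_exists_iso F).2 ⟨e, heiso⟩)
  have hcR : Carries eR Y Y' := by
    refine ⟨fun x => ?_, ?_⟩
    · rw [heRx]
      constructor
      · intro h
        have h1 := he (e.symm ⟨_, h⟩)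
        rw [e.apply_symm_apply] at h1
        have h2 := F.injective_of_mem hφ h1
        have h3 : (x : Ω) = ((e.symm ⟨_, h⟩ : Y) : Ω) := congrArg Subtype.val h2
        rw [h3]
        exact (e.symm ⟨_, h⟩).2
      · intro hx
        have h2 : φ ⟨x, hRX x.2⟩ = ((e ⟨x, hx⟩ : Y') : Ω) := (he ⟨x, hx⟩).symm
        rw [h2]
        exact (e ⟨x, hx⟩).2
    · intro z hz
      have h1 := he (e.symm ⟨z, hz⟩)
      rw [e.apply_symm_apply] at h1
      exact ⟨⟨_, hYR (e.symm ⟨z, hz⟩).2⟩, h1.symm⟩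
  have hcardY : Nat.card Y = Nat.card Y' := Nat.card_congr e.toEquiv
  have hcardR := Nat.card_congr eR.toEquiv
  have hR'N : (φ.comp (Subgroup.inclusion hRX)).range ≤ normalizerIn S Y' := by
    intro y hy
    have := hcR.normalizer (eR.symm ⟨y, hy⟩) (hRN (eR.symm ⟨y, hy⟩).2).2
    rw [eR.apply_symm_apply] at this
    exact ⟨heR.le_right hy, this⟩
  constructor
  · rintro ⟨M, χ, hχ, hcχ⟩
    have hci := carries_img χ R
    have h1 : IsIso F (hci.restrict hRN) := hci.isIso_restrict hχ hRN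
    have h2 : Carries (hci.restrict hRN) Y Phat := hci.of_restrict hRN hYR hcχ
    exact good0_of_extends hS F hfn hbig _ Y' _ _ (eR.symm.trans (hci.restrict hRN))
      (heR.symm.trans h1) hY'C hcR.le hR'N (by omega) ((hcR.symm hYR).trans h2) le_rfl
  · rintro ⟨M', χ', hχ', hcχ'⟩
    have hci := carries_img χ' (φ.comp (Subgroup.inclusion hRX)).range
    have h1 := hci.isIso_restrict hχ' hR'N
    have h2 := hci.of_restrict hR'N hcR.le hcχ'
    exact good0_of_extends hS F hfn hbig _ Y R _ (eR.trans (hci.restrict hR'N))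
      (heR.trans h1) hY hYR hRN hlt (hcR.trans h2) le_rfl

/-- **Lemma A.** Every member of the class of `P̂` is carried onto `P̂` by an isomorphism defined
on its normalizer. -/
theorem lemmaA (hS : IsPGroup p S) (F : FusionSystem S) (ℋ : Set (Subgroup Ω))
    (hgen : ∀ E : FusionSystem S, (∀ P ∈ ℋ, F.Hom P ⊆ E.Hom P) → F ≤ E)
    {Phat : Subgroup Ω} (hPhS : Phat ≤ S) (hPhℋ : ∀ Y, F.IsConj Phat Y → Y ∉ ℋ)
    (hcardS : Nat.card Phat < Nat.card S)
    (hfn : ∀ Y, F.IsConj Phat Y →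
      Nat.card (normalizerIn S Y) ≤ Nat.card (normalizerIn S Phat))
    (hbig : ∀ R : Subgroup Ω, R ≤ S → Nat.card Phat < Nat.card R →
      ∃ R', F.IsConj R R' ∧ F.IsFullyAutomized p R' ∧ F.IsReceptive R') :
    ∀ Y, F.IsConj Phat Y → Good0 F Y Phat := by
  have key := gen_principle F ℋ hgen {Y | F.IsConj Phat Y}
    (fun Y hY Y' e he => isConj_trans F hY ((isConj_iff_exists_iso F).2 ⟨e, he⟩))
    (fun Y Y' _ => Good0 F Y Phat ↔ Good0 F Y' Phat)
    (by
      intro Y hY g hg Y' e he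
      have hYS : Y ≤ S := isConj_le_right F hY
      have hYne : Y ≠ S := by
        intro h
        have := Cfsg.Agent.Lib.Helper88.FSBase.isConj_card F hY
        rw [h] at this
        omega
      have hlt := Cfsg.Agent.Lib.Helper87.FSSat.card_lt_card_normalizerIn hS hYS hYne
      have hne : Y ≠ normalizerIn S Y := by
        intro h
        rw [← h] at hlt
        exact lt_irrefl _ hlt
      exact good0_iff_of_restrict hS F hfn hbig
        (F.conj_mem (inf_le_left : normalizerIn S Y ≤ S) hg) hY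
        (Cfsg.Agent.Lib.Helper87.FSSat.le_normalizerIn hYS) hne e (fun x => he x))
    (fun Y _ Y' Y'' e₁ e₂ _ _ h₁ h₂ => h₁.trans h₂)
    (fun Y _ Y' e _ h => h.symm)
    (by
      intro X hX φ hφ Y hY hYX Y' e he
      have hne : Y ≠ X := fun h => hPhℋ Y hY (h ▸ hX)
      exact good0_iff_of_restrict hS F hfn hbig hφ hY hYX hne e he)
  intro Y hY
  obtain ⟨e, he⟩ := (isConj_iff_exists_iso F).1 hY
  have h1 := key Phat (isConj_refl F hPhS) Y e he
  apply h1.1
  exact ⟨normalizerIn S Phat, MulEquiv.refl _, IsIso.refl F inf_le_left,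
    Carries.refl _ _ (Cfsg.Agent.Lib.Helper87.FSSat.le_normalizerIn hPhS)⟩

end lemmaA

end Cfsg.Agent.Lib.Helper88.GenA
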