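import Mathlib
import Cfsg.Prelude.Def_FusionSystem
import Cfsg.Agent.Lib.Helper88.GenA

set_option autoImplicit false

/-! Pairs `(R, P̂)` over a fully normalized `P̂`: receptivity relative to `N_S(P̂)`, existence of
good representatives inside `N_S(P̂)` and the extension property. -/

namespace Cfsg.Agent.Lib.Helper88.GenN

open Cfsg Cfsg.FusionSystem Cfsg.Agent.H84 Cfsg.Agent.Lib.Helper88.GenSCP
  Cfsg.Agent.Lib.Helper88.GenPair Cfsg.Agent.Lib.Helper88.GenA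

variable {Ω : Type*} [Group Ω] {S : Subgroup Ω}

/-- Receptivity of `R` relative to the normalizer of `P̂`: isomorphisms onto `R` from subgroups
of `N_S(P̂)`, preserving `P̂`, extend to the part of the extender inside `N_S(P̂)`. -/
def NRec (F : FusionSystem S) (Phat R : Subgroup Ω) : Prop :=
  ∀ (T : Subgroup Ω) (e : T ≃* R), IsIso F e → Phat ≤ T → T ≤ normalizerIn S Phat →
    Carries e Phat Phat →
    ∃ ψ ∈ F.Hom (extender S T (R.subtype.comp e.toMonoidHom) ⊓ normalizerIn S Phat),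
      ∀ (x : T) (hx : (x : Ω) ∈ extender S T (R.subtype.comp e.toMonoidHom) ⊓
        normalizerIn S Phat), ψ ⟨x, hx⟩ = ((e x : R) : Ω)

/-- A good subgroup over `P̂`. -/
def NGood (F : FusionSystem S) (p : ℕ) (Phat R : Subgroup Ω) : Prop :=
  SCP p (F.autGroup R ⊓ stab R Phat) (autInducedBy S R) ∧ NRec F Phat R

/-- The extension property for good subgroups over `P̂`. -/
theorem NGood.extend [Finite S] {p : ℕ} [Fact p.Prime] (hS : IsPGroup p S)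
    {F : FusionSystem S} {Phat R R' : Subgroup Ω} (hgood : NGood F p Phat R') {e : R ≃* R'}
    (he : IsIso F e) (hPR : Phat ≤ R) (hRN : R ≤ normalizerIn S Phat)
    (hc : Carries e Phat Phat) :
    ∃ (M' : Subgroup Ω) (e₁ : ↥(NN S R Phat) ≃* ↥M'),
      IsIso F e₁ ∧ Carries e₁ R R' ∧ Carries e₁ Phat Phat := by
  refine extend_core hS hgood.1 (fun e' he' hc' => ?_) he hPR (fun x hx => (hRN hx).2) hc.le hc
  obtain ⟨ψ, hψ, hext⟩ := hgood.2 R e' he' hPR hRN hc'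
  refine ⟨_, ψ, hψ, ?_, fun x hx => hext x hx⟩
  intro g hg
  have h1 : g ∈ extender S R (R'.subtype.comp e'.toMonoidHom) := hg.1
  exact Subgroup.mem_inf.mpr ⟨h1,
    Subgroup.mem_inf.mpr ⟨Cfsg.Agent.Lib.Helper88.FSBase.extender_le _ _ h1, hg.2⟩⟩

/-- Every subgroup `R` with `P̂ < R ≤ N_S(P̂)` is isomorphic, by an isomorphism preserving `P̂`,
to a good subgroup over `P̂`. -/
theorem exists_nGood [Finite S] {p : ℕ} [Fact p.Prime] (hS : IsPGroup p S) (F : FusionSystem S)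
    {Phat : Subgroup Ω}
    (hbig : ∀ R : Subgroup Ω, R ≤ S → Nat.card Phat < Nat.card R →
      ∃ R', F.IsConj R R' ∧ F.IsFullyAutomized p R' ∧ F.IsReceptive R')
    (hA : ∀ Y, F.IsConj Phat Y → Good0 F Y Phat)
    {R : Subgroup Ω} (hPR : Phat ≤ R) (hRN : R ≤ normalizerIn S Phat)
    (hlt : Nat.card Phat < Nat.card R) :
    ∃ (R₂ : Subgroup Ω) (θ : R ≃* R₂), IsIso F θ ∧ Carries θ Phat Phat ∧
      R₂ ≤ normalizerIn S Phat ∧ NGood F p Phat R₂ := by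
  have hRS : R ≤ S := hRN.trans inf_le_left
  obtain ⟨R₁, P₁, e₀, he₀, hc₀, hgood⟩ := exists_goodPair F (hbig R hRS hlt) Phat
  have hP₁R₁ : P₁ ≤ R₁ := hc₀.le
  have hR₁S : R₁ ≤ S := he₀.le_right
  have hconj₁ : F.IsConj Phat P₁ := hc₀.isConj he₀ hPR
  obtain ⟨M₃, φ₁, hφ₁, hcφ₁⟩ := hA P₁ hconj₁
  have hR₁N : R₁ ≤ normalizerIn S P₁ := by
    intro y hy
    have := hc₀.normalizer (e₀.symm ⟨y, hy⟩) (hRN (e₀.symm ⟨y, hy⟩).2).2
    rw [e₀.apply_symm_apply] at this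
    exact ⟨hR₁S hy, this⟩
  have hM₃S : M₃ ≤ S := hφ₁.le_right
  have hM₃N : M₃ ≤ normalizerIn S Phat := by
    intro y hy
    have := hcφ₁.normalizer (φ₁.symm ⟨y, hy⟩) (φ₁.symm ⟨y, hy⟩).2.2
    rw [φ₁.apply_symm_apply] at this
    exact ⟨hM₃S hy, this⟩
  have hci := carries_img φ₁ R₁
  obtain ⟨R₂, hR₂⟩ : ∃ R₂ : Subgroup Ω, R₂ = img φ₁ R₁ := ⟨_, rfl⟩
  rw [← hR₂] at hci
  obtain ⟨φR, hφRdef⟩ : ∃ φR : R₁ ≃* R₂, φR = hci.restrict hR₁N := ⟨_, rfl⟩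
  have hφRx : ∀ x : R₁, ((φR x : R₂) : Ω) = φ₁ ⟨x, hR₁N x.2⟩ := fun x => by rw [hφRdef]; rfl
  have hφR : IsIso F φR := hφRdef ▸ hci.isIso_restrict hφ₁ hR₁N
  have hcφR : Carries φR P₁ Phat := hφRdef ▸ hci.of_restrict hR₁N hP₁R₁ hcφ₁
  have hR₂M : R₂ ≤ M₃ := hci.le
  have hR₂N : R₂ ≤ normalizerIn S Phat := hR₂M.trans hM₃N
  have hR₂S : R₂ ≤ S := hR₂M.trans hM₃S
  have hPhR₂ : Phat ≤ R₂ := hcφR.le
  have hfinP₁ : Finite P₁ := Cfsg.Agent.Lib.Helper87.FSSat.finite_of_le (hP₁R₁.trans hR₁S)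
  have hfinR₂ : Finite R₂ := Cfsg.Agent.Lib.Helper87.FSSat.finite_of_le hR₂S
  -- the image of `N_S(R₁) ∩ N_S(P₁)` is `N_S(R₂) ∩ N_S(P̂)`
  have hNNle : NN S R₁ P₁ ≤ normalizerIn S P₁ := fun x hx => ⟨hx.1.1, hx.2⟩
  have himg_le : img φ₁ (NN S R₁ P₁) ≤ NN S R₂ Phat := by
    rintro _ ⟨x, hx, rfl⟩
    have hx' : (x : Ω) ∈ NN S R₁ P₁ := hx
    exact ⟨⟨hM₃S (φ₁ x).2, hci.normalizer x hx'.1.2⟩, hcφ₁.normalizer x hx'.2⟩
  have hcard1 : Nat.card (NN S R₁ P₁) = Nat.card (img φ₁ (NN S R₁ P₁)) :=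
    (carries_img φ₁ (NN S R₁ P₁)).card hNNle
  obtain ⟨M', e₁, he₁, he₁R, he₁P⟩ := hgood.extend hS hφR.symm hPhR₂
    (fun x hx => (hR₂N hx).2) hP₁R₁ (hcφR.symm hP₁R₁)
  have hM'le : M' ≤ NN S R₁ P₁ := by
    intro y hy
    have h1 := he₁R.normalizer (e₁.symm ⟨y, hy⟩) (e₁.symm ⟨y, hy⟩).2.1.2
    have h2 := he₁P.normalizer (e₁.symm ⟨y, hy⟩) (e₁.symm ⟨y, hy⟩).2.2
    rw [e₁.apply_symm_apply] at h1 h2
    exact ⟨⟨he₁.le_right hy, h1⟩, h2⟩
  have hfin1 : Finite (NN S R₁ P₁) :=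
    Cfsg.Agent.Lib.Helper87.FSSat.finite_of_le (NN_le _ _ _)
  have hfin2 : Finite (NN S R₂ Phat) :=
    Cfsg.Agent.Lib.Helper87.FSSat.finite_of_le (NN_le _ _ _)
  have hcard2 : Nat.card (NN S R₂ Phat) ≤ Nat.card (NN S R₁ P₁) := by
    rw [Nat.card_congr e₁.toEquiv]
    exact Subgroup.card_le_of_le hM'le
  have himg_eq : img φ₁ (NN S R₁ P₁) = NN S R₂ Phat :=
    Subgroup.eq_of_le_of_card_ge himg_le (by omega)
  refine ⟨R₂, e₀.trans φR, he₀.trans hφR, hc₀.trans hcφR, hR₂N, ?_, ?_⟩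
  · -- transport of the conjugacy property
    refine scp_transport (MulAut.congr φR) hgood.2 ?_ ?_ ?_
    · rintro δ' ⟨hδ'F, hδ'st⟩
      refine Subgroup.mem_inf.mpr ⟨?_, ?_⟩
      · rw [mem_autGroup_iff_isIso F hR₁S]
        have h1 : IsIso F (φR.trans ((δ' : R₂ ≃* R₂).trans φR.symm)) :=
          hφR.trans (((mem_autGroup_iff_isIso F hR₂S δ').1 hδ'F).trans hφR.symm)
        exact h1
      · intro y
        show ((φR.symm (δ' (φR y)) : R₁) : Ω) ∈ P₁ ↔ _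
        have h1 := hcφR.iff (φR.symm (δ' (φR y)))
        rw [φR.apply_symm_apply] at h1
        exact h1.symm.trans ((hδ'st (φR y)).trans (hcφR.iff y))
    · rintro δ ⟨hδF, hδst⟩
      refine Subgroup.mem_inf.mpr ⟨?_, ?_⟩
      · rw [mem_autGroup_iff_isIso F hR₂S]
        have h1 : IsIso F (φR.symm.trans ((δ : R₁ ≃* R₁).trans φR)) :=
          hφR.symm.trans (((mem_autGroup_iff_isIso F hR₁S δ).1 hδF).trans hφR)
        exact h1
      · intro y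
        show ((φR (δ (φR.symm y)) : R₂) : Ω) ∈ Phat ↔ _
        have h1 := hcφR.iff (φR.symm y)
        rw [φR.apply_symm_apply] at h1
        exact (hcφR.iff (δ (φR.symm y))).trans ((hδst (φR.symm y)).trans h1.symm)
    · intro σ hσ hσT
      obtain ⟨g, hg, hgσ⟩ := exists_of_mem_autS_stab hP₁R₁ hσT hσ.2
      rw [mem_autInducedBy_iff]
      refine ⟨φ₁ ⟨g, hNNle hg⟩, hM₃S (φ₁ ⟨g, hNNle hg⟩).2, fun y => ?_⟩
      show ((φR (σ (φR.symm y)) : R₂) : Ω) = _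
      rw [hφRx]
      have h1 : (⟨((σ (φR.symm y) : R₁) : Ω), hR₁N (σ (φR.symm y)).2⟩ : normalizerIn S P₁) =
          ⟨g, hNNle hg⟩ * ⟨((φR.symm y : R₁) : Ω), hR₁N (φR.symm y).2⟩ * ⟨g, hNNle hg⟩⁻¹ :=
        Subtype.ext (hgσ (φR.symm y))
      rw [h1, map_mul, map_mul, map_inv]
      have h2 := hφRx (φR.symm y)
      rw [φR.apply_symm_apply] at h2
      simp only [Subgroup.coe_mul, Subgroup.coe_inv]
      rw [← h2]
  · -- receptivity relative to `N_S(P̂)`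
    intro T e he hPT hTN hce
    have hTS : T ≤ S := he.le_left
    have hfinPh : Finite Phat := Cfsg.Agent.Lib.Helper87.FSSat.finite_of_le (hPT.trans hTS)
    have he' : IsIso F (e.trans φR.symm) := he.trans hφR.symm
    have hce' : Carries (e.trans φR.symm) Phat P₁ := hce.trans (hcφR.symm hP₁R₁)
    obtain ⟨ξ, hξ, hξext⟩ := hgood.1.2 T _ he' (range_iso (e.trans φR.symm))
    have hD : extender S T (R₂.subtype.comp e.toMonoidHom) ⊓ normalizerIn S Phat ≤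
        extender S T (R₁.subtype.comp (e.trans φR.symm).toMonoidHom) := by
      intro g hg
      obtain ⟨hgS, hgN, h, hhS, hh⟩ := (mem_extender_iff _ _ _ _).1 hg.1
      have hgNP : g ∈ Subgroup.normalizer (Phat : Set Ω) := hg.2.2
      have hconjT : ∀ x : T, g * (x : Ω) * g⁻¹ ∈ T := fun x =>
        (Subgroup.mem_normalizer_iff.mp hgN x).mp x.2
      have hhx : ∀ x : T, ((e ⟨g * (x : Ω) * g⁻¹, hconjT x⟩ : R₂) : Ω) =
          h * ((e x : R₂) : Ω) * h⁻¹ := fun x => hh x (hconjT x)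
      have hhNR : h ∈ Subgroup.normalizer (R₂ : Set Ω) := by
        apply mem_normalizer_of_conj_mem
        intro y hy
        have h1 := hhx (e.symm ⟨y, hy⟩)
        rw [e.apply_symm_apply] at h1
        rw [← h1]
        exact (e _).2
      have hhNP : h ∈ Subgroup.normalizer (Phat : Set Ω) := by
        apply mem_normalizer_of_conj_mem
        intro y hy
        have h1 := hhx (e.symm ⟨y, hPhR₂ hy⟩)
        rw [e.apply_symm_apply] at h1
        rw [← h1]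
        apply (hce.iff _).2
        have h2 : ((e.symm ⟨y, hPhR₂ hy⟩ : T) : Ω) ∈ Phat := by
          rw [← hce.iff, e.apply_symm_apply]
          exact hy
        exact (Subgroup.mem_normalizer_iff.mp hgNP _).mp h2
      have hhNN : h ∈ NN S R₂ Phat := ⟨⟨hhS, hhNR⟩, hhNP⟩
      rw [← himg_eq] at hhNN
      obtain ⟨h₁, hh₁, hφh₁⟩ := hhNN
      have hh₁' : (h₁ : Ω) ∈ NN S R₁ P₁ := hh₁
      have hφh₁' : ((φ₁ h₁ : M₃) : Ω) = h := hφh₁
      rw [mem_extender_iff]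
      refine ⟨hgS, hgN, h₁, hh₁'.1.1, fun x hx => ?_⟩
      show ((φR.symm (e ⟨g * (x : Ω) * g⁻¹, hx⟩) : R₁) : Ω) =
        h₁ * ((φR.symm (e x) : R₁) : Ω) * (h₁ : Ω)⁻¹
      have hv : (h₁ : Ω) * ((φR.symm (e x) : R₁) : Ω) * (h₁ : Ω)⁻¹ ∈ R₁ :=
        (Subgroup.mem_normalizer_iff.mp hh₁'.1.2 _).mp (φR.symm (e x)).2
      have h3 : φR ⟨_, hv⟩ = e ⟨g * (x : Ω) * g⁻¹, hx⟩ := by
        apply Subtype.ext
        rw [hφRx, hhx x]
        have h4 : (⟨(h₁ : Ω) * ((φR.symm (e x) : R₁) : Ω) * (h₁ : Ω)⁻¹, hR₁N hv⟩ :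
            normalizerIn S P₁) = h₁ * ⟨((φR.symm (e x) : R₁) : Ω), hR₁N (φR.symm (e x)).2⟩ *
              h₁⁻¹ := Subtype.ext rfl
        rw [h4, map_mul, map_mul, map_inv]
        have h5 := hφRx (φR.symm (e x))
        rw [φR.apply_symm_apply] at h5
        simp only [Subgroup.coe_mul, Subgroup.coe_inv]
        rw [← h5, hφh₁']
      rw [← h3, φR.symm_apply_apply]
    have hξD := hom_restrict F hξ hD
    have hTle : T ≤ extender S T (R₁.subtype.comp (e.trans φR.symm).toMonoidHom) :=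
      le_extender S T _ hTS (fun x => hR₁S (φR.symm (e x)).2)
    have hξT : ∀ x : T, ξ ⟨x, hTle x.2⟩ = ((φR.symm (e x) : R₁) : Ω) := fun x =>
      hξext x x.2 (hTle x.2)
    have hmem : ∀ d : ↥(extender S T (R₂.subtype.comp e.toMonoidHom) ⊓ normalizerIn S Phat),
        (ξ.comp (Subgroup.inclusion hD)) d ∈ normalizerIn S P₁ := by
      intro d
      refine ⟨(F.le_of_mem hξ).2 _, ?_⟩
      apply mem_normalizer_of_conj_mem
      intro y hy
      have hx : (((e.trans φR.symm).symm ⟨y, hP₁R₁ hy⟩ : T) : Ω) ∈ Phat := by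
        rw [← hce'.iff, MulEquiv.apply_symm_apply]
        exact hy
      obtain ⟨x, hxdef⟩ : ∃ x : T, x = (e.trans φR.symm).symm ⟨y, hP₁R₁ hy⟩ := ⟨_, rfl⟩
      rw [← hxdef] at hx
      have hxy : ((φR.symm (e x) : R₁) : Ω) = y := by
        have : (e.trans φR.symm) x = ⟨y, hP₁R₁ hy⟩ := by
          rw [hxdef, MulEquiv.apply_symm_apply]
        exact congrArg Subtype.val this
      have hdx : (d : Ω) * (x : Ω) * (d : Ω)⁻¹ ∈ Phat :=
        (Subgroup.mem_normalizer_iff.mp d.2.2.2 _).mp hx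
      have h1 := hξT ⟨_, hPT hdx⟩
      have h2 : (⟨(d : Ω) * (x : Ω) * (d : Ω)⁻¹, hTle (hPT hdx)⟩ :
          ↥(extender S T (R₁.subtype.comp (e.trans φR.symm).toMonoidHom))) =
          Subgroup.inclusion hD d * ⟨x, hTle x.2⟩ * (Subgroup.inclusion hD d)⁻¹ :=
        Subtype.ext rfl
      rw [h2, map_mul, map_mul, map_inv, hξT x, hxy] at h1
      show ξ (Subgroup.inclusion hD d) * y * (ξ (Subgroup.inclusion hD d))⁻¹ ∈ P₁
      rw [h1]
      exact (hce'.iff _).2 hdx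
    refine ⟨(M₃.subtype.comp φ₁.toMonoidHom).comp
      ((ξ.comp (Subgroup.inclusion hD)).codRestrict _ hmem), F.comp_mem hξD hφ₁ hmem, ?_⟩
    intro x hx
    show ((φ₁ ⟨ξ ⟨x, hD hx⟩, hmem ⟨x, hx⟩⟩ : M₃) : Ω) = _
    have h1 : (⟨ξ ⟨x, hD hx⟩, hmem ⟨x, hx⟩⟩ : normalizerIn S P₁) =
        ⟨((φR.symm (e x) : R₁) : Ω), hR₁N (φR.symm (e x)).2⟩ := Subtype.ext (hξT x)
    rw [h1, ← hφRx, φR.apply_symm_apply]

end Cfsg.Agent.Lib.Helper88.GenN
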