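import Mathlib
import Cfsg.Prelude.Def_FusionSystem
import Cfsg.Agent.Lib.Helper88.GenN
import Cfsg.Agent.H84.Transv
import Cfsg.Agent.H84.FusZ4

set_option autoImplicit false

/-! The subgroup `Q*` attached to a subgroup `𝒪` of `Aut(P̂)`, and the theorem that every
automorphism of `P̂` in the system is the restriction of an automorphism of `Q*`. -/

namespace Cfsg.Agent.Lib.Helper88.GenExt

open Cfsg Cfsg.FusionSystem Cfsg.Agent.H84 Cfsg.Agent.Lib.Helper88.GenSCP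
  Cfsg.Agent.Lib.Helper88.GenPair Cfsg.Agent.Lib.Helper88.GenA Cfsg.Agent.Lib.Helper88.GenN

variable {Ω : Type*} [Group Ω] {S : Subgroup Ω}

/-- Restriction of automorphisms of `R` preserving `P` to `P`. -/
noncomputable def resHom {R P : Subgroup Ω} (hPR : P ≤ R) : ↥(stab R P) →* MulAut P where
  toFun δ := Carries.restrict (e := ((δ : MulAut R) : R ≃* R)) (R := P) (R' := P) ⟨δ.2, hPR⟩ hPR
  map_one' := by
    ext x
    rfl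
  map_mul' := by
    intro a b
    ext x
    rfl

theorem resHom_apply {R P : Subgroup Ω} (hPR : P ≤ R) (δ : ↥(stab R P)) (x : P) :
    ((resHom hPR δ x : P) : Ω) = (((δ : MulAut R) ⟨x, hPR x.2⟩ : R) : Ω) := rfl

/-- The elements of `N_S(P̂)` inducing on `P̂` an automorphism in `𝒪`. -/
def Qs (S Phat : Subgroup Ω) (𝒪 : Subgroup (MulAut Phat)) : Subgroup Ω where
  carrier := {g | g ∈ normalizerIn S Phat ∧
    ∃ a ∈ 𝒪, ∀ x : Phat, ((a x : Phat) : Ω) = g * x * g⁻¹}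
  mul_mem' := by
    rintro g h ⟨hg, a, ha, hga⟩ ⟨hh, b, hb, hhb⟩
    refine ⟨Subgroup.mul_mem _ hg hh, a * b, 𝒪.mul_mem ha hb, fun x => ?_⟩
    show ((a (b x) : Phat) : Ω) = _
    rw [hga, hhb]
    group
  one_mem' := ⟨Subgroup.one_mem _, 1, 𝒪.one_mem, fun x => by simp⟩
  inv_mem' := by
    rintro g ⟨hg, a, ha, hga⟩
    refine ⟨Subgroup.inv_mem _ hg, a⁻¹, 𝒪.inv_mem ha, fun x => ?_⟩
    have h1 := hga (a⁻¹ x)
    rw [MulAut.apply_inv_self] at h1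
    rw [h1]
    group

theorem mem_Qs {Phat : Subgroup Ω} {𝒪 : Subgroup (MulAut Phat)} {g : Ω} :
    g ∈ Qs S Phat 𝒪 ↔ g ∈ normalizerIn S Phat ∧
      ∃ a ∈ 𝒪, ∀ x : Phat, ((a x : Phat) : Ω) = g * x * g⁻¹ := Iff.rfl

theorem Qs_le {Phat : Subgroup Ω} (𝒪 : Subgroup (MulAut Phat)) :
    Qs S Phat 𝒪 ≤ normalizerIn S Phat := fun _ h => h.1

/-- The hypotheses on the subgroup `𝒪` of `Aut(P̂)`. -/
structure OData (F : FusionSystem S) (p : ℕ) (Phat : Subgroup Ω)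
    (𝒪 : Subgroup (MulAut Phat)) : Prop where
  inn : ∀ y ∈ Phat, ∃ a ∈ 𝒪, ∀ x : Phat, ((a x : Phat) : Ω) = y * x * y⁻¹
  norm : ∀ α ∈ F.autGroup Phat, ∀ a ∈ 𝒪, α * a * α⁻¹ ∈ 𝒪
  alt : (∀ a ∈ 𝒪, ∃ y ∈ Phat, ∀ x : Phat, ((a x : Phat) : Ω) = y * x * y⁻¹) ∨
    (IsPGroup p 𝒪 ∧ centralizerIn S Phat ≤ Phat)
  big : ∃ g ∈ Qs S Phat 𝒪, g ∉ Phat

theorem le_Qs {F : FusionSystem S} {p : ℕ} {Phat : Subgroup Ω} {𝒪 : Subgroup (MulAut Phat)}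
    (hO : OData F p Phat 𝒪) (hPhS : Phat ≤ S) : Phat ≤ Qs S Phat 𝒪 := fun y hy =>
  ⟨Cfsg.Agent.Lib.Helper87.FSSat.le_normalizerIn hPhS hy, hO.inn y hy⟩

/-- `Q*` is normalized by `N_S(P̂)`. -/
theorem Qs_normal {F : FusionSystem S} {p : ℕ} {Phat : Subgroup Ω} {𝒪 : Subgroup (MulAut Phat)}
    (hO : OData F p Phat 𝒪) (hPhS : Phat ≤ S) :
    ∀ n ∈ normalizerIn S Phat, ∀ g ∈ Qs S Phat 𝒪, n * g * n⁻¹ ∈ Qs S Phat 𝒪 := by
  rintro n hn g ⟨hg, a, ha, hga⟩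
  refine ⟨Subgroup.mul_mem _ (Subgroup.mul_mem _ hn hg) (Subgroup.inv_mem _ hn),
    Phat.normalizerMonoidHom ⟨n, hn.2⟩ * a * (Phat.normalizerMonoidHom ⟨n, hn.2⟩)⁻¹, ?_, ?_⟩
  · apply hO.norm _ _ a ha
    exact Cfsg.Agent.Lib.Helper87.FSBasic.autInducedBy_le_autGroup F hPhS
      (Cfsg.Agent.Lib.Helper87.FSBasic.conj_mem_autInducedBy hn.1 hn.2)
  · intro x
    obtain ⟨c, hc⟩ : ∃ c : MulAut Phat, c = Phat.normalizerMonoidHom ⟨n, hn.2⟩ := ⟨_, rfl⟩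
    have hcx : ∀ z : Phat, ((c z : Phat) : Ω) = n * z * n⁻¹ := fun z => by rw [hc]; rfl
    rw [← hc]
    show ((c (a (c⁻¹ x)) : Phat) : Ω) = _
    have h1 := hcx (c⁻¹ x)
    rw [MulAut.apply_inv_self] at h1
    rw [hcx, hga, h1]
    group

/-- The automorphisms of `P̂` that are restrictions of automorphisms of `Q*` in the system. -/
noncomputable def Astar (F : FusionSystem S) {Phat : Subgroup Ω} (𝒪 : Subgroup (MulAut Phat))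
    (hPQ : Phat ≤ Qs S Phat 𝒪) : Subgroup (MulAut Phat) :=
  ((F.autGroup (Qs S Phat 𝒪)).subgroupOf (stab (Qs S Phat 𝒪) Phat)).map (resHom hPQ)

theorem mem_Astar_iff (F : FusionSystem S) {Phat : Subgroup Ω} (𝒪 : Subgroup (MulAut Phat))
    (hPQ : Phat ≤ Qs S Phat 𝒪) (a : MulAut Phat) :
    a ∈ Astar F 𝒪 hPQ ↔ ∃ δ ∈ F.autGroup (Qs S Phat 𝒪), δ ∈ stab (Qs S Phat 𝒪) Phat ∧
      ∀ x : Phat, ((a x : Phat) : Ω) = ((δ ⟨x, hPQ x.2⟩ : Qs S Phat 𝒪) : Ω) := by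
  constructor
  · rintro ⟨δ, hδ, rfl⟩
    exact ⟨δ, hδ, δ.2, fun x => rfl⟩
  · rintro ⟨δ, hδ, hδst, h⟩
    refine ⟨⟨δ, hδst⟩, hδ, ?_⟩
    ext x
    exact (h x).symm

section main

variable [Finite S] {p : ℕ} [Fact p.Prime] {F : FusionSystem S} {Phat : Subgroup Ω}
  {𝒪 : Subgroup (MulAut Phat)}

/-- Conjugation by an element of `Q*` restricts to an element of `A_*`. -/
theorem conj_mem_Astar (hPQ : Phat ≤ Qs S Phat 𝒪) {g : Ω} (hg : g ∈ Qs S Phat 𝒪)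
    {a : MulAut Phat} (ha : ∀ x : Phat, ((a x : Phat) : Ω) = g * x * g⁻¹) :
    a ∈ Astar F 𝒪 hPQ := by
  have hQS : Qs S Phat 𝒪 ≤ S := (Qs_le 𝒪).trans inf_le_left
  rw [mem_Astar_iff]
  refine ⟨MulAut.conj (⟨g, hg⟩ : Qs S Phat 𝒪), ?_, ?_, fun x => ?_⟩
  · apply Cfsg.Agent.Lib.Helper87.FSBasic.autInducedBy_le_autGroup F hQS
    rw [mem_autInducedBy_iff]
    exact ⟨g, hQS hg, fun x => rfl⟩
  · intro x
    exact (Subgroup.mem_normalizer_iff.mp hg.1.2 x).symm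
  · rw [ha]
    rfl

/-- Isomorphisms of the system between subgroups of `N_S(P̂)` preserving `P̂` map `Q*` into
`Q*`. -/
theorem map_mem_Qs (hO : OData F p Phat 𝒪) (hPhS : Phat ≤ S) {R R' : Subgroup Ω}
    {β : R ≃* R'} (hβ : IsIso F β) (hPR : Phat ≤ R) (hR'N : R' ≤ normalizerIn S Phat)
    (hc : Carries β Phat Phat) (x : R) (hx : (x : Ω) ∈ Qs S Phat 𝒪) :
    ((β x : R') : Ω) ∈ Qs S Phat 𝒪 := by
  obtain ⟨hxN, a, ha, hxa⟩ := hx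
  have hαF : (hc.restrict hPR : MulAut Phat) ∈ F.autGroup Phat :=
    (mem_autGroup_iff_isIso F hPhS _).2 (hc.isIso_restrict hβ hPR)
  obtain ⟨α, hα⟩ : ∃ α : MulAut Phat, α = hc.restrict hPR := ⟨_, rfl⟩
  rw [← hα] at hαF
  have hαx : ∀ z : Phat, ((α z : Phat) : Ω) = β ⟨z, hPR z.2⟩ := fun z => by rw [hα]; rfl
  refine ⟨hR'N (β x).2, α * a * α⁻¹, hO.norm α hαF a ha, fun y => ?_⟩
  show ((α (a (α⁻¹ y)) : Phat) : Ω) = _
  have h1 := hαx (α⁻¹ y)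
  rw [MulAut.apply_inv_self] at h1
  rw [hαx]
  have h2 : (⟨((a (α⁻¹ y) : Phat) : Ω), hPR (a (α⁻¹ y)).2⟩ : R) =
      x * ⟨((α⁻¹ y : Phat) : Ω), hPR (α⁻¹ y).2⟩ * x⁻¹ := Subtype.ext (hxa (α⁻¹ y))
  rw [h2, map_mul, map_mul, map_inv]
  simp only [Subgroup.coe_mul, Subgroup.coe_inv]
  rw [← h1]

/-- An isomorphism of the system defined on a subgroup containing `Q*`, preserving `P̂`,
restricts on `P̂` to an element of `A_*`. -/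
theorem restrict_mem_Astar (hO : OData F p Phat 𝒪) (hPhS : Phat ≤ S)
    (hPQ : Phat ≤ Qs S Phat 𝒪) {R R' : Subgroup Ω}
    {β : R ≃* R'} (hβ : IsIso F β) (hPR : Phat ≤ R) (hQR : Qs S Phat 𝒪 ≤ R)
    (hR'N : R' ≤ normalizerIn S Phat) (hc : Carries β Phat Phat) :
    (hc.restrict hPR : MulAut Phat) ∈ Astar F 𝒪 hPQ := by
  have hQS : Qs S Phat 𝒪 ≤ S := (Qs_le 𝒪).trans inf_le_left
  have hfinQ : Finite (Qs S Phat 𝒪) := Cfsg.Agent.Lib.Helper87.FSSat.finite_of_le hQS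
  have himg : img β (Qs S Phat 𝒪) ≤ Qs S Phat 𝒪 := by
    rintro _ ⟨x, hx, rfl⟩
    exact map_mem_Qs hO hPhS hβ hPR hR'N hc x hx
  have hci := carries_img β (Qs S Phat 𝒪)
  have hcard := hci.card hQR
  have heq : img β (Qs S Phat 𝒪) = Qs S Phat 𝒪 :=
    Subgroup.eq_of_le_of_card_ge himg (by omega)
  rw [heq] at hci
  rw [mem_Astar_iff]
  refine ⟨hci.restrict hQR, ?_, ?_, fun x => rfl⟩
  · exact (mem_autGroup_iff_isIso F hQS _).2 (hci.isIso_restrict hβ hQR)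
  · exact (hci.of_restrict hQR hPQ hc).iff

/-- If `Q*` is not contained in `R₂ ≤ N_S(P̂)`, some element of `Q*` outside `R₂` normalizes
`R₂`. -/
theorem exists_mem_Qs_normalizer (hS : IsPGroup p S) (hO : OData F p Phat 𝒪) (hPhS : Phat ≤ S)
    {R₂ : Subgroup Ω} (hR₂N : R₂ ≤ normalizerIn S Phat) (hQR : ¬ Qs S Phat 𝒪 ≤ R₂) :
    ∃ g ∈ Qs S Phat 𝒪, g ∈ Subgroup.normalizer (R₂ : Set Ω) ∧ g ∉ R₂ := by
  have hJN : Qs S Phat 𝒪 ⊔ R₂ ≤ normalizerIn S Phat := sup_le (Qs_le 𝒪) hR₂N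
  have hJS : Qs S Phat 𝒪 ⊔ R₂ ≤ S := hJN.trans inf_le_left
  have hfinJ : Finite ↥(Qs S Phat 𝒪 ⊔ R₂) := Cfsg.Agent.Lib.Helper87.FSSat.finite_of_le hJS
  have hne : R₂ ≠ Qs S Phat 𝒪 ⊔ R₂ := by
    intro h
    apply hQR
    rw [h]
    exact le_sup_left
  obtain ⟨g, hgJ, hgN, hgR⟩ := Cfsg.Agent.Lib.Helper87.FSSat.exists_normalizer_not_mem
    (S := Qs S Phat 𝒪 ⊔ R₂) (hS.to_le hJS) le_sup_right hne
  obtain ⟨a, ha, b, hb, rfl⟩ := Cfsg.Agent.H84.FusZ.mem_sup_of_normalizes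
    (A := Qs S Phat 𝒪) (B := R₂) (fun b hb a ha => Qs_normal hO hPhS b (hR₂N hb) a ha) g hgJ
  refine ⟨a, ha, ?_, fun haR => hgR (R₂.mul_mem haR hb)⟩
  have h1 : a = a * b * b⁻¹ := by group
  rw [h1]
  exact Subgroup.mul_mem _ hgN (Subgroup.inv_mem _ (Subgroup.le_normalizer hb))

/-- The automorphisms of `R` in the system preserving `P̂` whose restriction to `P̂` lies in
`𝒪`. -/
noncomputable def KK (F : FusionSystem S) {Phat : Subgroup Ω} (𝒪 : Subgroup (MulAut Phat))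
    {R : Subgroup Ω} (hPR : Phat ≤ R) : Subgroup (MulAut R) :=
  ((F.autGroup R).subgroupOf (stab R Phat) ⊓ 𝒪.comap (resHom hPR)).map (stab R Phat).subtype

omit [Finite S] in
theorem mem_KK_iff (F : FusionSystem S) (𝒪 : Subgroup (MulAut Phat)) {R : Subgroup Ω}
    (hPR : Phat ≤ R) (κ : MulAut R) :
    κ ∈ KK F 𝒪 hPR ↔ κ ∈ F.autGroup R ∧ ∃ h : κ ∈ stab R Phat, resHom hPR ⟨κ, h⟩ ∈ 𝒪 := by
  constructor
  · rintro ⟨δ, ⟨hδF, hδO⟩, rfl⟩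
    exact ⟨hδF, δ.2, hδO⟩
  · rintro ⟨hF, h, hO⟩
    exact ⟨⟨κ, h⟩, ⟨hF, hO⟩, rfl⟩

/-- The elements of `KK` restrict to elements of `A_*`. -/
theorem kext (hS : IsPGroup p S) (hO : OData F p Phat 𝒪) (hPhS : Phat ≤ S)
    (hPQ : Phat ≤ Qs S Phat 𝒪) {R₂ : Subgroup Ω} (hPR₂ : Phat ≤ R₂)
    (hR₂N : R₂ ≤ normalizerIn S Phat)
    (hscp : SCP p (KK F 𝒪 hPR₂) (autInducedBy S R₂)) {κ : MulAut R₂} (hκ : κ ∈ KK F 𝒪 hPR₂)
    (hκst : κ ∈ stab R₂ Phat) : resHom hPR₂ ⟨κ, hκst⟩ ∈ Astar F 𝒪 hPQ := by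
  obtain ⟨hκF, _, hκO⟩ := (mem_KK_iff F 𝒪 hPR₂ κ).1 hκ
  have hfinPh : Finite Phat := Cfsg.Agent.Lib.Helper87.FSSat.finite_of_le hPhS
  suffices h : ∃ g ∈ Qs S Phat 𝒪, ∀ x : Phat,
      ((resHom hPR₂ ⟨κ, hκst⟩ x : Phat) : Ω) = g * x * g⁻¹ by
    obtain ⟨g, hg, hgx⟩ := h
    exact conj_mem_Astar hPQ hg hgx
  rcases hO.alt with hinn | ⟨hOp, hcen⟩
  · obtain ⟨y, hy, hyx⟩ := hinn _ hκO
    exact ⟨y, hPQ hy, hyx⟩
  · have hR₂S : R₂ ≤ S := hR₂N.trans inf_le_left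
    have hfinR₂ : Finite R₂ := Cfsg.Agent.Lib.Helper87.FSSat.finite_of_le hR₂S
    have hKp : IsPGroup p (KK F 𝒪 hPR₂) := by
      rintro ⟨δ, hδ⟩
      obtain ⟨hδF, hδst, hδO⟩ := (mem_KK_iff F 𝒪 hPR₂ δ).1 hδ
      obtain ⟨k, hk⟩ := hOp ⟨_, hδO⟩
      have hk' : (resHom hPR₂ ⟨δ, hδst⟩) ^ p ^ k = 1 := by
        have := congrArg Subtype.val hk
        simpa using this
      have hγst : δ ^ p ^ k ∈ stab R₂ Phat := Subgroup.pow_mem _ hδst _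
      have htriv : ∀ x : R₂, (x : Ω) ∈ Phat → (δ ^ p ^ k) x = x := by
        intro x hx
        have h1 : resHom hPR₂ (⟨δ, hδst⟩ ^ p ^ k) = 1 := by rw [map_pow, hk']
        have h2 := resHom_apply hPR₂ (⟨δ, hδst⟩ ^ p ^ k) ⟨x, hx⟩
        rw [h1] at h2
        apply Subtype.ext
        exact h2.symm
      obtain ⟨γ, hγ⟩ : ∃ γ : MulAut R₂, γ = δ ^ p ^ k := ⟨_, rfl⟩
      rw [← hγ] at htriv hγst
      have hmemcs : γ ∈ Cfsg.Agent.H84.Transv.chainStab (Phat.subgroupOf R₂) (Phat.subgroupOf R₂) le_rfl := by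
        refine ⟨fun x => ?_, fun x hx => ?_, fun x hx => htriv x hx⟩
        · apply hcen
          refine Subgroup.mem_inf.mpr ⟨hR₂S (x⁻¹ * γ x).2, ?_⟩
          show ((x⁻¹ * γ x : R₂) : Ω) ∈ Subgroup.centralizer (Phat : Set Ω)
          rw [Subgroup.mem_centralizer_iff]
          intro y hy
          have hxy : ((x * ⟨y, hPR₂ hy⟩ * x⁻¹ : R₂) : Ω) ∈ Phat :=
            (Subgroup.mem_normalizer_iff.mp (hR₂N x.2).2 y).mp hy
          have h1 := htriv _ hxy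
          rw [map_mul, map_mul, map_inv, htriv ⟨y, hPR₂ hy⟩ hy] at h1
          have e : (⟨y, hPR₂ hy⟩ : R₂) * (x⁻¹ * γ x) =
              x⁻¹ * (x * ⟨y, hPR₂ hy⟩ * x⁻¹) * γ x := by group
          have h2 : (⟨y, hPR₂ hy⟩ : R₂) * (x⁻¹ * γ x) = (x⁻¹ * γ x) * ⟨y, hPR₂ hy⟩ := by
            rw [e, ← h1]
            group
          exact congrArg Subtype.val h2
        · rw [htriv x hx, inv_mul_cancel]
          exact Subgroup.one_mem _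
      obtain ⟨m, hm⟩ := (Cfsg.Agent.H84.Transv.isPGroup_chainStab (hS.to_le hR₂S) _ _ le_rfl) ⟨_, hmemcs⟩
      refine ⟨k + m, ?_⟩
      apply Subtype.ext
      have h3 := congrArg Subtype.val hm
      simp only [Subgroup.coe_pow, Subgroup.coe_one] at h3 ⊢
      rw [pow_add, pow_mul, ← hγ]
      exact h3
    obtain ⟨χ, hχK, hχ⟩ := hscp (KK F 𝒪 hPR₂) le_rfl hKp
    have hκT : κ ∈ autInducedBy S R₂ := by
      have h1 := hχ (χ⁻¹ * κ * χ) (Subgroup.mul_mem _ (Subgroup.mul_mem _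
        (Subgroup.inv_mem _ hχK) hκ) hχK)
      have e : χ * (χ⁻¹ * κ * χ) * χ⁻¹ = κ := by group
      rwa [e] at h1
    obtain ⟨g, hgNN, hgx⟩ := exists_of_mem_autS_stab hPR₂ hκT hκst
    refine ⟨g, ⟨⟨hgNN.1.1, hgNN.2⟩, _, hκO, fun x => ?_⟩, fun x => ?_⟩
    · rw [resHom_apply, hgx]
    · rw [resHom_apply, hgx]

/-- The case of an automorphism of a good subgroup over `P̂`. -/
theorem aut_case (hS : IsPGroup p S) (hO : OData F p Phat 𝒪) (hPhS : Phat ≤ S)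
    (hPQ : Phat ≤ Qs S Phat 𝒪) {R₂ : Subgroup Ω} (hPR₂ : Phat ≤ R₂)
    (hR₂N : R₂ ≤ normalizerIn S Phat) (hgood : NGood F p Phat R₂)
    (ih : ∀ (D D' : Subgroup Ω) (e : D ≃* D'), IsIso F e → ∀ (hPD : Phat ≤ D),
      D ≤ normalizerIn S Phat → Nat.card R₂ < Nat.card D → ∀ (hc : Carries e Phat Phat),
      (hc.restrict hPD : MulAut Phat) ∈ Astar F 𝒪 hPQ)
    {β₂ : MulAut R₂} (hβ₂F : β₂ ∈ F.autGroup R₂) (hβ₂st : β₂ ∈ stab R₂ Phat) :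
    resHom hPR₂ ⟨β₂, hβ₂st⟩ ∈ Astar F 𝒪 hPQ := by
  have hR₂S : R₂ ≤ S := hR₂N.trans inf_le_left
  have hQS : Qs S Phat 𝒪 ≤ S := (Qs_le 𝒪).trans inf_le_left
  by_cases hQR : Qs S Phat 𝒪 ≤ R₂
  · exact restrict_mem_Astar hO hPhS hPQ ((mem_autGroup_iff_isIso F hR₂S β₂).1 hβ₂F) hPR₂ hQR
      hR₂N ⟨hβ₂st, hPR₂⟩
  have hfinR₂ : Finite R₂ := Cfsg.Agent.Lib.Helper87.FSSat.finite_of_le hR₂S
  have hfinPh : Finite Phat := Cfsg.Agent.Lib.Helper87.FSSat.finite_of_le hPhS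
  obtain ⟨g₀, hg₀Q, hg₀N, hg₀R⟩ := exists_mem_Qs_normalizer hS hO hPhS hR₂N hQR
  have hKH : KK F 𝒪 hPR₂ ≤ F.autGroup R₂ ⊓ stab R₂ Phat := by
    intro κ hκ
    obtain ⟨hκF, hκst, -⟩ := (mem_KK_iff F 𝒪 hPR₂ κ).1 hκ
    exact ⟨hκF, hκst⟩
  have hresF : ∀ (δ : MulAut R₂) (_ : δ ∈ F.autGroup R₂) (hδst : δ ∈ stab R₂ Phat),
      resHom hPR₂ ⟨δ, hδst⟩ ∈ F.autGroup Phat := by
    intro δ hδF hδst
    rw [mem_autGroup_iff_isIso F hPhS]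
    exact Carries.isIso_restrict ((mem_autGroup_iff_isIso F hR₂S δ).1 hδF) ⟨hδst, hPR₂⟩ hPR₂
  have hKn : ∀ h ∈ F.autGroup R₂ ⊓ stab R₂ Phat, ∀ k ∈ KK F 𝒪 hPR₂,
      h * k * h⁻¹ ∈ KK F 𝒪 hPR₂ := by
    rintro h ⟨hhF, hhst⟩ k hk
    obtain ⟨hkF, hkst, hkO⟩ := (mem_KK_iff F 𝒪 hPR₂ k).1 hk
    rw [mem_KK_iff]
    have hmem : h * k * h⁻¹ ∈ stab R₂ Phat :=
      Subgroup.mul_mem _ (Subgroup.mul_mem _ hhst hkst) (Subgroup.inv_mem _ hhst)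
    refine ⟨Subgroup.mul_mem _ (Subgroup.mul_mem _ hhF hkF) (Subgroup.inv_mem _ hhF), hmem, ?_⟩
    have h1 : (⟨h * k * h⁻¹, hmem⟩ : stab R₂ Phat) = ⟨h, hhst⟩ * ⟨k, hkst⟩ * ⟨h, hhst⟩⁻¹ := rfl
    rw [h1, map_mul, map_mul, map_inv]
    exact hO.norm _ (hresF h hhF hhst) _ hkO
  have hscpK : SCP p (KK F 𝒪 hPR₂) (autInducedBy S R₂) := scp_normal hgood.1 hKH hKn
  -- the `p`-subgroup to conjugate
  obtain ⟨X, hXdef⟩ : ∃ X : Subgroup (MulAut R₂), X =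
      (autInducedBy (Qs S Phat 𝒪) R₂).map (MulAut.conj β₂).toMonoidHom := ⟨_, rfl⟩
  have hXp : IsPGroup p X := by
    rw [hXdef]
    exact (Cfsg.Agent.Lib.Helper87.FSBasic.isPGroup_autInducedBy (hS.to_le hQS) R₂).map _
  have hXK : X ≤ KK F 𝒪 hPR₂ := by
    rw [hXdef]
    rintro _ ⟨σ, hσ, rfl⟩
    obtain ⟨g, hg, hgσ⟩ := (mem_autInducedBy_iff _ _ _).1 hσ
    have hσK : σ ∈ KK F 𝒪 hPR₂ := by
      rw [mem_KK_iff]
      have hσst : σ ∈ stab R₂ Phat := by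
        intro x
        rw [hgσ]
        exact (Subgroup.mem_normalizer_iff.mp hg.1.2 x).symm
      refine ⟨Cfsg.Agent.Lib.Helper87.FSBasic.autInducedBy_le_autGroup F hR₂S
        ((mem_autInducedBy_iff S R₂ σ).2 ⟨g, hQS hg, hgσ⟩), hσst, ?_⟩
      obtain ⟨-, a, ha, hga⟩ := hg
      have h2 : resHom hPR₂ ⟨σ, hσst⟩ = a := by
        ext x
        rw [resHom_apply, hgσ, hga]
      rw [h2]
      exact ha
    exact hKn _ ⟨hβ₂F, hβ₂st⟩ σ hσK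
  obtain ⟨κ, hκK, hκ⟩ := hscpK X hXK hXp
  obtain ⟨hκF, hκst, hκO⟩ := (mem_KK_iff F 𝒪 hPR₂ κ).1 hκK
  have hest : κ * β₂ ∈ stab R₂ Phat := Subgroup.mul_mem _ hκst hβ₂st
  have heF : κ * β₂ ∈ F.autGroup R₂ := Subgroup.mul_mem _ hκF hβ₂F
  have heiso : IsIso F ((κ * β₂ : MulAut R₂) : R₂ ≃* R₂) := (mem_autGroup_iff_isIso F hR₂S _).1 heF
  have hce : Carries ((κ * β₂ : MulAut R₂) : R₂ ≃* R₂) Phat Phat := ⟨hest, hPR₂⟩
  obtain ⟨D, hDdef, ψ, hψ, hψext⟩ : ∃ D : Subgroup Ω,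
      D = extender S R₂ (R₂.subtype.comp ((κ * β₂ : MulAut R₂) : R₂ ≃* R₂).toMonoidHom) ⊓
        normalizerIn S Phat ∧ ∃ ψ ∈ F.Hom D, ∀ (x : R₂) (hx : (x : Ω) ∈ D),
          ψ ⟨x, hx⟩ = (((κ * β₂ : MulAut R₂) x : R₂) : Ω) :=
    ⟨_, rfl, hgood.2 R₂ _ heiso hPR₂ hR₂N hce⟩
  have hR₂D : R₂ ≤ D := by
    rw [hDdef]
    exact le_inf (le_extender S R₂ _ hR₂S (fun x => hR₂S ((κ * β₂ : MulAut R₂) x).2)) hR₂N
  have hDN : D ≤ normalizerIn S Phat := by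
    rw [hDdef]
    exact inf_le_right
  have hDS : D ≤ S := hDN.trans inf_le_left
  have hfinD : Finite D := Cfsg.Agent.Lib.Helper87.FSSat.finite_of_le hDS
  have hg₀D : g₀ ∈ D := by
    rw [hDdef]
    refine Subgroup.mem_inf.mpr ⟨?_, (Qs_le 𝒪) hg₀Q⟩
    rw [mem_extender_iff]
    refine ⟨hQS hg₀Q, hg₀N, ?_⟩
    have hσ₀ : R₂.normalizerMonoidHom ⟨g₀, hg₀N⟩ ∈ autInducedBy (Qs S Phat 𝒪) R₂ :=
      Cfsg.Agent.Lib.Helper87.FSBasic.conj_mem_autInducedBy hg₀Q hg₀N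
    have hβσ : β₂ * R₂.normalizerMonoidHom ⟨g₀, hg₀N⟩ * β₂⁻¹ ∈ X := by
      rw [hXdef]
      exact ⟨_, hσ₀, rfl⟩
    obtain ⟨h, hhS, hh⟩ := (mem_autInducedBy_iff _ _ _).1 (hκ _ hβσ)
    refine ⟨h, hhS, fun x hx => ?_⟩
    have h3 := hh ((κ * β₂ : MulAut R₂) x)
    show ((κ (β₂ ⟨g₀ * x * g₀⁻¹, hx⟩) : R₂) : Ω) = h * ((κ (β₂ x) : R₂) : Ω) * h⁻¹
    have h4 : ((κ * (β₂ * R₂.normalizerMonoidHom ⟨g₀, hg₀N⟩ * β₂⁻¹) * κ⁻¹)
        ((κ * β₂ : MulAut R₂) x) : R₂) = κ (β₂ ⟨g₀ * x * g₀⁻¹, hx⟩) := by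
      show κ (β₂ (R₂.normalizerMonoidHom ⟨g₀, hg₀N⟩ (β₂⁻¹ (κ⁻¹ (κ (β₂ x)))))) = _
      rw [MulAut.inv_apply_self, MulAut.inv_apply_self]
      rfl
    rw [h4] at h3
    exact h3
  have hlt : Nat.card R₂ < Nat.card D := card_lt_of_not_mem hR₂D hg₀D hg₀R
  have hPD : Phat ≤ D := hPR₂.trans hR₂D
  have hψR : ∀ x : R₂, ψ ⟨x, hR₂D x.2⟩ = (((κ * β₂ : MulAut R₂) x : R₂) : Ω) := fun x =>
    hψext x (hR₂D x.2)
  have hinj := F.injective_of_mem hψ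
  have hce₃ : Carries (MonoidHom.ofInjective hinj) Phat Phat := by
    refine ⟨fun d => ?_, ?_⟩
    · show ψ d ∈ Phat ↔ (d : Ω) ∈ Phat
      constructor
      · intro h
        have h1 := hψR ((κ * β₂ : MulAut R₂)⁻¹ ⟨ψ d, hPR₂ h⟩)
        rw [MulAut.apply_inv_self] at h1
        have h2 : (⟨_, hR₂D ((κ * β₂ : MulAut R₂)⁻¹ ⟨ψ d, hPR₂ h⟩).2⟩ : D) = d := hinj h1
        rw [← h2]
        have h3 := hest ((κ * β₂ : MulAut R₂)⁻¹ ⟨ψ d, hPR₂ h⟩)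
        rw [MulAut.apply_inv_self] at h3
        exact h3.1 h
      · intro hd
        have h1 := hψR ⟨d, hPR₂ hd⟩
        have h2 : ψ d = ψ ⟨((⟨d, hPR₂ hd⟩ : R₂) : Ω), hR₂D (hPR₂ hd)⟩ := rfl
        rw [h2, h1]
        exact (hest ⟨d, hPR₂ hd⟩).2 hd
    · intro y hy
      have h1 := hψR ((κ * β₂ : MulAut R₂)⁻¹ ⟨y, hPR₂ hy⟩)
      rw [MulAut.apply_inv_self] at h1
      exact ⟨_, h1⟩
  have h5 := ih D _ (MonoidHom.ofInjective hinj) (isIso_ofInjective hψ) hPD hDN hlt hce₃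
  have h6 : (hce₃.restrict hPD : MulAut Phat) = resHom hPR₂ ⟨κ * β₂, hest⟩ := by
    ext x
    exact hψR ⟨x, hPR₂ x.2⟩
  rw [h6] at h5
  have h7 : (⟨κ * β₂, hest⟩ : stab R₂ Phat) = ⟨κ, hκst⟩ * ⟨β₂, hβ₂st⟩ := rfl
  rw [h7, map_mul] at h5
  have h8 := kext hS hO hPhS hPQ hPR₂ hR₂N hscpK hκK hκst
  have h9 := Subgroup.mul_mem _ (Subgroup.inv_mem _ h8) h5
  rwa [inv_mul_cancel_left] at h9

/-- **Extension theorem.** Every isomorphism of the system between subgroups of `N_S(P̂)`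
strictly containing `P̂`, preserving `P̂`, restricts on `P̂` to an element of `A_*`. -/
theorem ext_main (hS : IsPGroup p S) (hO : OData F p Phat 𝒪) (hPhS : Phat ≤ S)
    (hPQ : Phat ≤ Qs S Phat 𝒪)
    (hbig : ∀ R : Subgroup Ω, R ≤ S → Nat.card Phat < Nat.card R →
      ∃ R', F.IsConj R R' ∧ F.IsFullyAutomized p R' ∧ F.IsReceptive R')
    (hA : ∀ Y, F.IsConj Phat Y → Good0 F Y Phat) :
    ∀ (k : ℕ) (R R' : Subgroup Ω) (β : R ≃* R'), IsIso F β → ∀ (hPR : Phat ≤ R),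
      R ≤ normalizerIn S Phat → Nat.card Phat < Nat.card R → ∀ (hc : Carries β Phat Phat),
      Nat.card (normalizerIn S Phat) - Nat.card R ≤ k →
      (hc.restrict hPR : MulAut Phat) ∈ Astar F 𝒪 hPQ := by
  have hfinN : Finite (normalizerIn S Phat) :=
    Cfsg.Agent.Lib.Helper87.FSSat.finite_of_le inf_le_left
  have hR'N_of : ∀ (R R' : Subgroup Ω) (β : R ≃* R'), IsIso F β → R ≤ normalizerIn S Phat →
      Carries β Phat Phat → R' ≤ normalizerIn S Phat := by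
    intro R R' β hβ hRN hc y hy
    have := hc.normalizer (β.symm ⟨y, hy⟩) (hRN (β.symm ⟨y, hy⟩).2).2
    rw [β.apply_symm_apply] at this
    exact ⟨hβ.le_right hy, this⟩
  intro k
  induction k with
  | zero =>
    intro R R' β hβ hPR hRN hlt hc hk
    have hRe : R = normalizerIn S Phat := Subgroup.eq_of_le_of_card_ge hRN (by omega)
    exact restrict_mem_Astar hO hPhS hPQ hβ hPR (hRe ▸ Qs_le 𝒪) (hR'N_of R R' β hβ hRN hc) hc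
  | succ k ih =>
    intro R R' β hβ hPR hRN hlt hc hk
    have hR'N := hR'N_of R R' β hβ hRN hc
    by_cases hQR : Qs S Phat 𝒪 ≤ R
    · exact restrict_mem_Astar hO hPhS hPQ hβ hPR hQR hR'N hc
    have hRS : R ≤ S := hRN.trans inf_le_left
    have hR'S : R' ≤ S := hR'N.trans inf_le_left
    have hPR' : Phat ≤ R' := hc.le
    have hcardR : Nat.card R = Nat.card R' := Nat.card_congr β.toEquiv
    have hRne : R ≠ normalizerIn S Phat := fun h => hQR (h ▸ Qs_le 𝒪)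
    have hR'ne : R' ≠ normalizerIn S Phat := by
      intro h
      apply hRne
      apply Subgroup.eq_of_le_of_card_ge hRN
      rw [hcardR, h]
    -- strictly bigger domains
    have hfinM : Finite (NN S R Phat) := Cfsg.Agent.Lib.Helper87.FSSat.finite_of_le (NN_le _ _ _)
    have hfinM' : Finite (NN S R' Phat) :=
      Cfsg.Agent.Lib.Helper87.FSSat.finite_of_le (NN_le _ _ _)
    obtain ⟨g, hgN, hgR, hgnot⟩ := Cfsg.Agent.Lib.Helper87.FSSat.exists_normalizer_not_mem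
      (S := normalizerIn S Phat) (hS.to_le inf_le_left) hRN hRne
    have hRM : R ≤ NN S R Phat := fun x hx => ⟨⟨hRS hx, Subgroup.le_normalizer hx⟩, (hRN hx).2⟩
    have hMlt : Nat.card R < Nat.card (NN S R Phat) :=
      card_lt_of_not_mem hRM ⟨⟨hgN.1, hgR⟩, hgN.2⟩ hgnot
    obtain ⟨g', hg'N, hg'R, hg'not⟩ := Cfsg.Agent.Lib.Helper87.FSSat.exists_normalizer_not_mem
      (S := normalizerIn S Phat) (hS.to_le inf_le_left) hR'N hR'ne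
    have hR'M : R' ≤ NN S R' Phat :=
      fun x hx => ⟨⟨hR'S hx, Subgroup.le_normalizer hx⟩, (hR'N hx).2⟩
    have hM'lt : Nat.card R' < Nat.card (NN S R' Phat) :=
      card_lt_of_not_mem hR'M ⟨⟨hg'N.1, hg'R⟩, hg'N.2⟩ hg'not
    have hMN : NN S R Phat ≤ normalizerIn S Phat := fun x hx => ⟨hx.1.1, hx.2⟩
    have hM'N : NN S R' Phat ≤ normalizerIn S Phat := fun x hx => ⟨hx.1.1, hx.2⟩
    -- a good subgroup isomorphic to `R'`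
    obtain ⟨R₂, θ, hθ, hcθ, hR₂N, hgood⟩ := exists_nGood hS F hbig hA hPR' hR'N (by omega)
    have hR₂S : R₂ ≤ S := hR₂N.trans inf_le_left
    have hPR₂ : Phat ≤ R₂ := hcθ.le
    have hcardR₂ : Nat.card R' = Nat.card R₂ := Nat.card_congr θ.toEquiv
    obtain ⟨M₁, θ₁, hθ₁, hθ₁R, hθ₁P⟩ := hgood.extend hS hθ hPR' hR'N hcθ
    obtain ⟨M₂, θ₂, hθ₂, hθ₂R, hθ₂P⟩ := hgood.extend hS (hβ.trans hθ) hPR hRN (hc.trans hcθ)
    -- induction for the two extensions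
    have ih₁ := ih (NN S R' Phat) M₁ θ₁ hθ₁ (hPR'.trans hR'M) hM'N (by omega) hθ₁P (by omega)
    have ih₂ := ih (NN S R Phat) M₂ θ₂ hθ₂ (hPR.trans hRM) hMN (by omega) hθ₂P (by omega)
    -- the automorphism of `R₂`
    obtain ⟨θ₁R, hθ₁Rdef⟩ : ∃ θ₁R : R' ≃* R₂, θ₁R = hθ₁R.restrict hR'M := ⟨_, rfl⟩
    obtain ⟨θ₂R, hθ₂Rdef⟩ : ∃ θ₂R : R ≃* R₂, θ₂R = hθ₂R.restrict hRM := ⟨_, rfl⟩
    have hθ₁Rx : ∀ x : R', ((θ₁R x : R₂) : Ω) = θ₁ ⟨x, hR'M x.2⟩ := fun x => by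
      rw [hθ₁Rdef]; rfl
    have hθ₂Rx : ∀ x : R, ((θ₂R x : R₂) : Ω) = θ₂ ⟨x, hRM x.2⟩ := fun x => by
      rw [hθ₂Rdef]; rfl
    have hθ₁Riso : IsIso F θ₁R := hθ₁Rdef ▸ hθ₁R.isIso_restrict hθ₁ hR'M
    have hθ₂Riso : IsIso F θ₂R := hθ₂Rdef ▸ hθ₂R.isIso_restrict hθ₂ hRM
    have hcθ₁R : Carries θ₁R Phat Phat := hθ₁Rdef ▸ hθ₁R.of_restrict hR'M hPR' hθ₁P
    have hcθ₂R : Carries θ₂R Phat Phat := hθ₂Rdef ▸ hθ₂R.of_restrict hRM hPR hθ₂P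
    have hβ₂iso : IsIso F (θ₂R.symm.trans (β.trans θ₁R)) :=
      hθ₂Riso.symm.trans (hβ.trans hθ₁Riso)
    have hβ₂c : Carries (θ₂R.symm.trans (β.trans θ₁R)) Phat Phat :=
      (hcθ₂R.symm hPR).trans (hc.trans hcθ₁R)
    have h7 := aut_case hS hO hPhS hPQ hPR₂ hR₂N hgood
      (fun D D' e he hPD hDN hlt' hc' => ih D D' e he hPD hDN (by omega) hc' (by omega))
      (β₂ := θ₂R.symm.trans (β.trans θ₁R)) ((mem_autGroup_iff_isIso F hR₂S _).2 hβ₂iso) hβ₂c.iff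
    -- assemble
    have hid : (hθ₁P.restrict (hPR'.trans hR'M) : MulAut Phat) * (hc.restrict hPR : MulAut Phat) =
        resHom hPR₂ ⟨θ₂R.symm.trans (β.trans θ₁R), hβ₂c.iff⟩ *
          (hθ₂P.restrict (hPR.trans hRM) : MulAut Phat) := by
      ext x
      show ((θ₁ ⟨((β ⟨x, hPR x.2⟩ : R') : Ω), hR'M (β ⟨x, hPR x.2⟩).2⟩ : M₁) : Ω) =
        ((θ₁R (β (θ₂R.symm ⟨((θ₂ ⟨x, hRM (hPR x.2)⟩ : M₂) : Ω),
          hPR₂ (hθ₂P.restrict (hPR.trans hRM) x).2⟩)) : R₂) : Ω)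
      have h1 : (⟨((θ₂ ⟨x, hRM (hPR x.2)⟩ : M₂) : Ω),
          hPR₂ (hθ₂P.restrict (hPR.trans hRM) x).2⟩ : R₂) = θ₂R ⟨x, hPR x.2⟩ :=
        Subtype.ext (hθ₂Rx ⟨x, hPR x.2⟩).symm
      rw [h1, θ₂R.symm_apply_apply, hθ₁Rx]
    have h8 := Subgroup.mul_mem _ (Subgroup.inv_mem _ ih₁) (Subgroup.mul_mem _ h7 ih₂)
    rw [← hid, inv_mul_cancel_left] at h8
    exact h8

/-- Restriction step for the generation principle. -/
theorem nice_of_restrict (hS : IsPGroup p S) (hO : OData F p Phat 𝒪) (hPhS : Phat ≤ S)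
    (hPQ : Phat ≤ Qs S Phat 𝒪)
    (hbig : ∀ R : Subgroup Ω, R ≤ S → Nat.card Phat < Nat.card R →
      ∃ R', F.IsConj R R' ∧ F.IsFullyAutomized p R' ∧ F.IsReceptive R')
    (hA : ∀ Y, F.IsConj Phat Y → Good0 F Y Phat)
    {X : Subgroup Ω} {φ : X →* Ω} (hφ : φ ∈ F.Hom X) {Y Y' : Subgroup Ω}
    (hYX : Y ≤ X) (hne : Y ≠ X) (e : Y ≃* Y')
    (he : ∀ x : Y, ((e x : Y') : Ω) = φ ⟨x, hYX x.2⟩)
    (hYN : Y ≤ normalizerIn S Y) (hY'N : Y' ≤ normalizerIn S Y')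
    {M₁ : Subgroup Ω} (φ₁ : ↥(normalizerIn S Y) ≃* ↥M₁) {M₂ : Subgroup Ω}
    (φ₂ : ↥(normalizerIn S Y') ≃* ↥M₂) (hφ₁ : IsIso F φ₁) (h₁ : Carries φ₁ Y Phat)
    (hφ₂ : IsIso F φ₂) (h₂ : Carries φ₂ Y' Phat) :
    (((h₁.restrict hYN).symm.trans (e.trans (h₂.restrict hY'N)) : Phat ≃* Phat) : MulAut Phat) ∈
      Astar F 𝒪 hPQ := by
  have hXS : X ≤ S := (F.le_of_mem hφ).1
  have hfinX : Finite X := Cfsg.Agent.Lib.Helper87.FSSat.finite_of_le hXS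
  obtain ⟨g, hgX, hgN, hgY⟩ := Cfsg.Agent.Lib.Helper87.FSSat.exists_normalizer_not_mem
    (S := X) (hS.to_le hXS) hYX hne
  obtain ⟨R, hRdef⟩ : ∃ R : Subgroup Ω, R = X ⊓ Subgroup.normalizer (Y : Set Ω) := ⟨_, rfl⟩
  have hYR : Y ≤ R := fun x hx => hRdef ▸ ⟨hYX hx, Subgroup.le_normalizer hx⟩
  have hRX : R ≤ X := hRdef ▸ inf_le_left
  have hRN : R ≤ normalizerIn S Y := fun x hx => by
    rw [hRdef] at hx
    exact ⟨hXS hx.1, hx.2⟩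
  have hfinR : Finite R := Cfsg.Agent.Lib.Helper87.FSSat.finite_of_le (hRX.trans hXS)
  have hgR : g ∈ R := hRdef ▸ ⟨hgX, hgN⟩
  have hlt : Nat.card Y < Nat.card R := card_lt_of_not_mem hYR hgR hgY
  have hφR : φ.comp (Subgroup.inclusion hRX) ∈ F.Hom R := hom_restrict F hφ hRX
  obtain ⟨R', hR'def⟩ : ∃ R' : Subgroup Ω, R' = (φ.comp (Subgroup.inclusion hRX)).range :=
    ⟨_, rfl⟩
  obtain ⟨eR, heRx, heR⟩ : ∃ eR : R ≃* R', (∀ x : R, ((eR x : R') : Ω) = φ ⟨x, hRX x.2⟩) ∧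
      IsIso F eR := by
    subst hR'def
    exact ⟨MonoidHom.ofInjective (F.injective_of_mem hφR), fun x => rfl, isIso_ofInjective hφR⟩
  have hcR : Carries eR Y Y' := by
    refine ⟨fun x => ?_, ?_⟩
    · rw [heRx]
      constructor
      · intro h
        have h1 := he (e.symm ⟨_, h⟩)
        rw [e.apply_symm_apply] at h1
        have h2 := F.injective_of_mem hφ h1
        have h3 : (x : Ω) = ((e.symm ⟨_, h⟩ : Y) : Ω) := congrArg Subtype.val h2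
        rw [h3]
        exact (e.symm ⟨_, h⟩).2
      · intro hx
        have h2 : φ ⟨x, hRX x.2⟩ = ((e ⟨x, hx⟩ : Y') : Ω) := (he ⟨x, hx⟩).symm
        rw [h2]
        exact (e ⟨x, hx⟩).2
    · intro z hz
      have h1 := he (e.symm ⟨z, hz⟩)
      rw [e.apply_symm_apply] at h1
      have h2 := heRx ⟨_, hYR (e.symm ⟨z, hz⟩).2⟩
      rw [← h1] at h2
      have h3 : ((eR ⟨_, hYR (e.symm ⟨z, hz⟩).2⟩ : R') : Ω) = z := h2
      rw [← h3]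
      exact (eR _).2
  have hR'N : R' ≤ normalizerIn S Y' := by
    intro y hy
    have := hcR.normalizer (eR.symm ⟨y, hy⟩) (hRN (eR.symm ⟨y, hy⟩).2).2
    rw [eR.apply_symm_apply] at this
    exact ⟨heR.le_right hy, this⟩
  have hM₁N : M₁ ≤ normalizerIn S Phat := by
    intro y hy
    have := h₁.normalizer (φ₁.symm ⟨y, hy⟩) (φ₁.symm ⟨y, hy⟩).2.2
    rw [φ₁.apply_symm_apply] at this
    exact ⟨hφ₁.le_right hy, this⟩
  have hci₁ := carries_img φ₁ R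
  have hci₂ := carries_img φ₂ R'
  obtain ⟨φ₁R, hφ₁Rdef⟩ : ∃ φ₁R : R ≃* img φ₁ R, φ₁R = hci₁.restrict hRN := ⟨_, rfl⟩
  obtain ⟨φ₂R, hφ₂Rdef⟩ : ∃ φ₂R : R' ≃* img φ₂ R', φ₂R = hci₂.restrict hR'N := ⟨_, rfl⟩
  have hφ₁Rx : ∀ x : R, ((φ₁R x : img φ₁ R) : Ω) = φ₁ ⟨x, hRN x.2⟩ := fun x => by
    rw [hφ₁Rdef]; rfl
  have hφ₂Rx : ∀ x : R', ((φ₂R x : img φ₂ R') : Ω) = φ₂ ⟨x, hR'N x.2⟩ := fun x => by
    rw [hφ₂Rdef]; rfl
  have hφ₁Riso : IsIso F φ₁R := hφ₁Rdef ▸ hci₁.isIso_restrict hφ₁ hRN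
  have hφ₂Riso : IsIso F φ₂R := hφ₂Rdef ▸ hci₂.isIso_restrict hφ₂ hR'N
  have hc₁R : Carries φ₁R Y Phat := hφ₁Rdef ▸ hci₁.of_restrict hRN hYR h₁
  have hc₂R : Carries φ₂R Y' Phat := hφ₂Rdef ▸ hci₂.of_restrict hR'N hcR.le h₂
  have hβ : IsIso F (φ₁R.symm.trans (eR.trans φ₂R)) := hφ₁Riso.symm.trans (heR.trans hφ₂Riso)
  have hcβ : Carries (φ₁R.symm.trans (eR.trans φ₂R)) Phat Phat :=
    (hc₁R.symm hYR).trans (hcR.trans hc₂R)
  have hPRt : Phat ≤ img φ₁ R := hc₁R.le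
  have hRtN : img φ₁ R ≤ normalizerIn S Phat := hci₁.le.trans hM₁N
  have hcard1 : Nat.card R = Nat.card (img φ₁ R) := hci₁.card hRN
  have hcard2 : Nat.card Y = Nat.card Phat := hc₁R.card hYR
  have key := ext_main hS hO hPhS hPQ hbig hA _ _ _ _ hβ hPRt hRtN (by omega) hcβ le_rfl
  have hid : (hcβ.restrict hPRt : MulAut Phat) =
      (h₁.restrict hYN).symm.trans (e.trans (h₂.restrict hY'N)) := by
    ext x
    obtain ⟨y, hy⟩ : ∃ y : Y, y = (h₁.restrict hYN).symm x := ⟨_, rfl⟩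
    have hyx : ((φ₁ ⟨y, hYN y.2⟩ : M₁) : Ω) = x := by
      have : h₁.restrict hYN y = x := by rw [hy, MulEquiv.apply_symm_apply]
      exact congrArg Subtype.val this
    have h1 : φ₁R ⟨y, hYR y.2⟩ = ⟨x, hPRt x.2⟩ := Subtype.ext ((hφ₁Rx _).trans hyx)
    have h2 : φ₁R.symm ⟨x, hPRt x.2⟩ = ⟨y, hYR y.2⟩ := by rw [← h1, φ₁R.symm_apply_apply]
    have h3 : eR ⟨y, hYR y.2⟩ = ⟨e y, hcR.le (e y).2⟩ :=
      Subtype.ext ((heRx _).trans (he y).symm)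
    show ((φ₂R (eR (φ₁R.symm ⟨x, hPRt x.2⟩)) : img φ₂ R') : Ω) =
      ((h₂.restrict hY'N (e ((h₁.restrict hYN).symm x)) : Phat) : Ω)
    rw [h2, h3, hφ₂Rx, ← hy]
    rfl
  rw [hid] at key
  exact key

/-- **Generation step.** Every automorphism of `P̂` in the system lies in `A_*`. -/
theorem autGroup_le_Astar (hS : IsPGroup p S) (ℋ : Set (Subgroup Ω))
    (hgen : ∀ E : FusionSystem S, (∀ P ∈ ℋ, F.Hom P ⊆ E.Hom P) → F ≤ E)
    (hO : OData F p Phat 𝒪) (hPhS : Phat ≤ S) (hPQ : Phat ≤ Qs S Phat 𝒪)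
    (hPhℋ : ∀ Y, F.IsConj Phat Y → Y ∉ ℋ)
    (hbig : ∀ R : Subgroup Ω, R ≤ S → Nat.card Phat < Nat.card R →
      ∃ R', F.IsConj R R' ∧ F.IsFullyAutomized p R' ∧ F.IsReceptive R')
    (hA : ∀ Y, F.IsConj Phat Y → Good0 F Y Phat) :
    F.autGroup Phat ≤ Astar F 𝒪 hPQ := by
  have hcardS : Nat.card Phat < Nat.card S := by
    obtain ⟨g, hgQ, hg⟩ := hO.big
    exact card_lt_of_not_mem hPhS ((Qs_le 𝒪).trans inf_le_left hgQ) hg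
  have key := gen_principle F ℋ hgen {Y | F.IsConj Phat Y}
    (fun Y hY Y' e he => isConj_trans F hY ((isConj_iff_exists_iso F).2 ⟨e, he⟩))
    (fun Y Y' e => ∀ (hYN : Y ≤ normalizerIn S Y) (hY'N : Y' ≤ normalizerIn S Y')
      (M₁ : Subgroup Ω) (φ₁ : ↥(normalizerIn S Y) ≃* ↥M₁) (M₂ : Subgroup Ω)
      (φ₂ : ↥(normalizerIn S Y') ≃* ↥M₂), IsIso F φ₁ → ∀ h₁ : Carries φ₁ Y Phat, IsIso F φ₂ →
      ∀ h₂ : Carries φ₂ Y' Phat,
      (((h₁.restrict hYN).symm.trans (e.trans (h₂.restrict hY'N)) : Phat ≃* Phat) :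
        MulAut Phat) ∈ Astar F 𝒪 hPQ)
    (by
      intro Y hY g hg Y' e he hYN hY'N M₁ φ₁ M₂ φ₂ hφ₁ h₁ hφ₂ h₂
      have hYS : Y ≤ S := isConj_le_right F hY
      have hYne : Y ≠ S := by
        intro h
        have := Cfsg.Agent.Lib.Helper88.FSBase.isConj_card F hY
        rw [h] at this
        omega
      have hlt := Cfsg.Agent.Lib.Helper87.FSSat.card_lt_card_normalizerIn hS hYS hYne
      have hne : Y ≠ normalizerIn S Y := by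
        intro h
        rw [← h] at hlt
        exact lt_irrefl _ hlt
      exact nice_of_restrict hS hO hPhS hPQ hbig hA
        (F.conj_mem (inf_le_left : normalizerIn S Y ≤ S) hg) hYN hne e (fun x => he x)
        hYN hY'N φ₁ φ₂ hφ₁ h₁ hφ₂ h₂)
    (by
      intro Y hY Y' Y'' e₁ e₂ he₁ he₂ hN₁ hN₂ hYN hY''N M₁ φ₁ M₃ φ₃ hφ₁ h₁ hφ₃ h₃
      have hY' : F.IsConj Phat Y' := isConj_trans F hY ((isConj_iff_exists_iso F).2 ⟨e₁, he₁⟩)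
      have hY'N : Y' ≤ normalizerIn S Y' :=
        Cfsg.Agent.Lib.Helper87.FSSat.le_normalizerIn he₁.le_right
      obtain ⟨M₂, φ₂, hφ₂, h₂⟩ := hA Y' hY'
      have a1 := hN₁ hYN hY'N M₁ φ₁ M₂ φ₂ hφ₁ h₁ hφ₂ h₂
      have a2 := hN₂ hY'N hY''N M₂ φ₂ M₃ φ₃ hφ₂ h₂ hφ₃ h₃
      have a3 := Subgroup.mul_mem _ a2 a1
      have hid : (((h₁.restrict hYN).symm.trans ((e₁.trans e₂).trans (h₃.restrict hY''N)) :
          Phat ≃* Phat) : MulAut Phat) =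
          ((h₂.restrict hY'N).symm.trans (e₂.trans (h₃.restrict hY''N)) : MulAut Phat) *
          ((h₁.restrict hYN).symm.trans (e₁.trans (h₂.restrict hY'N)) : MulAut Phat) := by
        ext x
        show _ = ((h₃.restrict hY''N (e₂ ((h₂.restrict hY'N).symm (h₂.restrict hY'N
          (e₁ ((h₁.restrict hYN).symm x))))) : Phat) : Ω)
        rw [MulEquiv.symm_apply_apply]
        rfl
      rw [hid]
      exact a3)
    (by
      intro Y hY Y' e he hN hY'N hYN M₁ φ₁ M₂ φ₂ hφ₁ h₁ hφ₂ h₂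
      have a := hN hYN hY'N M₂ φ₂ M₁ φ₁ hφ₂ h₂ hφ₁ h₁
      have a' := Subgroup.inv_mem _ a
      have hid : (((h₂.restrict hYN).symm.trans (e.trans (h₁.restrict hY'N)) :
          Phat ≃* Phat) : MulAut Phat)⁻¹ =
          ((h₁.restrict hY'N).symm.trans (e.symm.trans (h₂.restrict hYN)) : MulAut Phat) := by
        apply inv_eq_of_mul_eq_one_right
        ext x
        show ((h₁.restrict hY'N (e ((h₂.restrict hYN).symm (h₂.restrict hYN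
          (e.symm ((h₁.restrict hY'N).symm x))))) : Phat) : Ω) = x
        rw [MulEquiv.symm_apply_apply, MulEquiv.apply_symm_apply, MulEquiv.apply_symm_apply]
      rw [hid] at a'
      exact a')
    (by
      intro X hX φ hφ Y hY hYX Y' e he hYN hY'N M₁ φ₁ M₂ φ₂ hφ₁ h₁ hφ₂ h₂
      have hne : Y ≠ X := fun h => hPhℋ Y hY (h ▸ hX)
      exact nice_of_restrict hS hO hPhS hPQ hbig hA hφ hYX hne e he hYN hY'N φ₁ φ₂ hφ₁ h₁
        hφ₂ h₂)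
  intro α hα
  have hPN : Phat ≤ normalizerIn S Phat := Cfsg.Agent.Lib.Helper87.FSSat.le_normalizerIn hPhS
  have h1 := key Phat (isConj_refl F hPhS) Phat α ((mem_autGroup_iff_isIso F hPhS α).1 hα)
    hPN hPN _ (MulEquiv.refl _) _ (MulEquiv.refl _) (IsIso.refl F inf_le_left)
    (Carries.refl _ _ hPN) (IsIso.refl F inf_le_left) (Carries.refl _ _ hPN)
  have hgenid : ∀ (r : Phat ≃* Phat), (∀ x, r x = x) →
      ((r.symm.trans ((α : Phat ≃* Phat).trans r) : Phat ≃* Phat) : MulAut Phat) = α := by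
    intro r hr
    ext x
    show ((r (α (r.symm x)) : Phat) : Ω) = _
    have : r.symm x = x := by rw [MulEquiv.symm_apply_eq, hr]
    rw [hr, this]
  rw [hgenid _ (fun x => Subtype.ext rfl)] at h1
  exact h1

end main

end Cfsg.Agent.Lib.Helper88.GenExt
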