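import Mathlib
import Cfsg.Prelude.Def_FusionSystem
import Cfsg.Agent.Lib.Helper88.GenExt
import Cfsg.Agent.H84.PCore

set_option autoImplicit false

/-! The fully normalized member `P̂` of a class of maximal order outside the family is fully
automized and receptive. -/

namespace Cfsg.Agent.Lib.Helper88.GenFin

open Cfsg Cfsg.FusionSystem Cfsg.Agent.H84 Cfsg.Agent.Lib.Helper88.GenSCP
  Cfsg.Agent.Lib.Helper88.GenPair Cfsg.Agent.Lib.Helper88.GenA Cfsg.Agent.Lib.Helper88.GenN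
  Cfsg.Agent.Lib.Helper88.GenExt

section abstract

variable {G : Type*} [Group G]

/-- The conjugacy property inside a subgroup `N`. -/
theorem scp_subgroupOf {p : ℕ} {H T N : Subgroup G} (h : SCP p (H ⊓ N) T) :
    SCP p (H.subgroupOf N) (T.subgroupOf N) := by
  intro K hK hKp
  obtain ⟨χ, hχ, hχK⟩ := h (K.map N.subtype) (by
    rintro _ ⟨x, hx, rfl⟩
    exact ⟨hK hx, x.2⟩) (hKp.map _)
  exact ⟨⟨χ, hχ.2⟩, hχ.1, fun σ hσ => hχK σ ⟨σ, hσ, rfl⟩⟩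

/-- The conjugacy property passes to images. -/
theorem scp_map {G' : Type*} [Group G'] {p : ℕ} [Fact p.Prime] (f : G →* G')
    {H T : Subgroup G} [Finite H] {T' : Subgroup G'} (hHT : SCP p H T)
    (h3 : ∀ σ ∈ H, σ ∈ T → f σ ∈ T') : SCP p (H.map f) T' := by
  intro K hK hKp
  have hfin : Finite ↥(H ⊓ K.comap f) := Finite.of_injective
    (Subgroup.inclusion (inf_le_left : H ⊓ K.comap f ≤ H)) (Subgroup.inclusion_injective _)
  let g : ↥(H ⊓ K.comap f) →* ↥K :=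
    (f.comp (H ⊓ K.comap f).subtype).codRestrict K (fun x => x.2.2)
  have hg : Function.Surjective g := by
    rintro ⟨y, hy⟩
    obtain ⟨x, hx, rfl⟩ := hK hy
    exact ⟨⟨x, hx, hy⟩, rfl⟩
  obtain ⟨P'⟩ : Nonempty (Sylow p ↥K) := Sylow.nonempty
  have hP'top : (P' : Subgroup ↥K) = ⊤ := (P'.is_maximal' (hKp.to_subgroup ⊤) le_top).symm
  obtain ⟨R, hR⟩ := Sylow.mapSurjective_surjective hg p P'
  have hRmap : (R : Subgroup ↥(H ⊓ K.comap f)).map g = ⊤ := by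
    rw [← hP'top, ← hR]
    rfl
  obtain ⟨χ, hχH, hχ⟩ := hHT ((R : Subgroup ↥(H ⊓ K.comap f)).map (H ⊓ K.comap f).subtype) (by
    rintro _ ⟨x, -, rfl⟩
    exact x.2.1) (R.isPGroup'.map _)
  refine ⟨f χ, ⟨χ, hχH, rfl⟩, fun σ hσ => ?_⟩
  have hmem : (⟨σ, hσ⟩ : K) ∈ (R : Subgroup ↥(H ⊓ K.comap f)).map g := by
    rw [hRmap]
    trivial
  obtain ⟨r, hr, hrσ⟩ := hmem
  have h1 : f (r : G) = σ := congrArg Subtype.val hrσ
  have h2 := hχ (r : G) ⟨r, hr, rfl⟩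
  have h4 := h3 _ (H.mul_mem (H.mul_mem hχH r.2.1) (H.inv_mem hχH)) h2
  rw [map_mul, map_mul, map_inv, h1] at h4
  exact h4

end abstract

variable {Ω : Type*} [Group Ω] {S : Subgroup Ω}

/-- The elements of `H` agreeing on `P` with some element of `M`. -/
def agreeSub {R : Subgroup Ω} (P : Subgroup Ω) (H M : Subgroup (MulAut R)) (hM : M ≤ stab R P) :
    Subgroup (MulAut R) where
  carrier := {σ | σ ∈ H ∧ ∃ τ ∈ M, ∀ x : R, (x : Ω) ∈ P → σ x = τ x}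
  mul_mem' := by
    rintro σ₁ σ₂ ⟨h₁, τ₁, hτ₁, e₁⟩ ⟨h₂, τ₂, hτ₂, e₂⟩
    refine ⟨H.mul_mem h₁ h₂, τ₁ * τ₂, M.mul_mem hτ₁ hτ₂, fun x hx => ?_⟩
    show σ₁ (σ₂ x) = τ₁ (τ₂ x)
    rw [e₂ x hx, e₁ _ ((hM hτ₂ x).2 hx)]
  one_mem' := ⟨H.one_mem, 1, M.one_mem, fun _ _ => rfl⟩
  inv_mem' := by
    rintro σ ⟨h, τ, hτ, e⟩
    refine ⟨H.inv_mem h, τ⁻¹, M.inv_mem hτ, fun x hx => ?_⟩
    have hz : ((τ⁻¹ x : R) : Ω) ∈ P := (hM (M.inv_mem hτ) x).2 hx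
    have h1 : σ (τ⁻¹ x) = x := by rw [e _ hz, MulAut.apply_inv_self]
    calc σ⁻¹ x = σ⁻¹ (σ (τ⁻¹ x)) := by rw [h1]
      _ = τ⁻¹ x := MulAut.inv_apply_self _ _ _

section main

variable [Finite S] {p : ℕ} [Fact p.Prime] {F : FusionSystem S} {Phat : Subgroup Ω}
  {𝒪 : Subgroup (MulAut Phat)}

/-- `Q*` is a good subgroup over `P̂`. -/
theorem nGood_Qs (hS : IsPGroup p S) (hO : OData F p Phat 𝒪) (hPhS : Phat ≤ S)
    (hPQ : Phat ≤ Qs S Phat 𝒪)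
    (hbig : ∀ R : Subgroup Ω, R ≤ S → Nat.card Phat < Nat.card R →
      ∃ R', F.IsConj R R' ∧ F.IsFullyAutomized p R' ∧ F.IsReceptive R')
    (hA : ∀ Y, F.IsConj Phat Y → Good0 F Y Phat) : NGood F p Phat (Qs S Phat 𝒪) := by
  have hQS : Qs S Phat 𝒪 ≤ S := (Qs_le 𝒪).trans inf_le_left
  have hfinQ : Finite (Qs S Phat 𝒪) := Cfsg.Agent.Lib.Helper87.FSSat.finite_of_le hQS
  obtain ⟨g, hgQ, hg⟩ := hO.big
  have hlt : Nat.card Phat < Nat.card (Qs S Phat 𝒪) := card_lt_of_not_mem hPQ hgQ hg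
  obtain ⟨R₂, θ, hθ, hcθ, hR₂N, hgood⟩ := exists_nGood hS F hbig hA hPQ (Qs_le 𝒪) hlt
  have hle : R₂ ≤ Qs S Phat 𝒪 := by
    intro y hy
    have := map_mem_Qs hO hPhS hθ hPQ hR₂N hcθ (θ.symm ⟨y, hy⟩) (θ.symm ⟨y, hy⟩).2
    rw [θ.apply_symm_apply] at this
    exact this
  have hcard : Nat.card (Qs S Phat 𝒪) = Nat.card R₂ := Nat.card_congr θ.toEquiv
  have heq : R₂ = Qs S Phat 𝒪 := Subgroup.eq_of_le_of_card_ge hle (by omega)
  rw [← heq]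
  exact hgood

/-- Every element of `A_*` extends to its extender. -/
theorem rec_aut (hS : IsPGroup p S) (hO : OData F p Phat 𝒪) (hPhS : Phat ≤ S)
    (hPQ : Phat ≤ Qs S Phat 𝒪) (hgoodQ : NGood F p Phat (Qs S Phat 𝒪)) {a : MulAut Phat}
    (ha : a ∈ Astar F 𝒪 hPQ) :
    ∃ ψ ∈ F.Hom (extender S Phat (Phat.subtype.comp (a : Phat ≃* Phat).toMonoidHom)),
      ∀ (x : Phat) (hx : (x : Ω) ∈ extender S Phat
        (Phat.subtype.comp (a : Phat ≃* Phat).toMonoidHom)), ψ ⟨x, hx⟩ = ((a x : Phat) : Ω) := by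
  obtain ⟨at', hatF, hatst, hatx⟩ := (mem_Astar_iff F 𝒪 hPQ a).1 ha
  have hQS : Qs S Phat 𝒪 ≤ S := (Qs_le 𝒪).trans inf_le_left
  have hfinQ : Finite (Qs S Phat 𝒪) := Cfsg.Agent.Lib.Helper87.FSSat.finite_of_le hQS
  have hfinPh : Finite Phat := Cfsg.Agent.Lib.Helper87.FSSat.finite_of_le hPhS
  have hNaS : extender S Phat (Phat.subtype.comp (a : Phat ≃* Phat).toMonoidHom) ≤ S :=
    Cfsg.Agent.Lib.Helper88.FSBase.extender_le _ _
  have hNaN : extender S Phat (Phat.subtype.comp (a : Phat ≃* Phat).toMonoidHom) ≤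
      normalizerIn S Phat := fun g hg =>
    ⟨hNaS hg, Cfsg.Agent.Lib.Helper88.FSBase.extender_le_normalizer _ _ hg⟩
  -- elements of `N_S(P̂)` normalize `Q*`
  have hnormQ : ∀ n ∈ normalizerIn S Phat, n ∈ Subgroup.normalizer (Qs S Phat 𝒪 : Set Ω) :=
    fun n hn => mem_normalizer_of_conj_mem (fun y hy => Qs_normal hO hPhS n hn y hy)
  -- conjugation by elements of `N_S(P̂)` on `Q*`
  have hconjH : ∀ (n : Ω) (hn : n ∈ normalizerIn S Phat),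
      (Qs S Phat 𝒪).normalizerMonoidHom ⟨n, hnormQ n hn⟩ ∈
        autInducedBy S (Qs S Phat 𝒪) ⊓ (F.autGroup (Qs S Phat 𝒪) ⊓ stab (Qs S Phat 𝒪) Phat) := by
    intro n hn
    have h1 : (Qs S Phat 𝒪).normalizerMonoidHom ⟨n, hnormQ n hn⟩ ∈
        autInducedBy S (Qs S Phat 𝒪) :=
      Cfsg.Agent.Lib.Helper87.FSBasic.conj_mem_autInducedBy hn.1 _
    refine ⟨h1, Cfsg.Agent.Lib.Helper87.FSBasic.autInducedBy_le_autGroup F hQS h1, fun x => ?_⟩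
    exact (Subgroup.mem_normalizer_iff.mp hn.2 x).symm
  obtain ⟨L, hLdef⟩ : ∃ L : Subgroup (MulAut (Qs S Phat 𝒪)), L = agreeSub Phat
      (F.autGroup (Qs S Phat 𝒪) ⊓ stab (Qs S Phat 𝒪) Phat)
      (autInducedBy S (Qs S Phat 𝒪) ⊓ (F.autGroup (Qs S Phat 𝒪) ⊓ stab (Qs S Phat 𝒪) Phat))
      (fun _ h => h.2.2) := ⟨_, rfl⟩
  have hLH : L ≤ F.autGroup (Qs S Phat 𝒪) ⊓ stab (Qs S Phat 𝒪) Phat := by
    rw [hLdef]
    exact fun _ h => h.1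
  have hTL : autInducedBy S (Qs S Phat 𝒪) ⊓
      (F.autGroup (Qs S Phat 𝒪) ⊓ stab (Qs S Phat 𝒪) Phat) ≤ L := by
    rw [hLdef]
    exact fun τ h => ⟨h.2, τ, h, fun _ _ => rfl⟩
  have hTp : IsPGroup p (autInducedBy S (Qs S Phat 𝒪) ⊓
      (F.autGroup (Qs S Phat 𝒪) ⊓ stab (Qs S Phat 𝒪) Phat) : Subgroup (MulAut (Qs S Phat 𝒪))) :=
    (Cfsg.Agent.Lib.Helper87.FSBasic.isPGroup_autInducedBy hS _).to_le inf_le_left
  have hscpL : SCP p L (autInducedBy S (Qs S Phat 𝒪)) := scp_of_le hgoodQ.1 hTp hLH hTL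
  obtain ⟨X, hXdef⟩ : ∃ X : Subgroup (MulAut (Qs S Phat 𝒪)), X =
      (autInducedBy (extender S Phat (Phat.subtype.comp (a : Phat ≃* Phat).toMonoidHom))
        (Qs S Phat 𝒪)).map (MulAut.conj at').toMonoidHom := ⟨_, rfl⟩
  have hXp : IsPGroup p X := by
    rw [hXdef]
    exact (Cfsg.Agent.Lib.Helper87.FSBasic.isPGroup_autInducedBy (hS.to_le hNaS) _).map _
  have hatinv : ∀ x : Qs S Phat 𝒪, (x : Ω) ∈ Phat → ((at'⁻¹ x : Qs S Phat 𝒪) : Ω) ∈ Phat :=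
    fun x hx => ((Subgroup.inv_mem _ hatst) x).2 hx
  have hXL : X ≤ L := by
    rw [hXdef, hLdef]
    rintro _ ⟨σ, hσ, rfl⟩
    obtain ⟨g, hg, hgσ⟩ := (mem_autInducedBy_iff _ _ _).1 hσ
    have hgN : g ∈ normalizerIn S Phat := hNaN hg
    have hσH : σ ∈ F.autGroup (Qs S Phat 𝒪) ⊓ stab (Qs S Phat 𝒪) Phat := by
      refine ⟨Cfsg.Agent.Lib.Helper87.FSBasic.autInducedBy_le_autGroup F hQS
        ((mem_autInducedBy_iff S _ σ).2 ⟨g, hgN.1, hgσ⟩), fun x => ?_⟩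
      rw [hgσ]
      exact (Subgroup.mem_normalizer_iff.mp hgN.2 x).symm
    obtain ⟨-, -, h, hhS, hh⟩ := (mem_extender_iff _ _ _ _).1 hg
    have hconjP : ∀ x : Phat, g * (x : Ω) * g⁻¹ ∈ Phat := fun x =>
      (Subgroup.mem_normalizer_iff.mp hgN.2 x).mp x.2
    have hhx : ∀ x : Phat, ((a ⟨g * (x : Ω) * g⁻¹, hconjP x⟩ : Phat) : Ω) =
        h * ((a x : Phat) : Ω) * h⁻¹ := fun x => hh x (hconjP x)
    have hhNP : h ∈ Subgroup.normalizer (Phat : Set Ω) := by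
      apply mem_normalizer_of_conj_mem
      intro y hy
      have h1 := hhx (a⁻¹ ⟨y, hy⟩)
      rw [MulAut.apply_inv_self] at h1
      rw [← h1]
      exact (a _).2
    have hhN : h ∈ normalizerIn S Phat := ⟨hhS, hhNP⟩
    refine ⟨Subgroup.mul_mem _ (Subgroup.mul_mem _ ⟨hatF, hatst⟩ hσH)
      (Subgroup.inv_mem _ ⟨hatF, hatst⟩), _, hconjH h hhN, fun x hx => ?_⟩
    apply Subtype.ext
    show ((at' (σ (at'⁻¹ x)) : Qs S Phat 𝒪) : Ω) = h * x * h⁻¹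
    have hy := hatinv x hx
    have h1 := hhx ⟨_, hy⟩
    rw [hatx, hatx] at h1
    have h2 : (⟨((⟨((at'⁻¹ x : Qs S Phat 𝒪) : Ω), hy⟩ : Phat) : Ω), hPQ hy⟩ : Qs S Phat 𝒪) =
        at'⁻¹ x := rfl
    have h3 : (⟨g * ((at'⁻¹ x : Qs S Phat 𝒪) : Ω) * g⁻¹,
        hPQ (hconjP ⟨_, hy⟩)⟩ : Qs S Phat 𝒪) = σ (at'⁻¹ x) := Subtype.ext (hgσ _).symm
    rw [h2, MulAut.apply_inv_self] at h1
    rw [← h1, ← h3]
  obtain ⟨l, hlL, hl⟩ := hscpL X hXL hXp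
  have hlH := hLH hlL
  rw [hLdef] at hlL
  obtain ⟨-, τ, hτ, hlτ⟩ := hlL
  -- `κ = τ⁻¹ l` is trivial on `P̂`
  have hκH : τ⁻¹ * l ∈ F.autGroup (Qs S Phat 𝒪) ⊓ stab (Qs S Phat 𝒪) Phat :=
    Subgroup.mul_mem _ (Subgroup.inv_mem _ hτ.2) hlH
  have hκtriv : ∀ x : Qs S Phat 𝒪, (x : Ω) ∈ Phat → (τ⁻¹ * l) x = x := by
    intro x hx
    show τ⁻¹ (l x) = x
    rw [hlτ x hx, MulAut.inv_apply_self]
  have hκX : ∀ σ ∈ X, (τ⁻¹ * l) * σ * (τ⁻¹ * l)⁻¹ ∈ autInducedBy S (Qs S Phat 𝒪) := by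
    intro σ hσ
    have h1 := hl σ hσ
    have e : (τ⁻¹ * l) * σ * (τ⁻¹ * l)⁻¹ = τ⁻¹ * (l * σ * l⁻¹) * τ := by group
    rw [e]
    exact Subgroup.mul_mem _ (Subgroup.mul_mem _ (Subgroup.inv_mem _ hτ.1) h1) hτ.1
  obtain ⟨κ, hκdef⟩ : ∃ κ : MulAut (Qs S Phat 𝒪), κ = τ⁻¹ * l := ⟨_, rfl⟩
  rw [← hκdef] at hκH hκtriv hκX
  have heF : κ * at' ∈ F.autGroup (Qs S Phat 𝒪) := Subgroup.mul_mem _ hκH.1 hatF
  have hest : κ * at' ∈ stab (Qs S Phat 𝒪) Phat := Subgroup.mul_mem _ hκH.2 hatst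
  have heiso : IsIso F ((κ * at' : MulAut (Qs S Phat 𝒪)) : Qs S Phat 𝒪 ≃* Qs S Phat 𝒪) :=
    (mem_autGroup_iff_isIso F hQS _).1 heF
  obtain ⟨ψ, hψ, hψext⟩ := hgoodQ.2 (Qs S Phat 𝒪) _ heiso hPQ (Qs_le 𝒪) ⟨hest, hPQ⟩
  have hle : extender S Phat (Phat.subtype.comp (a : Phat ≃* Phat).toMonoidHom) ≤
      extender S (Qs S Phat 𝒪) ((Qs S Phat 𝒪).subtype.comp
        ((κ * at' : MulAut (Qs S Phat 𝒪)) : Qs S Phat 𝒪 ≃* Qs S Phat 𝒪).toMonoidHom) ⊓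
        normalizerIn S Phat := by
    intro g hg
    have hgN := hNaN hg
    refine Subgroup.mem_inf.mpr ⟨?_, hgN⟩
    rw [mem_extender_iff]
    refine ⟨hgN.1, hnormQ g hgN, ?_⟩
    have hσ₀ : (Qs S Phat 𝒪).normalizerMonoidHom ⟨g, hnormQ g hgN⟩ ∈
        autInducedBy (extender S Phat (Phat.subtype.comp (a : Phat ≃* Phat).toMonoidHom))
          (Qs S Phat 𝒪) := Cfsg.Agent.Lib.Helper87.FSBasic.conj_mem_autInducedBy hg _
    have hβσ : at' * (Qs S Phat 𝒪).normalizerMonoidHom ⟨g, hnormQ g hgN⟩ * at'⁻¹ ∈ X := by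
      rw [hXdef]
      exact ⟨_, hσ₀, rfl⟩
    obtain ⟨h, hhS, hh⟩ := (mem_autInducedBy_iff _ _ _).1 (hκX _ hβσ)
    refine ⟨h, hhS, fun x hx => ?_⟩
    have h3 := hh ((κ * at' : MulAut (Qs S Phat 𝒪)) x)
    show ((κ (at' ⟨g * x * g⁻¹, hx⟩) : Qs S Phat 𝒪) : Ω) =
      h * ((κ (at' x) : Qs S Phat 𝒪) : Ω) * h⁻¹
    have h4 : ((κ * (at' * (Qs S Phat 𝒪).normalizerMonoidHom ⟨g, hnormQ g hgN⟩ * at'⁻¹) * κ⁻¹)
        ((κ * at' : MulAut (Qs S Phat 𝒪)) x) : Qs S Phat 𝒪) = κ (at' ⟨g * x * g⁻¹, hx⟩) := by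
      show κ (at' ((Qs S Phat 𝒪).normalizerMonoidHom ⟨g, hnormQ g hgN⟩
        (at'⁻¹ (κ⁻¹ (κ (at' x)))))) = _
      rw [MulAut.inv_apply_self, MulAut.inv_apply_self]
      rfl
    rw [h4] at h3
    exact h3
  refine ⟨ψ.comp (Subgroup.inclusion hle), hom_restrict F hψ hle, fun x hx => ?_⟩
  have h1 := hψext ⟨x, hPQ x.2⟩ (hle hx)
  show ψ ⟨x, hle hx⟩ = _
  rw [hatx]
  have h2 : ((κ * at' : MulAut (Qs S Phat 𝒪)) ⟨x, hPQ x.2⟩ : Qs S Phat 𝒪) = at' ⟨x, hPQ x.2⟩ :=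
    hκtriv _ ((hatst ⟨x, hPQ x.2⟩).2 x.2)
  rw [← h2]
  exact h1

/-- `P̂` is receptive. -/
theorem receptive_Phat (hS : IsPGroup p S) (hO : OData F p Phat 𝒪) (hPhS : Phat ≤ S)
    (hPQ : Phat ≤ Qs S Phat 𝒪) (hgoodQ : NGood F p Phat (Qs S Phat 𝒪))
    (hAut : F.autGroup Phat ≤ Astar F 𝒪 hPQ)
    (hA : ∀ Y, F.IsConj Phat Y → Good0 F Y Phat) : F.IsReceptive Phat := by
  refine ⟨hPhS, fun P φ hφ hrange => ?_⟩
  have hPS : P ≤ S := (F.le_of_mem hφ).1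
  have hPN : P ≤ normalizerIn S P := Cfsg.Agent.Lib.Helper87.FSSat.le_normalizerIn hPS
  obtain ⟨e, hex⟩ : ∃ e : P ≃* Phat, ∀ x : P, ((e x : Phat) : Ω) = φ x := by
    subst hrange
    exact ⟨MonoidHom.ofInjective (F.injective_of_mem hφ), fun x => rfl⟩
  have he : IsIso F e := hom_congr F hφ (fun x => hex x)
  have hconj : F.IsConj Phat P := isConj_symm F ⟨φ, hφ, hrange⟩
  obtain ⟨M, φP, hφP, hcφP⟩ := hA P hconj
  have hMS : M ≤ S := hφP.le_right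
  obtain ⟨ePh, hePhdef⟩ : ∃ ePh : P ≃* Phat, ePh = hcφP.restrict hPN := ⟨_, rfl⟩
  have hePhx : ∀ x : P, ((ePh x : Phat) : Ω) = φP ⟨x, hPN x.2⟩ := fun x => by
    rw [hePhdef]; rfl
  have hePh : IsIso F ePh := hePhdef ▸ hcφP.isIso_restrict hφP hPN
  have haF : ((ePh.symm.trans e : Phat ≃* Phat) : MulAut Phat) ∈ F.autGroup Phat :=
    (mem_autGroup_iff_isIso F hPhS _).2 (hePh.symm.trans he)
  obtain ⟨ψa, hψa, hψaext⟩ := rec_aut hS hO hPhS hPQ hgoodQ (hAut haF)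
  have hNle : extender S P φ ≤ normalizerIn S P := fun g hg =>
    ⟨Cfsg.Agent.Lib.Helper88.FSBase.extender_le _ _ hg,
      Cfsg.Agent.Lib.Helper88.FSBase.extender_le_normalizer _ _ hg⟩
  have hφPN := hom_restrict F hφP hNle
  have hmem : ∀ x : ↥(extender S P φ),
      ((M.subtype.comp φP.toMonoidHom).comp (Subgroup.inclusion hNle)) x ∈
        extender S Phat (Phat.subtype.comp
          ((ePh.symm.trans e : Phat ≃* Phat) : Phat ≃* Phat).toMonoidHom) := by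
    rintro ⟨g, hg⟩
    obtain ⟨hgS, hgN, h, hhS, hh⟩ := (mem_extender_iff _ _ _ _).1 hg
    show ((φP ⟨g, hNle hg⟩ : M) : Ω) ∈ _
    rw [mem_extender_iff]
    refine ⟨hMS (φP ⟨g, hNle hg⟩).2, hcφP.normalizer ⟨g, hNle hg⟩ hgN, h, hhS, fun y hy => ?_⟩
    show ((e (ePh.symm ⟨_, hy⟩) : Phat) : Ω) = h * ((e (ePh.symm y) : Phat) : Ω) * h⁻¹
    have hgx : g * ((ePh.symm y : P) : Ω) * g⁻¹ ∈ P :=
      (Subgroup.mem_normalizer_iff.mp hgN _).mp (ePh.symm y).2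
    have h1 : ePh ⟨g * ((ePh.symm y : P) : Ω) * g⁻¹, hgx⟩ =
        ⟨((φP ⟨g, hNle hg⟩ : M) : Ω) * (y : Ω) * ((φP ⟨g, hNle hg⟩ : M) : Ω)⁻¹, hy⟩ := by
      apply Subtype.ext
      rw [hePhx]
      have h2 : (⟨g * ((ePh.symm y : P) : Ω) * g⁻¹, hPN hgx⟩ : normalizerIn S P) =
          ⟨g, hNle hg⟩ * ⟨((ePh.symm y : P) : Ω), hPN (ePh.symm y).2⟩ * ⟨g, hNle hg⟩⁻¹ :=
        Subtype.ext rfl
      rw [h2, map_mul, map_mul, map_inv]
      have h3 := hePhx (ePh.symm y)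
      rw [ePh.apply_symm_apply] at h3
      simp only [Subgroup.coe_mul, Subgroup.coe_inv]
      rw [← h3]
    rw [← h1, ePh.symm_apply_apply, hex, hex]
    exact hh _ hgx
  refine ⟨ψa.comp (((M.subtype.comp φP.toMonoidHom).comp (Subgroup.inclusion hNle)).codRestrict
    _ hmem), F.comp_mem hφPN hψa hmem, fun x hP hN => ?_⟩
  have h1 := hψaext (ePh ⟨x, hP⟩) (by
    have := hmem ⟨x, hN⟩
    have h2 : ((ePh ⟨x, hP⟩ : Phat) : Ω) =
        ((M.subtype.comp φP.toMonoidHom).comp (Subgroup.inclusion hNle)) ⟨x, hN⟩ := hePhx ⟨x, hP⟩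
    rw [h2]
    exact this)
  have h3 : ψa.comp (((M.subtype.comp φP.toMonoidHom).comp
      (Subgroup.inclusion hNle)).codRestrict _ hmem) ⟨x, hN⟩ = ψa ⟨((ePh ⟨x, hP⟩ : Phat) : Ω), by
        have := hmem ⟨x, hN⟩
        have h2 : ((ePh ⟨x, hP⟩ : Phat) : Ω) =
          ((M.subtype.comp φP.toMonoidHom).comp (Subgroup.inclusion hNle)) ⟨x, hN⟩ :=
            hePhx ⟨x, hP⟩
        rw [h2]
        exact this⟩ := by
    show ψa ⟨((φP ⟨x, hNle hN⟩ : M) : Ω), _⟩ = _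
    congr 1
    exact Subtype.ext (hePhx ⟨x, hP⟩).symm
  rw [h3, h1]
  show ((e (ePh.symm (ePh ⟨x, hP⟩)) : Phat) : Ω) = _
  rw [ePh.symm_apply_apply, hex]

omit [Finite S] [Fact p.Prime] in
theorem Astar_le_autGroup (hPhS : Phat ≤ S) (hPQ : Phat ≤ Qs S Phat 𝒪) :
    Astar F 𝒪 hPQ ≤ F.autGroup Phat := by
  have hQS : Qs S Phat 𝒪 ≤ S := (Qs_le 𝒪).trans inf_le_left
  rintro _ ⟨δ, hδ, rfl⟩
  rw [mem_autGroup_iff_isIso F hPhS]
  exact Carries.isIso_restrict ((mem_autGroup_iff_isIso F hQS δ).1 hδ) ⟨δ.2, hPQ⟩ hPQ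

/-- `P̂` is fully automized. -/
theorem fullyAutomized_Phat (hS : IsPGroup p S) (hPhS : Phat ≤ S)
    (hPQ : Phat ≤ Qs S Phat 𝒪) (hgoodQ : NGood F p Phat (Qs S Phat 𝒪))
    (hAut : F.autGroup Phat ≤ Astar F 𝒪 hPQ) : F.IsFullyAutomized p Phat := by
  have hQS : Qs S Phat 𝒪 ≤ S := (Qs_le 𝒪).trans inf_le_left
  have hfinQ : Finite (Qs S Phat 𝒪) := Cfsg.Agent.Lib.Helper87.FSSat.finite_of_le hQS
  have hfinPh : Finite Phat := Cfsg.Agent.Lib.Helper87.FSSat.finite_of_le hPhS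
  have hscp1 := scp_subgroupOf hgoodQ.1
  have hscp2 : SCP p (Astar F 𝒪 hPQ) (autInducedBy S Phat) := by
    refine scp_map (resHom hPQ) hscp1 ?_
    intro σ _ hσT
    obtain ⟨g, hg, hgσ⟩ := (mem_autInducedBy_iff _ _ _).1 (Subgroup.mem_subgroupOf.mp hσT)
    rw [mem_autInducedBy_iff]
    exact ⟨g, hg, fun x => by rw [resHom_apply, hgσ]⟩
  have heq : Astar F 𝒪 hPQ = F.autGroup Phat := le_antisymm (Astar_le_autGroup hPhS hPQ) hAut
  rw [heq] at hscp2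
  refine ⟨hPhS, ?_⟩
  obtain ⟨R'⟩ : Nonempty (Sylow p ↥(F.autGroup Phat)) := Sylow.nonempty
  obtain ⟨χ, hχ, hχK⟩ := hscp2 ((R' : Subgroup ↥(F.autGroup Phat)).map (F.autGroup Phat).subtype)
    (by
      rintro _ ⟨x, -, rfl⟩
      exact x.2) (R'.isPGroup'.map _)
  have hTp : IsPGroup p ((autInducedBy S Phat).subgroupOf (F.autGroup Phat)) :=
    (Cfsg.Agent.Lib.Helper87.FSBasic.isPGroup_autInducedBy hS Phat).comap_of_injective _
      (Subgroup.subtype_injective _)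
  have hle : (((⟨χ, hχ⟩ : ↥(F.autGroup Phat)) • R' : Sylow p ↥(F.autGroup Phat)) :
      Subgroup ↥(F.autGroup Phat)) ≤ (autInducedBy S Phat).subgroupOf (F.autGroup Phat) := by
    intro x hx
    rw [Sylow.coe_subgroup_smul, Subgroup.mem_smul_pointwise_iff_exists] at hx
    obtain ⟨y, hy, rfl⟩ := hx
    rw [Subgroup.mem_subgroupOf]
    exact hχK (y : MulAut Phat) ⟨y, hy, rfl⟩
  exact ⟨(⟨χ, hχ⟩ : ↥(F.autGroup Phat)) • R', (Sylow.is_maximal' _ hTp hle).symm⟩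

/-- The fully normalized `P̂` is fully automized and receptive. -/
theorem final (hS : IsPGroup p S) (ℋ : Set (Subgroup Ω))
    (hgen : ∀ E : FusionSystem S, (∀ P ∈ ℋ, F.Hom P ⊆ E.Hom P) → F ≤ E)
    (hO : OData F p Phat 𝒪) (hPhS : Phat ≤ S)
    (hPhℋ : ∀ Y, F.IsConj Phat Y → Y ∉ ℋ)
    (hbig : ∀ R : Subgroup Ω, R ≤ S → Nat.card Phat < Nat.card R →
      ∃ R', F.IsConj R R' ∧ F.IsFullyAutomized p R' ∧ F.IsReceptive R')
    (hA : ∀ Y, F.IsConj Phat Y → Good0 F Y Phat) :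
    F.IsFullyAutomized p Phat ∧ F.IsReceptive Phat := by
  have hPQ := le_Qs hO hPhS
  have hAut := autGroup_le_Astar hS ℋ hgen hO hPhS hPQ hPhℋ hbig hA
  have hgoodQ := nGood_Qs hS hO hPhS hPQ hbig hA
  exact ⟨fullyAutomized_Phat hS hPhS hPQ hgoodQ hAut,
    receptive_Phat hS hO hPhS hPQ hgoodQ hAut hA⟩

/-- **Core lemma.** A class of maximal order outside the family, all of whose bigger subgroups
have fully automized receptive conjugates, contains a fully automized receptive member. -/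
theorem core_lemma (hS : IsPGroup p S) (F : FusionSystem S) (ℋ : Set (Subgroup Ω))
    (hgen : ∀ E : FusionSystem S, (∀ P ∈ ℋ, F.Hom P ⊆ E.Hom P) → F ≤ E)
    {P₀ : Subgroup Ω} (hP₀S : P₀ ≤ S) (hP₀ℋ : ∀ Y, F.IsConj P₀ Y → Y ∉ ℋ)
    (hbig : ∀ R : Subgroup Ω, R ≤ S → Nat.card P₀ < Nat.card R →
      ∃ R', F.IsConj R R' ∧ F.IsFullyAutomized p R' ∧ F.IsReceptive R')
    (hstar : F.IsCentric P₀ → ∃ Q, F.IsConj P₀ Q ∧
      ¬ (autInducedBy S Q ⊓ (pCore p ↥(F.autGroup Q)).map (F.autGroup Q).subtype ≤ Inn Q)) :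
    ∃ Q, F.IsConj P₀ Q ∧ F.IsFullyAutomized p Q ∧ F.IsReceptive Q := by
  -- a fully normalized member
  obtain ⟨Phat, hconj, hfn0⟩ : ∃ Phat, F.IsConj P₀ Phat ∧ ∀ Y, F.IsConj P₀ Y →
      Nat.card (normalizerIn S Y) ≤ Nat.card (normalizerIn S Phat) := by
    have hne : {n | ∃ Y, F.IsConj P₀ Y ∧ Nat.card (normalizerIn S Y) = n}.Nonempty :=
      ⟨_, P₀, isConj_refl F hP₀S, rfl⟩
    have hbdd : BddAbove {n | ∃ Y, F.IsConj P₀ Y ∧ Nat.card (normalizerIn S Y) = n} := by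
      refine ⟨Nat.card S, ?_⟩
      rintro n ⟨Y, -, rfl⟩
      exact Subgroup.card_le_of_le inf_le_left
    obtain ⟨Phat, hconj, hcard⟩ := Nat.sSup_mem hne hbdd
    refine ⟨Phat, hconj, fun Y hY => ?_⟩
    rw [hcard]
    exact le_csSup hbdd ⟨Y, hY, rfl⟩
  have hPhS : Phat ≤ S := isConj_le_right F hconj
  have hcardP : Nat.card P₀ = Nat.card Phat := Cfsg.Agent.Lib.Helper88.FSBase.isConj_card F hconj
  have hclass : ∀ Y, F.IsConj Phat Y → F.IsConj P₀ Y := fun Y hY => isConj_trans F hconj hY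
  have hPhℋ : ∀ Y, F.IsConj Phat Y → Y ∉ ℋ := fun Y hY => hP₀ℋ Y (hclass Y hY)
  have hfn : ∀ Y, F.IsConj Phat Y →
      Nat.card (normalizerIn S Y) ≤ Nat.card (normalizerIn S Phat) :=
    fun Y hY => hfn0 Y (hclass Y hY)
  have hbig' : ∀ R : Subgroup Ω, R ≤ S → Nat.card Phat < Nat.card R →
      ∃ R', F.IsConj R R' ∧ F.IsFullyAutomized p R' ∧ F.IsReceptive R' :=
    fun R hR h => hbig R hR (by omega)
  suffices h : ∃ 𝒪 : Subgroup (MulAut Phat), OData F p Phat 𝒪 ∧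
      (∀ Y, F.IsConj Phat Y → Good0 F Y Phat) by
    obtain ⟨𝒪, hO, hA⟩ := h
    obtain ⟨h1, h2⟩ := final hS ℋ hgen hO hPhS hPhℋ hbig' hA
    exact ⟨Phat, hconj, h1, h2⟩
  have hfinPh : Finite Phat := Cfsg.Agent.Lib.Helper87.FSSat.finite_of_le hPhS
  -- a member `Q` with an element `g'` of `N_S(Q)` outside `Q`
  obtain ⟨Q, hQ, g', hg'S, hg'N, hg'Q, hcase⟩ : ∃ Q, F.IsConj P₀ Q ∧ ∃ g', g' ∈ S ∧
      g' ∈ Subgroup.normalizer (Q : Set Ω) ∧ g' ∉ Q ∧ ((∀ x ∈ Q, x * g' = g' * x) ∨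
        (F.IsCentric P₀ ∧ ∃ α ∈ (pCore p ↥(F.autGroup Q)).map (F.autGroup Q).subtype,
          ∀ x : Q, ((α x : Q) : Ω) = g' * x * g'⁻¹)) := by
    by_cases hcen : F.IsCentric P₀
    · obtain ⟨Q, hQ, hnot⟩ := hstar hcen
      obtain ⟨α, hα, hαInn⟩ := SetLike.not_le_iff_exists.mp hnot
      obtain ⟨g', hg'S, hg'α⟩ := (mem_autInducedBy_iff _ _ _).1 hα.1
      refine ⟨Q, hQ, g', hg'S, Cfsg.Agent.Lib.Helper87.FSBasic.mem_normalizer_of_induces hg'α,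
        ?_, Or.inr ⟨hcen, α, hα.2, hg'α⟩⟩
      intro h
      apply hαInn
      refine ⟨⟨g', h⟩, ?_⟩
      ext x
      rw [hg'α]
      rfl
    · obtain ⟨Q, hQ, hnotcen⟩ : ∃ Q, F.IsConj P₀ Q ∧ ¬ centralizerIn S Q ≤ Q := by
        by_contra hcon
        exact hcen ⟨hP₀S, fun Q hQ => by_contra (fun h => hcon ⟨Q, hQ, h⟩)⟩
      obtain ⟨g', hg'C, hg'Q⟩ := SetLike.not_le_iff_exists.mp hnotcen
      have hg'cen : ∀ x ∈ Q, x * g' = g' * x := Subgroup.mem_centralizer_iff.mp hg'C.2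
      have hfinQ : Finite Q :=
        Cfsg.Agent.Lib.Helper87.FSSat.finite_of_le (isConj_le_right F hQ)
      refine ⟨Q, hQ, g', hg'C.1, ?_, hg'Q, Or.inl hg'cen⟩
      apply mem_normalizer_of_conj_mem
      intro y hy
      have : g' * y * g'⁻¹ = y := by rw [← hg'cen y hy]; group
      rw [this]
      exact hy
  have hQS : Q ≤ S := isConj_le_right F hQ
  have hcardQ : Nat.card P₀ = Nat.card Q := Cfsg.Agent.Lib.Helper88.FSBase.isConj_card F hQ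
  have hQlt : Nat.card Q < Nat.card S := card_lt_of_not_mem hQS hg'S hg'Q
  have hA := lemmaA hS F ℋ hgen hPhS hPhℋ (by omega) hfn hbig'
  have hQN : Q ≤ normalizerIn S Q := Cfsg.Agent.Lib.Helper87.FSSat.le_normalizerIn hQS
  obtain ⟨M, φ, hφ, hcφ⟩ := hA Q (isConj_trans F (isConj_symm F hconj) hQ)
  obtain ⟨e, hedef⟩ : ∃ e : Q ≃* Phat, e = hcφ.restrict hQN := ⟨_, rfl⟩
  have hex : ∀ x : Q, ((e x : Phat) : Ω) = φ ⟨x, hQN x.2⟩ := fun x => by rw [hedef]; rfl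
  have he : IsIso F e := hedef ▸ hcφ.isIso_restrict hφ hQN
  have hMN : M ≤ normalizerIn S Phat := by
    intro y hy
    have := hcφ.normalizer (φ.symm ⟨y, hy⟩) (φ.symm ⟨y, hy⟩).2.2
    rw [φ.apply_symm_apply] at this
    exact ⟨hφ.le_right hy, this⟩
  have hgnot : ((φ ⟨g', ⟨hg'S, hg'N⟩⟩ : M) : Ω) ∉ Phat := fun h =>
    hg'Q ((hcφ.iff ⟨g', ⟨hg'S, hg'N⟩⟩).1 h)
  -- conjugation by the image of `g'`
  have hconjg : ∀ x : Phat, ((φ ⟨g', ⟨hg'S, hg'N⟩⟩ : M) : Ω) * x *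
      ((φ ⟨g', ⟨hg'S, hg'N⟩⟩ : M) : Ω)⁻¹ = φ ⟨g' * ((e.symm x : Q) : Ω) * g'⁻¹,
        ⟨S.mul_mem (S.mul_mem hg'S (hQS (e.symm x).2)) (S.inv_mem hg'S),
          Subgroup.mul_mem _ (Subgroup.mul_mem _ hg'N (Subgroup.le_normalizer (e.symm x).2))
            (Subgroup.inv_mem _ hg'N)⟩⟩ := by
    intro x
    have h1 := hex (e.symm x)
    rw [e.apply_symm_apply] at h1
    have h2 : (⟨g' * ((e.symm x : Q) : Ω) * g'⁻¹,
        ⟨S.mul_mem (S.mul_mem hg'S (hQS (e.symm x).2)) (S.inv_mem hg'S),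
          Subgroup.mul_mem _ (Subgroup.mul_mem _ hg'N (Subgroup.le_normalizer (e.symm x).2))
            (Subgroup.inv_mem _ hg'N)⟩⟩ : normalizerIn S Q) =
        ⟨g', ⟨hg'S, hg'N⟩⟩ * ⟨((e.symm x : Q) : Ω), hQN (e.symm x).2⟩ * ⟨g', ⟨hg'S, hg'N⟩⟩⁻¹ :=
      Subtype.ext rfl
    rw [h2, map_mul, map_mul, map_inv]
    simp only [Subgroup.coe_mul, Subgroup.coe_inv]
    rw [← h1]
  rcases hcase with hg'cen | ⟨hcen, α, hαp, hg'α⟩
  · -- the non-centric case: inner automorphisms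
    refine ⟨autInducedBy Phat Phat, ⟨?_, ?_, ?_, ?_⟩, hA⟩
    · intro y hy
      exact ⟨MulAut.conj (⟨y, hy⟩ : Phat), (mem_autInducedBy_iff _ _ _).2 ⟨y, hy, fun x => rfl⟩,
        fun x => rfl⟩
    · intro α' _ a ha
      obtain ⟨y, hy, hya⟩ := (mem_autInducedBy_iff _ _ _).1 ha
      rw [mem_autInducedBy_iff]
      refine ⟨((α' ⟨y, hy⟩ : Phat) : Ω), (α' ⟨y, hy⟩).2, fun x => ?_⟩
      show ((α' (a (α'⁻¹ x)) : Phat) : Ω) = _
      have h1 : a (α'⁻¹ x) = ⟨y, hy⟩ * α'⁻¹ x * ⟨y, hy⟩⁻¹ := Subtype.ext (hya _)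
      rw [h1, map_mul, map_mul, map_inv, MulAut.apply_inv_self]
      rfl
    · left
      intro a ha
      exact (mem_autInducedBy_iff _ _ _).1 ha
    · refine ⟨_, ⟨hMN (φ ⟨g', ⟨hg'S, hg'N⟩⟩).2, 1, Subgroup.one_mem _, fun x => ?_⟩, hgnot⟩
      rw [hconjg x]
      have h1 := hex (e.symm x)
      rw [e.apply_symm_apply] at h1
      show (x : Ω) = _
      rw [h1]
      congr 2
      apply Subtype.ext
      show ((e.symm x : Q) : Ω) = g' * ((e.symm x : Q) : Ω) * g'⁻¹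
      rw [← hg'cen _ (e.symm x).2]
      group
  · -- the centric case: the transported `p`-core
    refine ⟨((pCore p ↥(F.autGroup Q)).map (F.autGroup Q).subtype).map
      (MulAut.congr e).toMonoidHom, ⟨?_, ?_, ?_, ?_⟩, hA⟩
    · intro y hy
      have hInn : (Inn Q).subgroupOf (F.autGroup Q) ≤ pCore p ↥(F.autGroup Q) := by
        apply le_pCore p (Subgroup.Normal.subgroupOf (innNormal Q) _)
        have h1 : IsPGroup p (Inn Q) := (hS.to_le hQS).of_surjective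
          (MulAut.conj : Q →* MulAut Q).rangeRestrict (MonoidHom.rangeRestrict_surjective _)
        exact h1.comap_of_injective _ (Subgroup.subtype_injective _)
      have hcF : MulAut.conj (e.symm ⟨y, hy⟩) ∈ F.autGroup Q := by
        apply Cfsg.Agent.Lib.Helper87.FSBasic.autInducedBy_le_autGroup F hQS
        rw [mem_autInducedBy_iff]
        exact ⟨_, hQS (e.symm ⟨y, hy⟩).2, fun x => rfl⟩
      refine ⟨MulAut.congr e (MulAut.conj (e.symm ⟨y, hy⟩)), ⟨_, ⟨⟨_, hcF⟩,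
        hInn (Subgroup.mem_subgroupOf.mpr ⟨_, rfl⟩), rfl⟩, rfl⟩, fun x => ?_⟩
      show ((e (e.symm ⟨y, hy⟩ * e.symm x * (e.symm ⟨y, hy⟩)⁻¹) : Phat) : Ω) = _
      rw [map_mul, map_mul, map_inv, e.apply_symm_apply, e.apply_symm_apply]
      rfl
    · rintro α' hα' _ ⟨_, ⟨b', hb', rfl⟩, rfl⟩
      have hα'Q : (MulAut.congr e).symm α' ∈ F.autGroup Q := by
        rw [mem_autGroup_iff_isIso F hQS]
        have h1 : IsIso F (e.trans ((α' : Phat ≃* Phat).trans e.symm)) :=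
          he.trans (((mem_autGroup_iff_isIso F hPhS α').1 hα').trans he.symm)
        exact h1
      have hconjmem := (pCore_normal p (G := ↥(F.autGroup Q))).conj_mem b' hb' ⟨_, hα'Q⟩
      refine ⟨_, ⟨_, hconjmem, rfl⟩, ?_⟩
      show MulAut.congr e ((MulAut.congr e).symm α' * (b' : MulAut Q) *
        ((MulAut.congr e).symm α')⁻¹) = _
      rw [map_mul, map_mul, map_inv, MulEquiv.apply_symm_apply]
      rfl
    · right
      exact ⟨((pCore_isPGroup p).map _).map _, hcen.2 Phat hconj⟩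
    · refine ⟨_, ⟨hMN (φ ⟨g', ⟨hg'S, hg'N⟩⟩).2, MulAut.congr e α, ⟨α, hαp, rfl⟩, fun x => ?_⟩,
        hgnot⟩
      rw [hconjg x]
      show ((e (α (e.symm x)) : Phat) : Ω) = _
      rw [hex]
      congr 2
      exact Subtype.ext (hg'α _)

end main

end Cfsg.Agent.Lib.Helper88.GenFin
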