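import Mathlib
import Cfsg.Prelude.Def_FusionSystem
import Cfsg.Prelude.Def_FusionComponents
import Cfsg.Agent.H85.PrimeIdx
import Cfsg.Agent.S5110
import Cfsg.Agent.Lib.Helper88.PResStmt
import Cfsg.Agent.Lib.Helper88.PResMIN
import Cfsg.Agent.Lib.Helper88.PResGEN
import Cfsg.Agent.Lib.Helper47.PResEXT
import Cfsg.Agent.Lib.Helper63.PResSATC
import Cfsg.Agent.Lib.Helper88.WNStmt

/-! Assembly of S5141 from its pieces. -/

set_option autoImplicit false

namespace Cfsg.Agent.Lib.Helper88.WNAsm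

open Cfsg Cfsg.FusionSystem Cfsg.Agent.Lib.Helper88.PResStmt Cfsg.Agent.Lib.Helper88.WNStmt

universe u

/-- `resSys p E` is a `p'`-residual subsystem of the saturated `E`. -/
theorem resSys_residual {Ω : Type u} [Group Ω] {T : Subgroup Ω} [Finite T] (p : ℕ)
    [Fact p.Prime] (hT : IsPGroup p T) (E : FusionSystem T) (hE : E.IsSaturated p) :
    E.IsPPrimeResidual p (resSys p E) := by
  have hcl := closed_resSys p E
  have hle := resSys_le p E
  obtain ⟨hidx, -, hcen⟩ := H85.primeIdx_main p hT E hE (resSys p E) hle hcl.1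
  refine ⟨?_, hidx, fun D hD hDF => resSys_min p E (PResMIN.main p hT E hE D hD hDF)⟩
  refine Cfsg.Agent.S5110.result p hT (resSys p E) {P | E.IsCentric P} (fun P hP => hP.1)
    ?_ ?_ ?_ ?_
  · intro P hP Q hPQ
    obtain ⟨φ, hφ, hφQ⟩ := hPQ
    exact H85.isCentric_of_isConj E hP ⟨φ, hle P hφ, hφQ⟩
  · intro P hP
    exact Cfsg.Agent.Lib.Helper63.PResSATC.main p hT E hE (resSys p E) hle hcl
      (Cfsg.Agent.Lib.Helper47.PResEXT.main p hT E hE (resSys p E) hle hcl) P hP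
  · intro E' hE'
    exact PResGEN.main p hT E hE E' hE'
  · intro P hPc hPn
    exact absurd ((hcen P).mp hPc) hPn

theorem assembly (hGS : GoodSys.{u}) (hC1 : PGood.{u}) (hUp : GoodUp.{u})
    (hInv : ResInvariant.{u}) (hXC : ExtClause.{u})
    {Ω : Type u} [Group Ω] {S : Subgroup Ω} [Finite S] (p : ℕ) [Fact p.Prime]
    (hS : IsPGroup p S) (F : Cfsg.FusionSystem S) (hF : F.IsSaturated p) {T : Subgroup Ω}
    (E : Cfsg.FusionSystem T) (hE : E.IsWeaklyNormalIn F p) (D : Cfsg.FusionSystem T)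
    (hD : E.IsPPrimeResidual p D) : D.IsNormalIn F p := by
  have hE' := hE
  obtain ⟨hEsat, -, hEF, hTcl, hEinv, hEfrat⟩ := hE
  have hTS : T ≤ S := hTcl.1
  have hfin : Finite T := H85.finite_of_le hTS
  have hT : IsPGroup p T := hS.to_le hTS
  have hres := resSys_residual p hT E hEsat
  have hDR : D.IsSubsystemOf (resSys p E) := hD.2.2 _ hres.1 hres.2.1
  have hRD : (resSys p E).IsSubsystemOf D := hres.2.2 D hD.1 hD.2.1
  have hDE : D.IsSubsystemOf E := hD.2.1.1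
  obtain ⟨X, hX⟩ := hGS hTS F E
  have hXcl : Closed p E X := by
    refine ⟨fun P hP => ?_, fun α hα P hP h => ?_⟩
    · rw [Subgroup.map_le_iff_le_comap, Subgroup.closure_le]
      rintro a ⟨k, hk⟩
      show (a : MulAut P) ∈ X.autGroup P
      rw [H85.mem_autGroup_iff X hP.1, hX]
      refine ⟨(H85.mem_autGroup_iff E hP.1 _).mp a.2, fun _ =>
        hC1 p hS F hF E hE' P hP a a.2 k ?_⟩
      rw [Subgroup.orderOf_coe]; exact hk
    · rw [H85.mem_autGroup_iff X le_rfl, hX]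
      exact ⟨(H85.mem_autGroup_iff E le_rfl α).mp hα, fun _ =>
        hUp p hS F hF E hE' α hα P hP (((hX P _).mp h).2 hP)⟩
  have hRX := resSys_min p E hXcl
  refine ⟨⟨hD.1, hF, fun P φ h => hEF P (hDE P h), hTcl, ?_, ?_⟩, ?_⟩
  · intro P hPT φ hφ α hα
    obtain ⟨χ, hχ, h⟩ := hInv p hS F hF E hE' P hPT φ (hDR P hφ) α hα
    exact ⟨χ, hRD _ hχ, h⟩
  · intro P hPT φ hφ
    obtain ⟨α, hα, φ₀, hφ₀, h⟩ := hEfrat P hPT φ hφ
    obtain ⟨-, hfr, -⟩ := H85.primeIdx_main p hT E hEsat D hDE (fun P hP => hD.2.1.2 P hP.1)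
    obtain ⟨β, hβ, φ₁, hφ₁, h1⟩ := hfr P φ₀ hφ₀
    have hβF : β ∈ F.autGroup T :=
      (H85.mem_autGroup_iff F hTS β).mpr (hEF T ((H85.mem_autGroup_iff E le_rfl β).mp hβ))
    refine ⟨α * β, (F.autGroup T).mul_mem hα hβF, φ₁, hφ₁, fun x hx => ?_⟩
    have hφ₀T : φ₀ x ∈ T := (E.le_of_mem hφ₀).2 x
    rw [h x hφ₀T]
    have e : (⟨φ₀ x, hφ₀T⟩ : T) = β ⟨φ₁ x, hx⟩ := Subtype.ext (h1 x hx)
    rw [e]
    rfl
  · intro α hα
    have h1 : T.subtype.comp α.toMonoidHom ∈ X.Hom T :=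
      hRX T (hDR T ((H85.mem_autGroup_iff D le_rfl α).mp hα))
    exact hXC F T hTS α (((hX T _).mp h1).2 (PResGEN.isCentric_self E))

end Cfsg.Agent.Lib.Helper88.WNAsm
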