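import Mathlib
import Cfsg.Prelude.Def_FusionSystem
import Cfsg.Prelude.Def_FusionComponents
import Cfsg.Agent.H85.Basic
import Cfsg.Agent.H85.Aut
import Cfsg.Agent.H85.Sat
import Cfsg.Agent.Lib.Helper88.PResGEN
import Cfsg.Agent.Lib.Helper88.WNStmt

/-! Piece IND of S5141: an element of `Aut_E(T)` that is good on some `E`-centric subgroup is
good. -/

set_option autoImplicit false

namespace Cfsg.Agent.Lib.Helper88.WNIND

open Cfsg Cfsg.FusionSystem Cfsg.Agent.Lib.Helper88.PResStmt Cfsg.Agent.Lib.Helper88.WNStmt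

universe u

theorem main (hGS : GoodSys.{u}) (hC1 : PGood.{u}) (hStep : GoodStep.{u}) : GoodUp.{u} := by
  intro Ω _ S _ p hp hS F hF T E hE
  have hE' := hE
  obtain ⟨-, -, -, hTcl, -, -⟩ := hE
  have hTS := hTcl.1
  have hfinT : Finite T := H85.finite_of_le hTS
  obtain ⟨X, hX⟩ := hGS hTS F E
  have hcT : E.IsCentric T := PResGEN.isCentric_self E
  have hXT : ∀ α : MulAut T, α ∈ X.autGroup T ↔
      α ∈ E.autGroup T ∧ GoodExt F T (T.subtype.comp α.toMonoidHom) := by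
    intro α
    rw [H85.mem_autGroup_iff X le_rfl, hX, H85.mem_autGroup_iff E le_rfl]
    exact ⟨fun h => ⟨h.1, h.2 hcT⟩, fun h => ⟨h.1, fun _ => h.2⟩⟩
  -- the case `P = T`
  have hbase : ∀ (α : MulAut T), α ∈ E.autGroup T → ∀ (P : Subgroup Ω) (hP : E.IsCentric P),
      P = T → GoodExt F T (resAut α P hP.1) → α ∈ X.autGroup T := by
    intro α hα P hP hPT hg
    rw [hXT]
    refine ⟨hα, ?_⟩
    subst hPT
    obtain ⟨ψ, hψ, h1, h2⟩ := hg
    exact ⟨ψ, hψ, fun x => h1 x, h2⟩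
  obtain ⟨n, hn⟩ := IsPGroup.exists_card_eq hS
  -- the final step: `α ^ |S|` good implies `α` good
  have hfinal : ∀ (α : MulAut T), α ∈ E.autGroup T → α ^ Nat.card S ∈ X.autGroup T →
      α ∈ X.autGroup T := by
    intro α hα hαj
    have ho : orderOf α ≠ 0 := (orderOf_pos α).ne'
    obtain ⟨a, m, hm, hom⟩ := Nat.exists_eq_pow_mul_and_not_dvd ho p hp.out.ne_one
    -- `α ^ m` has `p`-power order
    have hβE : α ^ m ∈ E.autGroup T := Subgroup.pow_mem _ hα _
    have hβpow : (α ^ m) ^ (p ^ a) = 1 := by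
      rw [← pow_mul, mul_comm, ← hom, pow_orderOf_eq_one]
    obtain ⟨k, -, hk⟩ := (Nat.dvd_prime_pow hp.out).mp (orderOf_dvd_of_pow_eq_one hβpow)
    have hβX : α ^ m ∈ X.autGroup T :=
      (hXT _).mpr ⟨hβE, hC1 p hS F hF E hE' T hcT (α ^ m) hβE k hk⟩
    have hcop : Nat.Coprime (p ^ n) m :=
      Nat.Coprime.pow_left n ((Nat.Prime.coprime_iff_not_dvd hp.out).mpr hm)
    have hbez := Int.gcd_eq_gcd_ab ((p ^ n : ℕ) : ℤ) (m : ℤ)
    have hg1 : Int.gcd ((p ^ n : ℕ) : ℤ) (m : ℤ) = 1 := by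
      rw [Int.gcd_natCast_natCast]; exact hcop
    rw [hg1] at hbez
    have e : α = (α ^ (p ^ n)) ^ (Int.gcdA ((p ^ n : ℕ) : ℤ) (m : ℤ)) *
        (α ^ m) ^ (Int.gcdB ((p ^ n : ℕ) : ℤ) (m : ℤ)) := by
      rw [← zpow_natCast α (p ^ n), ← zpow_natCast α m, ← zpow_mul, ← zpow_mul, ← zpow_add,
        ← hbez]
      simp
    rw [e]
    rw [hn] at hαj
    exact Subgroup.mul_mem _ (Subgroup.zpow_mem _ hαj _) (Subgroup.zpow_mem _ hβX _)
  -- induction
  have key : ∀ k : ℕ, ∀ (α : MulAut T), α ∈ E.autGroup T → ∀ (P : Subgroup Ω)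
      (hP : E.IsCentric P), Nat.card T - Nat.card P ≤ k → GoodExt F T (resAut α P hP.1) →
      α ∈ X.autGroup T := by
    intro k
    induction k with
    | zero =>
      intro α hα P hP hk hg
      have hPT : P = T := Subgroup.eq_of_le_of_card_ge hP.1 (by omega)
      exact hbase α hα P hP hPT hg
    | succ k ih =>
      intro α hα P hP hk hg
      by_cases hPT : P = T
      · exact hbase α hα P hP hPT hg
      · obtain ⟨N, hN, hlt, hgN⟩ := hStep p hS F hF E hE' α hα P hP hPT hg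
        have hNle : Nat.card N ≤ Nat.card T := Subgroup.card_le_of_le hN.1
        have h1 : α ^ Nat.card S ∈ X.autGroup T :=
          ih _ (Subgroup.pow_mem _ hα _) N hN (by omega) hgN
        exact hfinal α hα h1
  intro α hα P hP hg
  exact ((hXT α).mp (key _ α hα P hP le_rfl hg)).2

end Cfsg.Agent.Lib.Helper88.WNIND
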