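import Mathlib
import Cfsg.Prelude.Def_FusionSystem
import Cfsg.Prelude.Def_FusionComponents
import Cfsg.Agent.H85.Basic
import Cfsg.Agent.H85.Aut
import Cfsg.Agent.H85.Sat
import Cfsg.Agent.H85.FullyNorm
import Cfsg.Agent.Lib.Helper88.WNStmt

/-! Piece XC of S5141: the extender condition. -/

set_option autoImplicit false

namespace Cfsg.Agent.Lib.Helper88.WNXC

open Cfsg Cfsg.FusionSystem Cfsg.Agent.Lib.Helper88.WNStmt

universe u

variable {Ω : Type*} [Group Ω] {S : Subgroup Ω}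

/-- For `P ≤ T` the elements of `P ⊔ C_S(T)` are the products `x c`. -/
theorem mem_sup_cent {T P : Subgroup Ω} (hPT : P ≤ T) {y : Ω}
    (hy : y ∈ P ⊔ centralizerIn S T) : ∃ x ∈ P, ∃ c ∈ centralizerIn S T, y = x * c := by
  have hcomm : ∀ x ∈ P, ∀ c ∈ centralizerIn S T, x * c = c * x := fun x hx c hc =>
    (Subgroup.mem_centralizer_iff.mp hc.2) x (hPT hx)
  let M : Subgroup Ω :=
    { carrier := {y | ∃ x ∈ P, ∃ c ∈ centralizerIn S T, y = x * c}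
      one_mem' := ⟨1, P.one_mem, 1, Subgroup.one_mem _, by simp⟩
      mul_mem' := by
        rintro _ _ ⟨x, hx, c, hc, rfl⟩ ⟨x', hx', c', hc', rfl⟩
        refine ⟨x * x', P.mul_mem hx hx', c * c', Subgroup.mul_mem _ hc hc', ?_⟩
        have e := hcomm x' hx' c hc
        calc x * c * (x' * c') = x * (c * x') * c' := by group
          _ = x * (x' * c) * c' := by rw [e]
          _ = x * x' * (c * c') := by group
      inv_mem' := by
        rintro _ ⟨x, hx, c, hc, rfl⟩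
        refine ⟨x⁻¹, P.inv_mem hx, c⁻¹, Subgroup.inv_mem _ hc, ?_⟩
        have e := hcomm x⁻¹ (P.inv_mem hx) c⁻¹ (Subgroup.inv_mem _ hc)
        rw [mul_inv_rev, e] }
  have hle : P ⊔ centralizerIn S T ≤ M :=
    sup_le (fun x hx => ⟨x, hx, 1, Subgroup.one_mem _, by simp⟩)
      (fun c hc => ⟨1, P.one_mem, c, hc, by simp⟩)
  exact hle hy

theorem main (h : WSyl.{u}) : ExtCond.{u} := by
  intro Ω _ S _ p _ hS F hF T E hE P hP θ hθ hθP hθR R' hfa ψ hψ hψR g hg g' hg' hψg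
  obtain ⟨-, -, -, hTcl, -, -⟩ := hE
  have hTS : T ≤ S := hTcl.1
  have hPT : P ≤ T := hP.1
  have hcen : centralizerIn T P ≤ P := hP.2 P (H85.isConj_refl E hPT)
  have hRS : P ⊔ centralizerIn S T ≤ S := sup_le (hPT.trans hTS) inf_le_left
  have hfinR : Finite ↥(P ⊔ centralizerIn S T) := H85.finite_of_le hRS
  have hcomm : ∀ x ∈ T, ∀ c ∈ centralizerIn S T, x * c = c * x := fun x hx c hc =>
    (Subgroup.mem_centralizer_iff.mp hc.2) x hx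
  have hPR : P ≤ P ⊔ centralizerIn S T := le_sup_left
  have hCR : centralizerIn S T ≤ P ⊔ centralizerIn S T := le_sup_right
  -- elements of `N_T(P)` normalize `R`
  have hnorm : ∀ k ∈ normalizerIn T P, ∀ y ∈ P ⊔ centralizerIn S T,
      k * y * k⁻¹ ∈ P ⊔ centralizerIn S T := by
    intro k hk y hy
    obtain ⟨x, hx, c, hc, rfl⟩ := mem_sup_cent hPT hy
    have e : k * (x * c) * k⁻¹ = (k * x * k⁻¹) * c := by
      have e1 := hcomm k⁻¹ (T.inv_mem hk.1) c hc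
      calc k * (x * c) * k⁻¹ = k * x * (c * k⁻¹) := by group
        _ = k * x * (k⁻¹ * c) := by rw [e1]
        _ = (k * x * k⁻¹) * c := by group
    rw [e]
    exact Subgroup.mul_mem _ (hPR ((Subgroup.mem_normalizer_iff.mp hk.2 x).mp hx)) (hCR hc)
  have hgi : g⁻¹ ∈ normalizerIn T P := Subgroup.inv_mem _ hg
  have hgR : g ∈ Subgroup.normalizer ((P ⊔ centralizerIn S T : Subgroup Ω) : Set Ω) := by
    refine H85.mem_normalizer_of_forall (hnorm g hg) (fun y hy => ?_)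
    have := hnorm g⁻¹ hgi y hy
    rwa [inv_inv] at this
  have hgS : g ∈ S := hTS hg.1
  -- the automorphism `θ` of `R`
  have hθinj : Function.Injective θ := F.injective_of_mem hθ
  have hθcinj : Function.Injective (θ.codRestrict _ hθR) := by
    intro a b hab
    exact hθinj (congrArg Subtype.val hab)
  let θe : MulAut ↥(P ⊔ centralizerIn S T) :=
    MulEquiv.ofBijective (θ.codRestrict _ hθR)
      ⟨hθcinj, Finite.injective_iff_surjective.mp hθcinj⟩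
  have hθe : ∀ y, ((θe y : ↥(P ⊔ centralizerIn S T)) : Ω) = θ y := fun y => rfl
  have hθeF : θe ∈ F.autGroup (P ⊔ centralizerIn S T) :=
    (H85.mem_autGroup_iff F hRS θe).mpr (H85.hom_congr F hθ (fun y => rfl))
  -- conjugation by `g` on `R`
  let cg : MulAut ↥(P ⊔ centralizerIn S T) :=
    Subgroup.normalizerMonoidHom (P ⊔ centralizerIn S T) ⟨g, hgR⟩
  have hcg : ∀ y, ((cg y : ↥(P ⊔ centralizerIn S T)) : Ω) = g * y * g⁻¹ := fun y => rfl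
  have hcgi : ∀ y, ((cg⁻¹ y : ↥(P ⊔ centralizerIn S T)) : Ω) = g⁻¹ * y * g := by
    intro y
    have e : cg⁻¹ = Subgroup.normalizerMonoidHom (P ⊔ centralizerIn S T) (⟨g, hgR⟩)⁻¹ :=
      (map_inv _ _).symm
    rw [e]
    show (g⁻¹ : Ω) * y * (g⁻¹)⁻¹ = _
    rw [inv_inv]
  have hcgF : cg ∈ F.autGroup (P ⊔ centralizerIn S T) :=
    H85.autInducedBy_le_autGroup F hRS
      ((H85.mem_autInducedBy_iff S _ cg).mpr ⟨g, hgS, fun y => rfl⟩)
  let ξ : MulAut ↥(P ⊔ centralizerIn S T) := θe * cg * θe⁻¹ * cg⁻¹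
  have hξF : ξ ∈ F.autGroup (P ⊔ centralizerIn S T) :=
    Subgroup.mul_mem _ (Subgroup.mul_mem _ (Subgroup.mul_mem _ hθeF hcgF)
      (Subgroup.inv_mem _ hθeF)) (Subgroup.inv_mem _ hcgF)
  have hξ : ∀ y, ξ y = θe (cg (θe⁻¹ (cg⁻¹ y))) := fun y => rfl
  -- `θe` fixes `P` pointwise
  have hθeP : ∀ (x : ↥(P ⊔ centralizerIn S T)), (x : Ω) ∈ P → θe x = x := by
    intro x hx
    apply Subtype.ext
    rw [hθe]
    have := hθP ⟨x, hx⟩
    exact this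
  have hθeiP : ∀ (x : ↥(P ⊔ centralizerIn S T)), (x : Ω) ∈ P → θe⁻¹ x = x := by
    intro x hx
    have := hθeP x hx
    calc θe⁻¹ x = θe⁻¹ (θe x) := by rw [this]
      _ = x := by simp
  -- `ξ` fixes `P` pointwise
  have hξP : ∀ (x : ↥(P ⊔ centralizerIn S T)), (x : Ω) ∈ P → ξ x = x := by
    intro x hx
    have h1 : ((cg⁻¹ x : ↥(P ⊔ centralizerIn S T)) : Ω) ∈ P := by
      rw [hcgi]
      exact (Subgroup.mem_normalizer_iff''.mp hg.2 x).mp hx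
    rw [hξ, hθeiP _ h1]
    have h2 : cg (cg⁻¹ x) = x := by simp
    rw [h2, hθeP x hx]
  -- the key formula
  have hkey : ∀ y : ↥(P ⊔ centralizerIn S T), ∃ w ∈ P, (∀ q ∈ P, w * q = q * w) ∧
      ((ξ y : ↥(P ⊔ centralizerIn S T)) : Ω) = y * w := by
    intro y
    obtain ⟨x₀, hx₀, c₀, hc₀, hy⟩ := mem_sup_cent hPT y.2
    -- `u₀ = θ⁻¹(c₀)`
    obtain ⟨x', hx', c', hc', hu⟩ := mem_sup_cent hPT (θe⁻¹ ⟨c₀, hCR hc₀⟩).2
    have hθu : θe (θe⁻¹ ⟨c₀, hCR hc₀⟩) = ⟨c₀, hCR hc₀⟩ := by simp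
    -- `θ(c') = x'⁻¹ c₀`
    have hx'c' : (⟨x', hPR hx'⟩ : ↥(P ⊔ centralizerIn S T)) * ⟨c', hCR hc'⟩ =
        θe⁻¹ ⟨c₀, hCR hc₀⟩ := Subtype.ext hu.symm
    have hθc' : ((θe ⟨c', hCR hc'⟩ : ↥(P ⊔ centralizerIn S T)) : Ω) = x'⁻¹ * c₀ := by
      have h1 : θe (⟨x', hPR hx'⟩ * ⟨c', hCR hc'⟩) = ⟨c₀, hCR hc₀⟩ := by rw [hx'c', hθu]
      rw [map_mul, hθeP ⟨x', hPR hx'⟩ hx'] at h1
      have h2 := congrArg Subtype.val h1
      have h3 : x' * ((θe ⟨c', hCR hc'⟩ : ↥(P ⊔ centralizerIn S T)) : Ω) = c₀ := h2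
      rw [← h3]; group
    -- `x'` is central in `P`
    have hx'Z : ∀ q ∈ P, x' * q = q * x' := by
      intro q hq
      -- u₀ q u₀⁻¹ = q since θ(u₀ q u₀⁻¹) = c₀ q c₀⁻¹ = q
      have h1 : θe (θe⁻¹ ⟨c₀, hCR hc₀⟩ * ⟨q, hPR hq⟩ * (θe⁻¹ ⟨c₀, hCR hc₀⟩)⁻¹) =
          θe ⟨q, hPR hq⟩ := by
        rw [map_mul, map_mul, map_inv, hθu, hθeP ⟨q, hPR hq⟩ hq]
        apply Subtype.ext
        show c₀ * q * c₀⁻¹ = q
        rw [← hcomm q (hPT hq) c₀ hc₀]; group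
      have h2 := θe.injective h1
      have h3 : (x' * c') * q * (x' * c')⁻¹ = q := by
        have := congrArg Subtype.val h2
        rw [← hx'c'] at this
        exact this
      have h4 : c' * q = q * c' := (hcomm q (hPT hq) c' hc').symm
      have h5 : (x' * c') * q * (x' * c')⁻¹ = x' * q * x'⁻¹ := by
        calc (x' * c') * q * (x' * c')⁻¹ = x' * (c' * q) * c'⁻¹ * x'⁻¹ := by group
          _ = x' * (q * c') * c'⁻¹ * x'⁻¹ := by rw [h4]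
          _ = x' * q * x'⁻¹ := by group
      rw [h5] at h3
      calc x' * q = (x' * q * x'⁻¹) * x' := by group
        _ = q * x' := by rw [h3]
    -- the element `w`
    have hgx' : g * x' * g⁻¹ ∈ P := (Subgroup.mem_normalizer_iff.mp hg.2 x').mp hx'
    have hgx'Z : ∀ q ∈ P, (g * x' * g⁻¹) * q = q * (g * x' * g⁻¹) := by
      intro q hq
      have hq' : g⁻¹ * q * g ∈ P := (Subgroup.mem_normalizer_iff''.mp hg.2 q).mp hq
      have := hx'Z _ hq'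
      calc (g * x' * g⁻¹) * q = g * (x' * (g⁻¹ * q * g)) * g⁻¹ := by group
        _ = g * ((g⁻¹ * q * g) * x') * g⁻¹ := by rw [this]
        _ = q * (g * x' * g⁻¹) := by group
    refine ⟨g * x' * g⁻¹ * x'⁻¹, P.mul_mem hgx' (P.inv_mem hx'), fun q hq => ?_, ?_⟩
    · have h1 := hgx'Z q hq
      have h2 := hx'Z q hq
      have h3 : x'⁻¹ * q = q * x'⁻¹ := by
        calc x'⁻¹ * q = x'⁻¹ * (q * x') * x'⁻¹ := by group
          _ = x'⁻¹ * (x' * q) * x'⁻¹ := by rw [h2]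
          _ = q * x'⁻¹ := by group
      calc g * x' * g⁻¹ * x'⁻¹ * q = g * x' * g⁻¹ * (x'⁻¹ * q) := by group
        _ = g * x' * g⁻¹ * (q * x'⁻¹) := by rw [h3]
        _ = (g * x' * g⁻¹ * q) * x'⁻¹ := by group
        _ = (q * (g * x' * g⁻¹)) * x'⁻¹ := by rw [h1]
        _ = q * (g * x' * g⁻¹ * x'⁻¹) := by group
    · -- compute `ξ y`
      have hx₀g : g⁻¹ * x₀ * g ∈ P := (Subgroup.mem_normalizer_iff''.mp hg.2 x₀).mp hx₀
      -- `cg⁻¹ y = (g⁻¹ x₀ g) c₀`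
      have e1 : cg⁻¹ y = ⟨g⁻¹ * x₀ * g, hPR hx₀g⟩ * ⟨c₀, hCR hc₀⟩ := by
        apply Subtype.ext
        rw [hcgi, hy]
        show g⁻¹ * (x₀ * c₀) * g = g⁻¹ * x₀ * g * c₀
        have := hcomm g hg.1 c₀ hc₀
        calc g⁻¹ * (x₀ * c₀) * g = g⁻¹ * x₀ * (c₀ * g) := by group
          _ = g⁻¹ * x₀ * (g * c₀) := by rw [this]
          _ = g⁻¹ * x₀ * g * c₀ := by group
      -- `θe⁻¹ (cg⁻¹ y) = (g⁻¹ x₀ g) u₀`
      have e2 : θe⁻¹ (cg⁻¹ y) = ⟨g⁻¹ * x₀ * g, hPR hx₀g⟩ * θe⁻¹ ⟨c₀, hCR hc₀⟩ := by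
        rw [e1, map_mul, hθeiP _ hx₀g]
      -- `cg (...) = x₀ (g x' g⁻¹) c'`
      have e3 : cg (θe⁻¹ (cg⁻¹ y)) =
          ⟨x₀, hPR hx₀⟩ * ⟨g * x' * g⁻¹, hPR hgx'⟩ * ⟨c', hCR hc'⟩ := by
        apply Subtype.ext
        rw [hcg, e2, ← hx'c']
        show g * (g⁻¹ * x₀ * g * (x' * c')) * g⁻¹ = x₀ * (g * x' * g⁻¹) * c'
        have := hcomm g⁻¹ (T.inv_mem hg.1) c' hc'
        calc g * (g⁻¹ * x₀ * g * (x' * c')) * g⁻¹ = x₀ * g * x' * (c' * g⁻¹) := by group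
          _ = x₀ * g * x' * (g⁻¹ * c') := by rw [this]
          _ = x₀ * (g * x' * g⁻¹) * c' := by group
      rw [hξ, e3, map_mul, map_mul, hθeP _ hx₀, hθeP _ hgx']
      show x₀ * (g * x' * g⁻¹) * ((θe ⟨c', hCR hc'⟩ : ↥(P ⊔ centralizerIn S T)) : Ω) = _
      rw [hθc', hy]
      have hw : g * x' * g⁻¹ * x'⁻¹ ∈ T := hPT (P.mul_mem hgx' (P.inv_mem hx'))
      have := hcomm _ hw c₀ hc₀
      calc x₀ * (g * x' * g⁻¹) * (x'⁻¹ * c₀) = x₀ * ((g * x' * g⁻¹ * x'⁻¹) * c₀) := by group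
        _ = x₀ * (c₀ * (g * x' * g⁻¹ * x'⁻¹)) := by rw [this]
        _ = x₀ * c₀ * (g * x' * g⁻¹ * x'⁻¹) := by group
  -- elements of `R ∩ T` lie in `P`
  have hRT : ∀ y ∈ P ⊔ centralizerIn S T, y ∈ T → y ∈ P := by
    intro y hy hyT
    obtain ⟨x, hx, c, hc, rfl⟩ := mem_sup_cent hPT hy
    have hcT : c ∈ T := by
      have : c = x⁻¹ * (x * c) := by group
      rw [this]
      exact T.mul_mem (T.inv_mem (hPT hx)) hyT
    have hcP : c ∈ P := hcen ⟨hcT, Subgroup.mem_centralizer_iff.mpr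
      (fun q hq => hcomm q (hPT hq) c hc)⟩
    exact P.mul_mem hx hcP
  -- transport to `R'`
  let ψe : ↥(P ⊔ centralizerIn S T) ≃* R' := H85.isoOf F hψ hψR
  have hψe : ∀ y, ((ψe y : R') : Ω) = ψ y := fun y => rfl
  have hψeF : H85.IsIso F ψe := H85.isIso_isoOf F hψ hψR
  let ξ' : MulAut R' := MulAut.congr ψe ξ
  have hξ'F : ξ' ∈ F.autGroup R' := H85.congr_mem_autGroup F hψeF hξF
  have hξ' : ∀ y', ξ' y' = ψe (ξ (ψe.symm y')) := fun y' => rfl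
  have hR'S : R' ≤ S := hfa.1
  -- `ψ` maps `T` into `T` and back
  have hψT : ∀ y : ↥(P ⊔ centralizerIn S T), (y : Ω) ∈ T → ψ y ∈ T := by
    intro y hyT
    have hyP := hRT y y.2 hyT
    have := hTcl.2 P hPT _ (H85.restrict_mem F hψ hPR) ⟨y, hyP⟩
    exact this
  have hψTinv : ∀ y' : R', (y' : Ω) ∈ T → ((ψe.symm y' : ↥(P ⊔ centralizerIn S T)) : Ω) ∈ T := by
    intro y' hy'T
    have hsymm : H85.IsIso F ψe.symm := H85.isIso_symm F hψeF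
    have hle : R' ⊓ T ≤ R' := inf_le_left
    have := hTcl.2 (R' ⊓ T) inf_le_right _ (H85.restrict_mem F hsymm hle) ⟨y', ⟨y'.2, hy'T⟩⟩
    exact this
  obtain ⟨h₀, hh₀, hh₀ξ⟩ := h p hS F T hTcl R' hfa ξ' hξ'F (by
      intro x' hx'T
      have h1 := hψTinv x' hx'T
      have h2 := hRT _ (ψe.symm x').2 h1
      rw [hξ', hξP _ h2]
      simp) (by
      intro y'
      obtain ⟨w, hw, hwZ, hwy⟩ := hkey (ψe.symm y')
      have e1 : ξ (ψe.symm y') = ψe.symm y' * ⟨w, hPR hw⟩ := Subtype.ext hwy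
      have e2 : ξ' y' = y' * ψe ⟨w, hPR hw⟩ := by
        rw [hξ', e1, map_mul]; simp
      have e3 : (y' : Ω)⁻¹ * ((ξ' y' : R') : Ω) = ψ ⟨w, hPR hw⟩ := by
        rw [e2]
        show (y' : Ω)⁻¹ * ((y' : Ω) * ψ ⟨w, hPR hw⟩) = _
        group
      rw [e3]
      refine ⟨hψT ⟨w, hPR hw⟩ (hPT hw), fun x hxT => ?_⟩
      have h1 := hψTinv x hxT
      have h2 := hRT _ (ψe.symm x).2 h1
      have h3 := hwZ _ h2
      have h4 : (⟨w, hPR hw⟩ : ↥(P ⊔ centralizerIn S T)) * ψe.symm x =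
          ψe.symm x * ⟨w, hPR hw⟩ := Subtype.ext h3
      have h5 := congrArg ψe h4
      rw [map_mul, map_mul] at h5
      have h6 : ψe (ψe.symm x) = x := by simp
      rw [h6] at h5
      exact congrArg Subtype.val h5)
  refine ⟨h₀ * g', S.mul_mem hh₀ hg', fun y hy => ?_⟩
  -- `θ(g y g⁻¹) = ξ(g θ(y) g⁻¹)`
  have hu : g * (θ y) * g⁻¹ ∈ P ⊔ centralizerIn S T := hnorm g hg _ (hθR y)
  have e1 : (⟨θ ⟨g * (y : Ω) * g⁻¹, hy⟩, hθR _⟩ : ↥(P ⊔ centralizerIn S T)) =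
      ξ ⟨g * (θ y) * g⁻¹, hu⟩ := by
    have a1 : cg⁻¹ ⟨g * (θ y) * g⁻¹, hu⟩ = θe y := by
      apply Subtype.ext
      rw [hcgi, hθe]
      show g⁻¹ * (g * θ y * g⁻¹) * g = θ y
      group
    have a2 : θe⁻¹ (θe y) = y := by simp
    rw [hξ, a1, a2]
    apply Subtype.ext
    rw [hθe]
    rfl
  rw [e1]
  have e2 : ψ (ξ ⟨g * (θ y) * g⁻¹, hu⟩) = ((ξ' (ψe ⟨g * (θ y) * g⁻¹, hu⟩) : R') : Ω) := by
    rw [hξ']
    have : ψe.symm (ψe ⟨g * (θ y) * g⁻¹, hu⟩) = ⟨g * (θ y) * g⁻¹, hu⟩ := by simp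
    rw [this]
    rfl
  rw [e2, hh₀ξ, hψe]
  have e3 := hψg ⟨θ y, hθR y⟩ hu
  rw [e3]
  group

end Cfsg.Agent.Lib.Helper88.WNXC
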