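import Mathlib
import Cfsg.Prelude.Def_FusionSystem
import Cfsg.Prelude.Def_FusionComponents
import Cfsg.Agent.H85.Basic
import Cfsg.Agent.H85.Aut
import Cfsg.Agent.H85.Sat
import Cfsg.Agent.Lib.Helper87.FSSat
import Cfsg.Agent.Lib.Helper88.Centric
import Cfsg.Agent.Lib.Helper88.WNStmt
import Cfsg.Agent.Lib.Helper88.WNXC

/-! Piece STEP of S5141: if `α ∈ Aut_E(T)` is good on the `E`-centric subgroup `P ≠ T` then
`α ^ |S|` is good on `N_T(P)`. -/

set_option autoImplicit false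

namespace Cfsg.Agent.Lib.Helper88.WNSTEP

open Cfsg Cfsg.FusionSystem Cfsg.Agent.Lib.Helper88.PResStmt Cfsg.Agent.Lib.Helper88.WNStmt

universe u

theorem main (hA : AutExt.{u}) (hTE : ThetaExt.{u}) : GoodStep.{u} := by
  intro Ω _ S _ p hp hS F hF T E hE α hα P hP hPne hg
  have hE' := hE
  obtain ⟨-, -, hEF, hTcl, -, -⟩ := hE
  have hTS : T ≤ S := hTcl.1
  have hPT : P ≤ T := hP.1
  have hfinT : Finite T := H85.finite_of_le hTS
  have hcen : centralizerIn T P ≤ P := hP.2 P (H85.isConj_refl E hPT)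
  have hcomm : ∀ x ∈ T, ∀ c ∈ centralizerIn S T, x * c = c * x := fun x hx c hc =>
    (Subgroup.mem_centralizer_iff.mp hc.2) x hx
  have hRS : P ⊔ centralizerIn S T ≤ S := sup_le (hPT.trans hTS) inf_le_left
  have hTCS : T ⊔ centralizerIn S T ≤ S := sup_le hTS inf_le_left
  have hNT : normalizerIn T P ≤ T := inf_le_left
  have hN'TC : normalizerIn T P ⊔ centralizerIn S T ≤ T ⊔ centralizerIn S T :=
    sup_le_sup_right hNT _
  have hN'S := hN'TC.trans hTCS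
  have hPN : P ≤ normalizerIn T P := fun x hx => ⟨hPT hx, Subgroup.le_normalizer hx⟩
  have hCR : centralizerIn S T ≤ P ⊔ centralizerIn S T := le_sup_right
  have hPR : P ≤ P ⊔ centralizerIn S T := le_sup_left
  have hCTC : centralizerIn S T ≤ T ⊔ centralizerIn S T := le_sup_right
  have hCN' : centralizerIn S T ≤ normalizerIn T P ⊔ centralizerIn S T := le_sup_right
  have hNN' : normalizerIn T P ≤ normalizerIn T P ⊔ centralizerIn S T := le_sup_left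
  have hTTC : T ≤ T ⊔ centralizerIn S T := le_sup_left
  have hαE := (H85.mem_autGroup_iff E le_rfl α).mp hα
  have hαF : α ∈ F.autGroup T := (H85.mem_autGroup_iff F hTS α).mpr (hEF T hαE)
  obtain ⟨β, hβ, hβα⟩ := hA p hS F hF T hTcl α hαF
  obtain ⟨ρ, hρ, hρP, hρC⟩ := hg
  -- `β` on `T`
  have hβT : ∀ x : T, β (Subgroup.inclusion hTTC x) = Subgroup.inclusion hTTC (α x) :=
    fun x => Subtype.ext (hβα x)
  have hβiT : ∀ x : T, β⁻¹ (Subgroup.inclusion hTTC x) = Subgroup.inclusion hTTC (α⁻¹ x) := by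
    intro x
    have h1 := hβT (α⁻¹ x)
    have e : α (α⁻¹ x) = x := by simp
    rw [e] at h1
    rw [← h1]; simp
  have hβpow : ∀ (j : ℕ) (x : T),
      (β ^ j) (Subgroup.inclusion hTTC x) = Subgroup.inclusion hTTC ((α ^ j) x) := by
    intro j
    induction j with
    | zero => intro x; simp
    | succ j ih =>
      intro x
      rw [pow_succ, pow_succ, MulAut.mul_apply, MulAut.mul_apply, hβT, ih]
  -- `β⁻¹` preserves `C`
  have hβiC : ∀ c : ↥(T ⊔ centralizerIn S T), (c : Ω) ∈ centralizerIn S T →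
      ((β⁻¹ c : ↥(T ⊔ centralizerIn S T)) : Ω) ∈ centralizerIn S T := by
    intro c hc
    refine ⟨hTCS (β⁻¹ c).2, Subgroup.mem_centralizer_iff.mpr (fun t ht => ?_)⟩
    have hx' : β⁻¹ (Subgroup.inclusion hTTC (α ⟨t, ht⟩)) = Subgroup.inclusion hTTC ⟨t, ht⟩ := by
      rw [hβiT]; simp
    have h1 : Subgroup.inclusion hTTC (α ⟨t, ht⟩) * c = c * Subgroup.inclusion hTTC (α ⟨t, ht⟩) :=
      Subtype.ext (hcomm _ (α ⟨t, ht⟩).2 c hc)
    have h2 : β⁻¹ (Subgroup.inclusion hTTC (α ⟨t, ht⟩) * c) =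
        β⁻¹ (c * Subgroup.inclusion hTTC (α ⟨t, ht⟩)) := by rw [h1]
    rw [map_mul, map_mul, hx'] at h2
    exact congrArg Subtype.val h2
  -- `ρ` on `P` and on `C`
  have hρP' : ∀ x : P, ρ (Subgroup.inclusion le_sup_left x) = ((α ⟨x, hPT x.2⟩ : T) : Ω) :=
    fun x => hρP x
  have hρCP : ∀ c : ↥(P ⊔ centralizerIn S T), (c : Ω) ∈ centralizerIn S T →
      ∃ x₁ : P, ρ c = (c : Ω) * ((α ⟨x₁, hPT x₁.2⟩ : T) : Ω) := by
    intro c hc
    have hres : resAut α P hPT ∈ E.Hom P := H85.restrict_mem E hαE hPT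
    have hconj : E.IsConj P (resAut α P hPT).range := ⟨_, hres, rfl⟩
    have hle := hP.2 _ hconj
    have hmem : (c : Ω)⁻¹ * ρ c ∈ centralizerIn T (resAut α P hPT).range := by
      refine ⟨hρC c hc, Subgroup.mem_centralizer_iff.mpr ?_⟩
      rintro _ ⟨x, rfl⟩
      have ha : resAut α P hPT x = ρ (Subgroup.inclusion le_sup_left x) := (hρP' x).symm
      have haT : resAut α P hPT x ∈ T := (α ⟨x, hPT x.2⟩).2
      have h1 : (Subgroup.inclusion le_sup_left x : ↥(P ⊔ centralizerIn S T)) * c =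
          c * Subgroup.inclusion le_sup_left x := Subtype.ext (hcomm x (hPT x.2) c hc)
      have h2 := congrArg ρ h1
      rw [map_mul, map_mul, ← ha] at h2
      have h3 := hcomm _ haT c hc
      have h3' : resAut α P hPT x * (c : Ω)⁻¹ = (c : Ω)⁻¹ * resAut α P hPT x := by
        calc resAut α P hPT x * (c : Ω)⁻¹
            = (c : Ω)⁻¹ * ((c : Ω) * resAut α P hPT x) * (c : Ω)⁻¹ := by group
          _ = (c : Ω)⁻¹ * (resAut α P hPT x * (c : Ω)) * (c : Ω)⁻¹ := by rw [h3]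
          _ = (c : Ω)⁻¹ * resAut α P hPT x := by group
      calc resAut α P hPT x * ((c : Ω)⁻¹ * ρ c)
          = (resAut α P hPT x * (c : Ω)⁻¹) * ρ c := by group
        _ = (c : Ω)⁻¹ * resAut α P hPT x * ρ c := by rw [h3']
        _ = (c : Ω)⁻¹ * (resAut α P hPT x * ρ c) := by group
        _ = (c : Ω)⁻¹ * (ρ c * resAut α P hPT x) := by rw [h2]
        _ = (c : Ω)⁻¹ * ρ c * resAut α P hPT x := by group
    obtain ⟨x₁, hx₁⟩ := hle hmem
    refine ⟨x₁, ?_⟩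
    have e : ((α ⟨x₁, hPT x₁.2⟩ : T) : Ω) = (c : Ω)⁻¹ * ρ c := hx₁
    rw [e]; group
  have hρTC : ∀ y, ρ y ∈ T ⊔ centralizerIn S T := by
    intro y
    obtain ⟨x, hx, c, hc, hy⟩ := WNXC.mem_sup_cent hPT y.2
    have e : y = Subgroup.inclusion le_sup_left ⟨x, hx⟩ * ⟨c, hCR hc⟩ := Subtype.ext hy
    rw [e, map_mul, hρP']
    obtain ⟨x₁, hx₁⟩ := hρCP ⟨c, hCR hc⟩ hc
    rw [hx₁]
    exact Subgroup.mul_mem _ (hTTC (α _).2) (Subgroup.mul_mem _ (hCTC hc) (hTTC (α _).2))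
  -- the map `θ`
  have hβiF : (T ⊔ centralizerIn S T).subtype.comp (β⁻¹).toMonoidHom ∈
      F.Hom (T ⊔ centralizerIn S T) :=
    (H85.mem_autGroup_iff F hTCS β⁻¹).mp (Subgroup.inv_mem _ hβ)
  obtain ⟨θ, hθdef⟩ : ∃ θ : ↥(P ⊔ centralizerIn S T) →* Ω, θ =
      ((T ⊔ centralizerIn S T).subtype.comp (β⁻¹).toMonoidHom).comp (ρ.codRestrict _ hρTC) :=
    ⟨_, rfl⟩
  have hθ : θ ∈ F.Hom (P ⊔ centralizerIn S T) := by
    rw [hθdef]; exact F.comp_mem hρ hβiF hρTC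
  have hθapp : ∀ y, θ y = ((β⁻¹ ⟨ρ y, hρTC y⟩ : ↥(T ⊔ centralizerIn S T)) : Ω) := by
    intro y; rw [hθdef]; rfl
  have hθP : ∀ x : P, θ (Subgroup.inclusion le_sup_left x) = (x : Ω) := by
    intro x
    rw [hθapp]
    have e : (⟨ρ (Subgroup.inclusion le_sup_left x), hρTC _⟩ : ↥(T ⊔ centralizerIn S T)) =
        Subgroup.inclusion hTTC (α ⟨x, hPT x.2⟩) := Subtype.ext (hρP' x)
    rw [e, hβiT]
    simp
  have hθC : ∀ (c : ↥(P ⊔ centralizerIn S T)) (hc : (c : Ω) ∈ centralizerIn S T),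
      ∃ x₁ : P, θ c =
        ((β⁻¹ ⟨c, hCTC hc⟩ : ↥(T ⊔ centralizerIn S T)) : Ω) * (x₁ : Ω) := by
    intro c hc
    obtain ⟨x₁, hx₁⟩ := hρCP c hc
    refine ⟨x₁, ?_⟩
    rw [hθapp]
    have e : (⟨ρ c, hρTC c⟩ : ↥(T ⊔ centralizerIn S T)) =
        ⟨c, hCTC hc⟩ * Subgroup.inclusion hTTC (α ⟨x₁, hPT x₁.2⟩) := Subtype.ext hx₁
    rw [e, map_mul, hβiT]
    simp
  have hθR : ∀ y, θ y ∈ P ⊔ centralizerIn S T := by
    intro y
    obtain ⟨x, hx, c, hc, hy⟩ := WNXC.mem_sup_cent hPT y.2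
    have e : y = Subgroup.inclusion le_sup_left ⟨x, hx⟩ * ⟨c, hCR hc⟩ := Subtype.ext hy
    rw [e, map_mul, hθP]
    obtain ⟨x₁, hx₁⟩ := hθC ⟨c, hCR hc⟩ hc
    rw [hx₁]
    exact Subgroup.mul_mem _ (hPR hx)
      (Subgroup.mul_mem _ (hCR (hβiC _ hc)) (hPR x₁.2))
  obtain ⟨θ₂, hθ₂, hθ₂ext, hθ₂N⟩ := hTE p hS F hF E hE' P hP θ hθ hθP hθR
  -- the automorphism `β₂` of `N C`
  have hfinN' : Finite ↥(normalizerIn T P ⊔ centralizerIn S T) := H85.finite_of_le hN'S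
  have hθ₂inj : Function.Injective (θ₂.codRestrict _ hθ₂N) :=
    fun a b hab => F.injective_of_mem hθ₂ (congrArg Subtype.val hab)
  obtain ⟨β₂, hβ₂⟩ : ∃ β₂ : MulAut ↥(normalizerIn T P ⊔ centralizerIn S T),
      ∀ y, ((β₂ y : ↥(normalizerIn T P ⊔ centralizerIn S T)) : Ω) = θ₂ y :=
    ⟨MulEquiv.ofBijective (θ₂.codRestrict _ hθ₂N)
      ⟨hθ₂inj, Finite.injective_iff_surjective.mp hθ₂inj⟩, fun y => rfl⟩
  have hβ₂F : β₂ ∈ F.autGroup (normalizerIn T P ⊔ centralizerIn S T) :=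
    (H85.mem_autGroup_iff F hN'S β₂).mpr (H85.hom_congr F hθ₂ (fun y => hβ₂ y))
  have hβ₂P : ∀ y : ↥(normalizerIn T P ⊔ centralizerIn S T), (y : Ω) ∈ P → β₂ y = y := by
    intro y hy
    apply Subtype.ext
    rw [hβ₂]
    have h1 := hθ₂ext (Subgroup.inclusion le_sup_left ⟨y, hy⟩) y.2
    rw [hθP] at h1
    exact h1
  have hβ₂Ppow : ∀ (j : ℕ) (y : ↥(normalizerIn T P ⊔ centralizerIn S T)), (y : Ω) ∈ P →
      (β₂ ^ j) y = y := by
    intro j
    induction j with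
    | zero => intro y _; simp
    | succ j ih => intro y hy; rw [pow_succ, MulAut.mul_apply, hβ₂P y hy, ih y hy]
  -- `β₂` on `N`
  have hβ₂N : ∀ y : ↥(normalizerIn T P ⊔ centralizerIn S T), (y : Ω) ∈ normalizerIn T P →
      ∃ z : ↥(normalizerIn T P ⊔ centralizerIn S T), (z : Ω) ∈ P ∧ β₂ y = y * z := by
    intro y hy
    have hyT : ((β₂ y : ↥(normalizerIn T P ⊔ centralizerIn S T)) : Ω) ∈ T := by
      have h1 := hTcl.2 (normalizerIn T P) hNT _ (H85.restrict_mem F hθ₂ hNN') ⟨y, hy⟩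
      rw [hβ₂]
      exact h1
    have hz : (y : Ω)⁻¹ * ((β₂ y : ↥(normalizerIn T P ⊔ centralizerIn S T)) : Ω) ∈
        centralizerIn T P := by
      refine ⟨T.mul_mem (T.inv_mem hy.1) hyT, Subgroup.mem_centralizer_iff.mpr (fun x hx => ?_)⟩
      have hyx : (y : Ω) * x * (y : Ω)⁻¹ ∈ P := (Subgroup.mem_normalizer_iff.mp hy.2 x).mp hx
      have h1 := hβ₂P (y * ⟨x, hNN' (hPN hx)⟩ * y⁻¹) hyx
      rw [map_mul, map_mul, map_inv, hβ₂P ⟨x, hNN' (hPN hx)⟩ hx] at h1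
      have h3 : ((β₂ y : ↥(normalizerIn T P ⊔ centralizerIn S T)) : Ω) * x *
          ((β₂ y : ↥(normalizerIn T P ⊔ centralizerIn S T)) : Ω)⁻¹ = (y : Ω) * x * (y : Ω)⁻¹ :=
        congrArg Subtype.val h1
      calc x * ((y : Ω)⁻¹ * ((β₂ y : ↥(normalizerIn T P ⊔ centralizerIn S T)) : Ω))
          = (y : Ω)⁻¹ * ((y : Ω) * x * (y : Ω)⁻¹) *
              ((β₂ y : ↥(normalizerIn T P ⊔ centralizerIn S T)) : Ω) := by group
        _ = (y : Ω)⁻¹ * (((β₂ y : ↥(normalizerIn T P ⊔ centralizerIn S T)) : Ω) * x *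
              ((β₂ y : ↥(normalizerIn T P ⊔ centralizerIn S T)) : Ω)⁻¹) *
              ((β₂ y : ↥(normalizerIn T P ⊔ centralizerIn S T)) : Ω) := by rw [h3]
        _ = (y : Ω)⁻¹ * ((β₂ y : ↥(normalizerIn T P ⊔ centralizerIn S T)) : Ω) * x := by group
    have hzP := hcen hz
    refine ⟨⟨_, hNN' (hPN hzP)⟩, hzP, ?_⟩
    apply Subtype.ext
    show ((β₂ y : ↥(normalizerIn T P ⊔ centralizerIn S T)) : Ω) =
      (y : Ω) * ((y : Ω)⁻¹ * ((β₂ y : ↥(normalizerIn T P ⊔ centralizerIn S T)) : Ω))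
    group
  have hβ₂Npow : ∀ y : ↥(normalizerIn T P ⊔ centralizerIn S T),
      (y : Ω) ∈ normalizerIn T P → (β₂ ^ Nat.card S) y = y := by
    intro y hy
    obtain ⟨z, hzP, hyz⟩ := hβ₂N y hy
    have hpow : ∀ j : ℕ, (β₂ ^ j) y = y * z ^ j := by
      intro j
      induction j with
      | zero => simp
      | succ j ih =>
        rw [pow_succ, MulAut.mul_apply, hyz, map_mul, ih, hβ₂Ppow j z hzP, pow_succ, mul_assoc]
    rw [hpow]
    have hz1 : z ^ Nat.card S = 1 := by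
      apply Subtype.ext
      have hzS : (z : Ω) ∈ S := hN'S z.2
      have h1 : (⟨(z : Ω), hzS⟩ : S) ^ Nat.card S = 1 := pow_card_eq_one'
      show ((z ^ Nat.card S : ↥(normalizerIn T P ⊔ centralizerIn S T)) : Ω) = 1
      rw [Subgroup.coe_pow]
      have h2 : ((⟨(z : Ω), hzS⟩ : S) : Ω) ^ Nat.card S = 1 := by
        rw [← Subgroup.coe_pow, h1]; rfl
      exact h2
    rw [hz1, mul_one]
  -- `β₂` on `C`
  have hβ₂C : ∀ (j : ℕ) (c : ↥(normalizerIn T P ⊔ centralizerIn S T))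
      (hc : (c : Ω) ∈ centralizerIn S T), ∃ t ∈ T,
        (((β₂ ^ j) c : ↥(normalizerIn T P ⊔ centralizerIn S T)) : Ω) =
          ((((β⁻¹) ^ j) ⟨c, hCTC hc⟩ : ↥(T ⊔ centralizerIn S T)) : Ω) * t := by
    intro j
    induction j with
    | zero => intro c hc; exact ⟨1, T.one_mem, by simp⟩
    | succ j ih =>
      intro c hc
      obtain ⟨x₁, hx₁⟩ := hθC ⟨c, hCR hc⟩ hc
      have hd : ((β⁻¹ ⟨c, hCTC hc⟩ : ↥(T ⊔ centralizerIn S T)) : Ω) ∈ centralizerIn S T :=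
        hβiC _ hc
      have e1 : β₂ c = ⟨_, hCN' hd⟩ * ⟨x₁, hNN' (hPN x₁.2)⟩ := by
        apply Subtype.ext
        rw [hβ₂]
        have h1 := hθ₂ext ⟨c, hCR hc⟩ c.2
        rw [hx₁] at h1
        exact h1
      obtain ⟨t, ht, hjt⟩ := ih ⟨_, hCN' hd⟩ hd
      refine ⟨t * x₁, T.mul_mem ht (hPT x₁.2), ?_⟩
      rw [pow_succ, MulAut.mul_apply, e1, map_mul,
        hβ₂Ppow j ⟨x₁, hNN' (hPN x₁.2)⟩ x₁.2]
      rw [Subgroup.coe_mul, hjt, pow_succ, MulAut.mul_apply, mul_assoc]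
  -- the good extension of `α ^ |S|` on `N`
  have hβjF : (T ⊔ centralizerIn S T).subtype.comp (β ^ Nat.card S).toMonoidHom ∈
      F.Hom (T ⊔ centralizerIn S T) :=
    (H85.mem_autGroup_iff F hTCS _).mp (Subgroup.pow_mem _ hβ _)
  have hβ₂jF : (normalizerIn T P ⊔ centralizerIn S T).subtype.comp
      (β₂ ^ Nat.card S).toMonoidHom ∈ F.Hom (normalizerIn T P ⊔ centralizerIn S T) :=
    (H85.mem_autGroup_iff F hN'S _).mp (Subgroup.pow_mem _ hβ₂F _)
  have hmap : ∀ y : ↥(normalizerIn T P ⊔ centralizerIn S T),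
      ((normalizerIn T P ⊔ centralizerIn S T).subtype.comp (β₂ ^ Nat.card S).toMonoidHom) y ∈
        T ⊔ centralizerIn S T := fun y => hN'TC ((β₂ ^ Nat.card S) y).2
  have hσ := F.comp_mem hβ₂jF hβjF hmap
  have hNc : E.IsCentric (normalizerIn T P) := Centric.isCentric_of_le E hP hPN hNT
  refine ⟨normalizerIn T P, hNc,
    Helper87.FSSat.card_lt_card_normalizerIn (hS.to_le hTS) hPT hPne, _, hσ, ?_, ?_⟩
  · intro x
    have e1 : (β₂ ^ Nat.card S) (Subgroup.inclusion le_sup_left x) =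
        Subgroup.inclusion le_sup_left x := hβ₂Npow _ x.2
    have e2 : ((normalizerIn T P ⊔ centralizerIn S T).subtype.comp
        (β₂ ^ Nat.card S).toMonoidHom).codRestrict (T ⊔ centralizerIn S T) hmap
          (Subgroup.inclusion le_sup_left x) =
        Subgroup.inclusion hTTC (⟨x, hNT x.2⟩ : T) := by
      apply Subtype.ext
      show (((β₂ ^ Nat.card S) (Subgroup.inclusion le_sup_left x) :
        ↥(normalizerIn T P ⊔ centralizerIn S T)) : Ω) = (x : Ω)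
      rw [e1]; rfl
    show (((β ^ Nat.card S) (((normalizerIn T P ⊔ centralizerIn S T).subtype.comp
        (β₂ ^ Nat.card S).toMonoidHom).codRestrict (T ⊔ centralizerIn S T) hmap
          (Subgroup.inclusion le_sup_left x)) : ↥(T ⊔ centralizerIn S T)) : Ω) = _
    rw [e2, hβpow]
    rfl
  · intro c hc
    obtain ⟨t, ht, hjt⟩ := hβ₂C (Nat.card S) c hc
    have e : ((normalizerIn T P ⊔ centralizerIn S T).subtype.comp
        (β₂ ^ Nat.card S).toMonoidHom).codRestrict (T ⊔ centralizerIn S T) hmap c =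
        ((β⁻¹) ^ Nat.card S) ⟨c, hCTC hc⟩ * Subgroup.inclusion hTTC ⟨t, ht⟩ :=
      Subtype.ext hjt
    show (c : Ω)⁻¹ * (((β ^ Nat.card S) (((normalizerIn T P ⊔ centralizerIn S T).subtype.comp
        (β₂ ^ Nat.card S).toMonoidHom).codRestrict (T ⊔ centralizerIn S T) hmap c) :
          ↥(T ⊔ centralizerIn S T)) : Ω) ∈ T
    rw [e, map_mul, hβpow]
    have e2 : (β ^ Nat.card S) (((β⁻¹) ^ Nat.card S) ⟨c, hCTC hc⟩) = ⟨c, hCTC hc⟩ := by
      rw [inv_pow]; simp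
    rw [e2]
    show (c : Ω)⁻¹ * ((c : Ω) * (((α ^ Nat.card S) ⟨t, ht⟩ : T) : Ω)) ∈ T
    rw [inv_mul_cancel_left]
    exact ((α ^ Nat.card S) ⟨t, ht⟩).2

end Cfsg.Agent.Lib.Helper88.WNSTEP
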