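import Mathlib
import Cfsg.Prelude.Def_FusionSystem
import Cfsg.Agent.Lib.Helper88.FSBase
import Cfsg.Agent.S5082

set_option autoImplicit false

/-! Alperin extension: in a saturated fusion system, a map whose source is larger than every
essential subgroup is the restriction of an automorphism of `S` in the system. -/

namespace Cfsg.Agent.Lib.Helper88.ExtLarge

open Cfsg Cfsg.FusionSystem Cfsg.Agent.Lib.Helper88.FSBase

variable {Ω : Type*} [Group Ω] {S : Subgroup Ω}

/-- The auxiliary system: maps of `F` which, when their source is larger than every essential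
subgroup, are restrictions of elements of `Aut_F(S)`. -/
def auxSystem [Finite S] (p : ℕ) (F : FusionSystem S) : FusionSystem S where
  Hom P := {f | f ∈ F.Hom P ∧ ((∀ E' : Subgroup Ω, F.IsEssential p E' → Nat.card E' < Nat.card P) →
    ∃ α : MulAut S, α ∈ F.autGroup S ∧
      ∀ (x : P) (hx : (x : Ω) ∈ S), ((α ⟨x, hx⟩ : S) : Ω) = f x)}
  le_of_mem h := F.le_of_mem h.1
  injective_of_mem h := F.injective_of_mem h.1
  conj_mem := by
    intro P g hP hg
    refine ⟨F.conj_mem hP hg, fun _ => ⟨MulAut.conj (⟨g, hg⟩ : S), ?_, fun x hx => rfl⟩⟩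
    rw [mem_autGroup_iff F le_rfl]
    have h1 : conjHom S g ∈ F.Hom S := F.conj_mem le_rfl hg
    have h2 : S.subtype.comp (MulAut.conj (⟨g, hg⟩ : S)).toMonoidHom = conjHom S g := by
      ext x
      rfl
    rw [h2]
    exact h1
  comp_mem := by
    intro P Q φ ψ hφ hψ h
    refine ⟨F.comp_mem hφ.1 hψ.1 h, fun hlarge => ?_⟩
    have hQS : Q ≤ S := dom_le F hψ.1
    have hPS : P ≤ S := dom_le F hφ.1
    have hfinQ : Finite Q := Finite.of_injective (Subgroup.inclusion hQS)
      (Subgroup.inclusion_injective hQS)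
    have hcard : Nat.card P ≤ Nat.card Q := by
      apply Nat.card_le_card_of_injective (φ.codRestrict Q h)
      intro a b hab
      exact F.injective_of_mem hφ.1 (congrArg Subtype.val hab)
    obtain ⟨α₁, hα₁, h1⟩ := hφ.2 hlarge
    obtain ⟨α₂, hα₂, h2⟩ := hψ.2 (fun E' hE' => lt_of_lt_of_le (hlarge E' hE') hcard)
    refine ⟨α₂ * α₁, Subgroup.mul_mem _ hα₂ hα₁, fun x hx => ?_⟩
    show ((α₂ (α₁ ⟨x, hx⟩) : S) : Ω) = ψ ⟨φ x, h x⟩
    have e1 : α₁ ⟨x, hx⟩ = ⟨φ x, hQS (h x)⟩ := Subtype.ext (h1 x hx)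
    rw [e1]
    exact h2 ⟨φ x, h x⟩ (hQS (h x))
  inv_mem := by
    intro P φ hφ
    obtain ⟨ψ, hψ, hψx⟩ := F.inv_mem hφ.1
    refine ⟨ψ, ⟨hψ, fun hlarge => ?_⟩, hψx⟩
    have hPS : P ≤ S := dom_le F hφ.1
    have hcard : Nat.card φ.range = Nat.card P :=
      (Nat.card_congr (MonoidHom.ofInjective (F.injective_of_mem hφ.1)).toEquiv).symm
    obtain ⟨α, hα, h1⟩ := hφ.2 (fun E' hE' => hcard ▸ hlarge E' hE')
    refine ⟨α⁻¹, Subgroup.inv_mem _ hα, ?_⟩
    rintro ⟨_, ⟨x, rfl⟩⟩ hx
    rw [hψx x]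
    have e1 : (⟨φ x, hx⟩ : S) = α ⟨x, hPS x.2⟩ := Subtype.ext (h1 x (hPS x.2)).symm
    rw [e1, MulAut.inv_apply_self]

/-- [R3] Alperin extension: a map of a saturated system whose source is larger than every
essential subgroup is the restriction of an automorphism of `S` in the system -/
theorem ext_of_large {Ω : Type*} [Group Ω] {S : Subgroup Ω} [Finite S] (p : ℕ) [Fact p.Prime]
    (hS : IsPGroup p S) (F : Cfsg.FusionSystem S) (hF : F.IsSaturated p) (Q : Subgroup Ω)
    (hQ : ∀ E : Subgroup Ω, F.IsEssential p E → Nat.card E < Nat.card Q)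
    (φ : Q →* Ω) (hφ : φ ∈ F.Hom Q) :
    ∃ α : MulAut S, α ∈ F.autGroup S ∧
      ∀ (x : Q) (hx : (x : Ω) ∈ S), ((α ⟨x, hx⟩ : S) : Ω) = φ x := by
  have hle : F ≤ auxSystem p F := by
    apply Cfsg.Agent.S5082.result p hS F hF
    intro P hP α hα
    have hPS : P ≤ S := by
      rcases hP with h | h
      · exact h.le
      · exact h.1.1
    have h1 : P.subtype.comp α.toMonoidHom ∈ F.Hom P := (mem_autGroup_iff F hPS α).1 hα
    apply Subgroup.subset_closure
    refine ⟨h1, fun hlarge => ?_⟩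
    rcases hP with h | h
    · subst h
      exact ⟨α, hα, fun x hx => rfl⟩
    · exact absurd (hlarge P h) (lt_irrefl _)
  exact (hle Q hφ).2 hQ

end Cfsg.Agent.Lib.Helper88.ExtLarge
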