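import Mathlib
import Cfsg.Prelude.Def_FusionSystem
import Cfsg.Agent.Lib.Helper87.FSBasic

set_option autoImplicit false

/-! The fusion system over `T` consisting of the restrictions of the elements of a group `K` of
automorphisms of `T` containing the inner automorphisms.  It is saturated as soon as the inner
automorphisms have index prime to `p` in `K`. -/

namespace Cfsg.Agent.Lib.Helper88.AutSys

open Cfsg Cfsg.FusionSystem
open Cfsg.Agent.Lib.Helper87

variable {Ω : Type*} [Group Ω] {T : Subgroup Ω}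

/-- The fusion system over `T` of all restrictions of elements of `K ≤ Aut(T)`. -/
def autSys (K : Subgroup (MulAut T)) (hK : (MulAut.conj : T →* MulAut T).range ≤ K) :
    FusionSystem T where
  Hom P := {φ | ∃ (hP : P ≤ T), ∃ κ ∈ K, ∀ x : P, φ x = ((κ ⟨x, hP x.2⟩ : T) : Ω)}
  le_of_mem := by
    rintro P φ ⟨hP, κ, -, h⟩
    exact ⟨hP, fun x => by rw [h]; exact (κ _).2⟩
  injective_of_mem := by
    rintro P φ ⟨hP, κ, -, h⟩ x y hxy
    rw [h, h] at hxy
    have h2 := κ.injective (Subtype.ext hxy)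
    exact Subtype.ext (congrArg (fun z : T => (z : Ω)) h2)
  conj_mem := by
    intro P g hP hg
    exact ⟨hP, MulAut.conj ⟨g, hg⟩, hK ⟨_, rfl⟩, fun x => rfl⟩
  comp_mem := by
    rintro P Q φ ψ ⟨hP, κ₁, hκ₁, h₁⟩ ⟨hQ, κ₂, hκ₂, h₂⟩ h
    refine ⟨hP, κ₂ * κ₁, K.mul_mem hκ₂ hκ₁, fun x => ?_⟩
    show ψ ⟨φ x, h x⟩ = _
    rw [h₂, MulAut.mul_apply]
    have e : (⟨φ x, hQ (h x)⟩ : T) = κ₁ ⟨x, hP x.2⟩ := Subtype.ext (h₁ x)
    rw [e]
  inv_mem := by
    rintro P φ ⟨hP, κ, hκ, h⟩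
    have hr : φ.range ≤ T := by
      rintro _ ⟨x, rfl⟩
      rw [h]
      exact (κ _).2
    refine ⟨(T.subtype.comp κ⁻¹.toMonoidHom).comp (Subgroup.inclusion hr),
      ⟨hr, κ⁻¹, K.inv_mem hκ, fun x => rfl⟩, fun x => ?_⟩
    show ((κ⁻¹ ⟨φ x, _⟩ : T) : Ω) = x
    have e : (⟨φ x, hr ⟨x, rfl⟩⟩ : T) = κ ⟨x, hP x.2⟩ := Subtype.ext (h x)
    rw [e, MulAut.inv_apply_self]

theorem mem_autSys_iff (K : Subgroup (MulAut T)) (hK : (MulAut.conj : T →* MulAut T).range ≤ K)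
    {P : Subgroup Ω} (φ : P →* Ω) :
    φ ∈ (autSys K hK).Hom P ↔
      ∃ (hP : P ≤ T), ∃ κ ∈ K, ∀ x : P, φ x = ((κ ⟨x, hP x.2⟩ : T) : Ω) := Iff.rfl

/-- Membership in the automizers of `autSys`. -/
theorem mem_autGroup_autSys (K : Subgroup (MulAut T))
    (hK : (MulAut.conj : T →* MulAut T).range ≤ K) {P : Subgroup Ω} (hP : P ≤ T) (α : MulAut P) :
    α ∈ (autSys K hK).autGroup P ↔
      ∃ κ ∈ K, ∀ x : P, ((α x : P) : Ω) = ((κ ⟨x, hP x.2⟩ : T) : Ω) := by
  rw [FSBasic.mem_autGroup_iff _ hP]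
  constructor
  · rintro ⟨_, κ, hκ, h⟩
    exact ⟨κ, hκ, fun x => h x⟩
  · rintro ⟨κ, hκ, h⟩
    exact ⟨hP, κ, hκ, fun x => h x⟩

/-- The automizer of `T` itself in `autSys K` is `K`. -/
theorem autGroup_autSys_self (K : Subgroup (MulAut T))
    (hK : (MulAut.conj : T →* MulAut T).range ≤ K) : (autSys K hK).autGroup T = K := by
  ext α
  rw [mem_autGroup_autSys K hK le_rfl]
  constructor
  · rintro ⟨κ, hκ, h⟩
    have e : α = κ := by
      ext x
      exact h x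
    rw [e]
    exact hκ
  · intro hα
    exact ⟨α, hα, fun x => rfl⟩

/-- Restrictions are compatible with powers. -/
theorem rel_pow {P : Subgroup Ω} (hP : P ≤ T) {κ : MulAut T} {α : MulAut P}
    (h : ∀ x : P, ((α x : P) : Ω) = ((κ ⟨x, hP x.2⟩ : T) : Ω)) (n : ℕ) :
    ∀ x : P, (((α ^ n) x : P) : Ω) = (((κ ^ n) ⟨x, hP x.2⟩ : T) : Ω) := by
  induction n with
  | zero => intro x; simp
  | succ n ih =>
    intro x
    rw [pow_succ, pow_succ, MulAut.mul_apply, MulAut.mul_apply, ih (α x)]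
    have e : (⟨((α x : P) : Ω), hP (α x).2⟩ : T) = κ ⟨x, hP x.2⟩ := Subtype.ext (h x)
    rw [e]

/-- In a finite group, an element of `p`-power order lies in every normal subgroup of index prime
to `p`. -/
theorem mem_of_orderOf_pow {G : Type*} [Group G] {p : ℕ} [Fact p.Prime] (N K : Subgroup G)
    [N.Normal] (hidx : (N.relIndex K).Coprime p) {g : G} (hg : g ∈ K) {a : ℕ}
    (ha : orderOf g = p ^ a) : g ∈ N := by
  have hp : p.Prime := Fact.out
  have : (N.subgroupOf K).Normal := Subgroup.Normal.subgroupOf inferInstance K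
  have hfin : (N.subgroupOf K).index ≠ 0 := by
    intro h0
    have h1 : N.relIndex K = 0 := h0
    rw [h1] at hidx
    have : p = 1 := by simpa using hidx
    exact hp.one_lt.ne' this
  have : (N.subgroupOf K).FiniteIndex := ⟨hfin⟩
  set gK : K := ⟨g, hg⟩ with hgK
  have h1 : orderOf (QuotientGroup.mk gK : K ⧸ N.subgroupOf K) ∣ p ^ a := by
    apply orderOf_dvd_of_pow_eq_one
    rw [← QuotientGroup.mk_pow]
    have : gK ^ (p ^ a) = 1 := by
      apply Subtype.ext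
      show g ^ (p ^ a) = 1
      rw [← ha]
      exact pow_orderOf_eq_one g
    rw [this]
    rfl
  have h2 : orderOf (QuotientGroup.mk gK : K ⧸ N.subgroupOf K) ∣ N.relIndex K := by
    have : orderOf (QuotientGroup.mk gK : K ⧸ N.subgroupOf K) ∣ Nat.card (K ⧸ N.subgroupOf K) :=
      orderOf_dvd_natCard _
    exact this
  have h3 : orderOf (QuotientGroup.mk gK : K ⧸ N.subgroupOf K) = 1 := by
    have hc : (N.relIndex K).Coprime (p ^ a) := Nat.Coprime.pow_right a hidx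
    exact Nat.eq_one_of_dvd_coprimes hc h2 h1
  rw [orderOf_eq_one_iff, QuotientGroup.eq_one_iff] at h3
  exact h3

/-- An automorphism of `p`-power order that is the restriction of an element of `K` is the
restriction of an element of `K` of `p`-power order. -/
theorem exists_pElt_lift [Finite T] {p : ℕ} [Fact p.Prime] {K : Subgroup (MulAut T)}
    {P : Subgroup Ω} (hP : P ≤ T) {κ : MulAut T} (hκ : κ ∈ K) {α : MulAut P}
    (h : ∀ x : P, ((α x : P) : Ω) = ((κ ⟨x, hP x.2⟩ : T) : Ω)) {a : ℕ}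
    (ha : orderOf α = p ^ a) :
    ∃ κ' ∈ K, (∃ b : ℕ, orderOf κ' = p ^ b) ∧
      ∀ x : P, ((α x : P) : Ω) = ((κ' ⟨x, hP x.2⟩ : T) : Ω) := by
  have hp : p.Prime := Fact.out
  have ho : 0 < orderOf κ := orderOf_pos κ
  obtain ⟨b, r, hr, hor⟩ := Nat.exists_eq_pow_mul_and_not_dvd ho.ne' p hp.ne_one
  have hcop : r.Coprime (orderOf α) := by
    rw [ha]
    exact Nat.Coprime.pow_right a ((Nat.Prime.coprime_iff_not_dvd hp).mpr hr).symm
  obtain ⟨m, hm⟩ := exists_pow_eq_self_of_coprime hcop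
  refine ⟨(κ ^ r) ^ m, K.pow_mem (K.pow_mem hκ r) m, ?_, ?_⟩
  · have h1 : ((κ ^ r) ^ m) ^ (p ^ b) = 1 := by
      rw [← pow_mul, ← pow_mul]
      have e : r * (m * p ^ b) = orderOf κ * m := by rw [hor]; ring
      rw [e, pow_mul, pow_orderOf_eq_one, one_pow]
    exact (Nat.dvd_prime_pow hp).1 (orderOf_dvd_of_pow_eq_one h1) |>.imp fun c hc => hc.2
  · intro x
    have h2 := rel_pow hP (rel_pow hP h r) m x
    rw [hm] at h2
    exact h2

/-- Every subgroup of `T` is fully automized in `autSys K` when `Inn(T)` has index prime to `p`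
in `K`. -/
theorem fullyAutomized_autSys [Finite T] (p : ℕ) [Fact p.Prime] (hT : IsPGroup p T)
    (K : Subgroup (MulAut T)) (hK : (MulAut.conj : T →* MulAut T).range ≤ K)
    (hidx : ((MulAut.conj : T →* MulAut T).range.relIndex K).Coprime p)
    {P : Subgroup Ω} (hP : P ≤ T) : (autSys K hK).IsFullyAutomized p P := by
  refine ⟨hP, ?_⟩
  have hpB : IsPGroup p ((autInducedBy T P).subgroupOf ((autSys K hK).autGroup P)) :=
    (FSBasic.isPGroup_autInducedBy hT P).comap_of_injective _ (Subgroup.subtype_injective _)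
  refine ⟨⟨_, hpB, ?_⟩, rfl⟩
  intro Q hQ hle
  apply le_antisymm _ hle
  intro α hα
  rw [Subgroup.mem_subgroupOf]
  obtain ⟨a, ha⟩ := (IsPGroup.iff_orderOf.mp hQ) ⟨α, hα⟩
  have ha' : orderOf (α : MulAut P) = p ^ a :=
    (Subgroup.orderOf_coe α).trans ((Subgroup.orderOf_coe (⟨α, hα⟩ : Q)).trans ha)
  obtain ⟨κ, hκ, hrel⟩ := (mem_autGroup_autSys K hK hP (α : MulAut P)).mp α.2
  obtain ⟨κ', hκ', ⟨b, hb⟩, hrel'⟩ := exists_pElt_lift hP hκ hrel ha'
  obtain ⟨t, ht⟩ := mem_of_orderOf_pow (MulAut.conj : T →* MulAut T).range K hidx hκ' hb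
  rw [FSBasic.mem_autInducedBy_iff]
  refine ⟨t, t.2, fun x => ?_⟩
  rw [hrel' x, ← ht]
  rfl

/-- Every subgroup of `T` is receptive in `autSys K`. -/
theorem receptive_autSys (K : Subgroup (MulAut T))
    (hK : (MulAut.conj : T →* MulAut T).range ≤ K) {P : Subgroup Ω} (hP : P ≤ T) :
    (autSys K hK).IsReceptive P := by
  refine ⟨hP, ?_⟩
  rintro P₀ φ ⟨hP₀, κ, hκ, h⟩ -
  have hle : extender T P₀ φ ≤ T := by
    unfold extender
    rw [Subgroup.closure_le]
    rintro u ⟨hu, -⟩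
    exact hu
  refine ⟨(T.subtype.comp κ.toMonoidHom).comp (Subgroup.inclusion hle),
    ⟨hle, κ, hκ, fun x => rfl⟩, ?_⟩
  intro x hx hN
  exact (h ⟨x, hx⟩).symm

/-- `autSys K` is saturated when `Inn(T)` has index prime to `p` in `K`. -/
theorem autSys_isSaturated [Finite T] (p : ℕ) [Fact p.Prime] (hT : IsPGroup p T)
    (K : Subgroup (MulAut T)) (hK : (MulAut.conj : T →* MulAut T).range ≤ K)
    (hidx : ((MulAut.conj : T →* MulAut T).range.relIndex K).Coprime p) :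
    (autSys K hK).IsSaturated p := by
  intro P hP
  refine ⟨P, ⟨P.subtype, ⟨hP, 1, K.one_mem, fun x => rfl⟩, Subgroup.range_subtype P⟩,
    fullyAutomized_autSys p hT K hK hidx hP, receptive_autSys K hK hP⟩

/-- The index of `Inn(T)` in `Inn(T) ⊔ H` divides the order of `H`. -/
theorem relIndex_sup_dvd (H : Subgroup (MulAut T)) [Finite H] :
    (MulAut.conj : T →* MulAut T).range.relIndex ((MulAut.conj : T →* MulAut T).range ⊔ H) ∣
      Nat.card H := by
  rw [Subgroup.relIndex_sup_left]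
  exact Subgroup.relIndex_dvd_card _ _

/-- `autSys K` is a subsystem of `F` when `K ≤ Aut_F(T)`. -/
theorem autSys_isSubsystemOf {S : Subgroup Ω} (F : FusionSystem S) (hTS : T ≤ S)
    (K : Subgroup (MulAut T)) (hK : (MulAut.conj : T →* MulAut T).range ≤ K)
    (hKF : K ≤ F.autGroup T) : (autSys K hK).IsSubsystemOf F := by
  rintro P φ ⟨hP, κ, hκ, h⟩
  have h1 := FSBasic.autGroup_hom F hTS (hKF hκ)
  exact FSBasic.mem_of_eq F (FSBasic.restrict_mem F h1 hP) (fun x => h x)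

/-- `T` is normal in `autSys K`. -/
theorem autSys_isNormal (K : Subgroup (MulAut T))
    (hK : (MulAut.conj : T →* MulAut T).range ≤ K) : (autSys K hK).IsNormal T := by
  refine ⟨le_rfl, ?_⟩
  rintro P φ ⟨hP, κ, hκ, h⟩
  have hle : P ⊔ T ≤ T := sup_le hP le_rfl
  refine ⟨(T.subtype.comp κ.toMonoidHom).comp (Subgroup.inclusion hle),
    ⟨hle, κ, hκ, fun x => rfl⟩, fun x => (h x).symm, ?_⟩
  apply le_antisymm
  · rintro _ ⟨x, -, rfl⟩
    exact (κ _).2
  · intro y hy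
    refine ⟨⟨((κ⁻¹ ⟨y, hy⟩ : T) : Ω), (le_sup_right : T ≤ P ⊔ T) (κ⁻¹ ⟨y, hy⟩).2⟩,
      Subgroup.mem_subgroupOf.mpr (κ⁻¹ ⟨y, hy⟩).2, ?_⟩
    show ((κ ⟨((κ⁻¹ ⟨y, hy⟩ : T) : Ω), _⟩ : T) : Ω) = y
    have e : (⟨((κ⁻¹ ⟨y, hy⟩ : T) : Ω), hle ((le_sup_right : T ≤ P ⊔ T) (κ⁻¹ ⟨y, hy⟩).2)⟩ : T) =
        κ⁻¹ ⟨y, hy⟩ := rfl
    rw [e, MulAut.apply_inv_self]

end Cfsg.Agent.Lib.Helper88.AutSys
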