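import Mathlib

set_option autoImplicit false

/-! Automorphisms acting on a cyclic section; common eigenvectors for commuting operators of
exponent dividing `p - 1` on an elementary abelian `p`-group. -/

namespace Cfsg.Agent.Lib.Helper88.CyclicSec

open Polynomial

section Section

variable {P Q : Type*} [Group P] [Group Q]

/-- A subgroup whose image lies in a cyclic group has cyclic image, generated by the image of one
of its elements. -/
theorem exists_gen (π : P →* Q) (M : Subgroup P) (z : Q)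
    (hM : ∀ y ∈ M, π y ∈ Subgroup.zpowers z) :
    ∃ y₀ ∈ M, ∀ y ∈ M, ∃ k : ℤ, π y = π y₀ ^ k := by
  have hle : M.map π ≤ Subgroup.zpowers z := by
    rintro _ ⟨y, hy, rfl⟩
    exact hM y hy
  haveI : IsCyclic (M.map π) := Subgroup.isCyclic_of_le hle
  obtain ⟨⟨g, y₀, hy₀, rfl⟩, hg⟩ := IsCyclic.exists_generator (α := M.map π)
  refine ⟨y₀, hy₀, fun y hy => ?_⟩
  obtain ⟨k, hk⟩ := Subgroup.mem_zpowers_iff.mp (hg ⟨π y, ⟨y, hy, rfl⟩⟩)
  refine ⟨k, ?_⟩
  have := congrArg (fun t : M.map π => (t : Q)) hk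
  simpa using this.symm

/-- An automorphism preserving `M` and the kernel of `π` on `M` acts on the cyclic image of `M`
as a power map. -/
theorem pow_action (π : P →* Q) (M : Subgroup P) {y₀ : P} (hy₀ : y₀ ∈ M)
    (hgen : ∀ y ∈ M, ∃ k : ℤ, π y = π y₀ ^ k)
    (α : MulAut P) (hαM : ∀ y ∈ M, α y ∈ M) (hαN : ∀ y ∈ M, π y = 1 → π (α y) = 1) :
    ∃ a : ℤ, ∀ y ∈ M, π (α y) = π y ^ a := by
  obtain ⟨a, ha⟩ := hgen (α y₀) (hαM y₀ hy₀)
  refine ⟨a, fun y hy => ?_⟩
  obtain ⟨k, hk⟩ := hgen y hy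
  have hu : (y₀ ^ k)⁻¹ * y ∈ M := M.mul_mem (M.inv_mem (M.zpow_mem hy₀ k)) hy
  have hπu : π ((y₀ ^ k)⁻¹ * y) = 1 := by
    rw [map_mul, map_inv, map_zpow, hk, inv_mul_cancel]
  have h1 := hαN _ hu hπu
  have e : α y = (α y₀) ^ k * α ((y₀ ^ k)⁻¹ * y) := by
    rw [← map_zpow, ← map_mul, mul_inv_cancel_left]
  rw [e, map_mul, h1, mul_one, map_zpow, ha, hk, ← zpow_mul, ← zpow_mul, mul_comm]

/-- Commutators of automorphisms act trivially on a cyclic section. -/
theorem comm_trivial (π : P →* Q) (M : Subgroup P) (z : Q)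
    (hM : ∀ y ∈ M, π y ∈ Subgroup.zpowers z) (α β : MulAut P)
    (hαM : ∀ y ∈ M, α y ∈ M) (hβM : ∀ y ∈ M, β y ∈ M)
    (hαM' : ∀ y ∈ M, α⁻¹ y ∈ M) (hβM' : ∀ y ∈ M, β⁻¹ y ∈ M)
    (hαN : ∀ y ∈ M, π y = 1 → π (α y) = 1) (hβN : ∀ y ∈ M, π y = 1 → π (β y) = 1) :
    ∀ y ∈ M, π ((α * β * α⁻¹ * β⁻¹) y) = π y := by
  obtain ⟨y₀, hy₀, hgen⟩ := exists_gen π M z hM
  obtain ⟨a, ha⟩ := pow_action π M hy₀ hgen α hαM hαN
  obtain ⟨b, hb⟩ := pow_action π M hy₀ hgen β hβM hβN
  intro y hy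
  have hu : α⁻¹ (β⁻¹ y) ∈ M := hαM' _ (hβM' y hy)
  have e1 : (α * β * α⁻¹ * β⁻¹) y = α (β (α⁻¹ (β⁻¹ y))) := rfl
  have e2 : β (α (α⁻¹ (β⁻¹ y))) = y := by
    rw [MulAut.apply_inv_self, MulAut.apply_inv_self]
  rw [e1, ha _ (hβM _ hu), hb _ hu, ← zpow_mul, mul_comm, zpow_mul, ← ha _ hu, ← hb _ (hαM _ hu),
    e2]

/-- If `a ^ r ≡ 1` modulo a power of `p` with `r` prime to `p`, then `a ^ (p - 1) ≡ 1`. -/
theorem pow_pred_modEq {p : ℕ} [Fact p.Prime] (j : ℕ) (a : ℤ) (r : ℕ) (hr : r.Coprime p)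
    (h : a ^ r ≡ 1 [ZMOD ((p ^ j : ℕ) : ℤ)]) : a ^ (p - 1) ≡ 1 [ZMOD ((p ^ j : ℕ) : ℤ)] := by
  have hp : p.Prime := Fact.out
  rcases Nat.eq_zero_or_pos j with hj | hj
  · subst hj
    simp [Int.modEq_one]
  have hr0 : r ≠ 0 := by
    rintro rfl
    simp at hr
    exact hp.one_lt.ne' hr
  haveI : NeZero (p ^ j) := ⟨pow_ne_zero j hp.ne_zero⟩
  have h1 : ((a : ZMod (p ^ j))) ^ r = 1 := by
    have := (ZMod.intCast_eq_intCast_iff (a ^ r) 1 (p ^ j)).mpr h
    simpa using this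
  set U : (ZMod (p ^ j))ˣ := Units.ofPowEqOne _ r h1 hr0 with hU
  have hUr : U ^ r = 1 := Units.pow_ofPowEqOne h1 hr0
  have hd1 : orderOf U ∣ r := orderOf_dvd_of_pow_eq_one hUr
  have hd2 : orderOf U ∣ p ^ (j - 1) * (p - 1) := by
    rw [← Nat.totient_prime_pow hp hj, ← ZMod.card_units_eq_totient]
    exact orderOf_dvd_card
  have hc : (orderOf U).Coprime (p ^ (j - 1)) :=
    Nat.Coprime.pow_right _ (Nat.Coprime.coprime_dvd_left hd1 hr)
  have hd3 : orderOf U ∣ p - 1 := hc.dvd_of_dvd_mul_left hd2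
  have hU1 : U ^ (p - 1) = 1 := orderOf_dvd_iff_pow_eq_one.mp hd3
  have h2 : ((a : ZMod (p ^ j))) ^ (p - 1) = 1 := by
    have := congrArg Units.val hU1
    simpa [hU] using this
  apply (ZMod.intCast_eq_intCast_iff (a ^ (p - 1)) 1 (p ^ j)).mp
  simpa using h2

/-- An automorphism of order prime to `p` acts on a cyclic `p`-section with exponent dividing
`p - 1`. -/
theorem pow_trivial {p : ℕ} [Fact p.Prime] (π : P →* Q) (M : Subgroup P) (z : Q)
    (hM : ∀ y ∈ M, π y ∈ Subgroup.zpowers z) (hMp : ∀ y ∈ M, ∃ k : ℕ, π y ^ p ^ k = 1)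
    (α : MulAut P) (hαM : ∀ y ∈ M, α y ∈ M) (hαN : ∀ y ∈ M, π y = 1 → π (α y) = 1)
    (r : ℕ) (hr : r.Coprime p) (hαr : α ^ r = 1) :
    ∀ y ∈ M, π ((α ^ (p - 1)) y) = π y := by
  have hp : p.Prime := Fact.out
  obtain ⟨y₀, hy₀, hgen⟩ := exists_gen π M z hM
  obtain ⟨a, ha⟩ := pow_action π M hy₀ hgen α hαM hαN
  have hpow : ∀ n : ℕ, ∀ y ∈ M, (α ^ n) y ∈ M ∧ π ((α ^ n) y) = π y ^ (a ^ n) := by
    intro n
    induction n with
    | zero => intro y hy; simp [hy]
    | succ n ih =>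
      intro y hy
      obtain ⟨h1, h2⟩ := ih y hy
      refine ⟨?_, ?_⟩
      · rw [pow_succ', MulAut.mul_apply]
        exact hαM _ h1
      · rw [pow_succ', MulAut.mul_apply, ha _ h1, h2, ← zpow_mul, pow_succ]
  obtain ⟨k, hk⟩ := hMp y₀ hy₀
  obtain ⟨j, -, hj⟩ := (Nat.dvd_prime_pow hp).mp (orderOf_dvd_of_pow_eq_one hk)
  have h1 : π y₀ ^ (a ^ r) = π y₀ ^ (1 : ℤ) := by
    rw [← (hpow r y₀ hy₀).2, hαr, zpow_one]
    rfl
  rw [zpow_eq_zpow_iff_modEq, hj] at h1
  have h2 := pow_pred_modEq j a r hr h1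
  rw [← hj, ← zpow_eq_zpow_iff_modEq, zpow_one] at h2
  intro y hy
  obtain ⟨k', hk'⟩ := hgen y hy
  rw [(hpow (p - 1) y hy).2, hk', ← zpow_mul, mul_comm, zpow_mul, h2]

end Section

section Groups

variable {G : Type*} [Group G]

/-- If all commutators lie in a normal `p`-subgroup, every Sylow `p`-subgroup is normal. -/
theorem sylow_normal_of_comm {p : ℕ} [Fact p.Prime] (N : Subgroup G) [N.Normal]
    (hN : IsPGroup p N) (hcomm : ∀ a b : G, a * b * a⁻¹ * b⁻¹ ∈ N) (R : Sylow p G) :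
    (R : Subgroup G).Normal := by
  have hle : N ≤ R := by
    have h1 : IsPGroup p ((R : Subgroup G) ⊔ N : Subgroup G) :=
      IsPGroup.to_sup_of_normal_right R.isPGroup' hN
    have h2 := R.is_maximal' h1 le_sup_left
    rw [← h2]
    exact le_sup_right
  refine ⟨fun r hr a => ?_⟩
  have e : a * r * a⁻¹ = (a * r * a⁻¹ * r⁻¹) * r := by group
  rw [e]
  exact (R : Subgroup G).mul_mem (hle (hcomm a r)) hr

/-- An element of `p`-power order and of order prime to `p` is trivial. -/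
theorem eq_one_of_pow_of_coprime {p : ℕ} (g : G) (k r : ℕ) (hr : r.Coprime p)
    (h1 : g ^ p ^ k = 1) (h2 : g ^ r = 1) : g = 1 := by
  have h3 : orderOf g = 1 :=
    Nat.eq_one_of_dvd_coprimes (Nat.Coprime.pow_right k hr)
      (orderOf_dvd_of_pow_eq_one h2) (orderOf_dvd_of_pow_eq_one h1)
  exact orderOf_eq_one_iff.mp h3

end Groups

section Eigen

/-- An operator with `f ^ p = f` on a nonzero finite `𝔽_p`-space has an eigenvector. -/
theorem exists_eigvec {p : ℕ} [Fact p.Prime] {A : Type*} [AddCommGroup A] [Module (ZMod p) A]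
    [Finite A] [Nontrivial A] (f : Module.End (ZMod p) A) (hf : f ^ p = f) :
    ∃ (μ : ZMod p) (v : A), v ≠ 0 ∧ f v = μ • v := by
  have h1 : aeval f (X ^ p - X : (ZMod p)[X]) = 0 := by
    simp [hf]
  have h2 : minpoly (ZMod p) f ∣ (X ^ p - X : (ZMod p)[X]) := minpoly.dvd _ _ h1
  have h3 : (minpoly (ZMod p) f).Splits :=
    Polynomial.Splits.of_dvd (GaloisField.splits_zmod_X_pow_sub_X p) (by
      intro h0
      have := FiniteField.X_pow_card_sub_X_natDegree_eq (ZMod p) (Fact.out : p.Prime).one_lt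
      rw [h0] at this
      simp at this
      exact (Fact.out : p.Prime).ne_zero this.symm) h2
  have hint : IsIntegral (ZMod p) f := Algebra.IsIntegral.isIntegral f
  have h4 : (minpoly (ZMod p) f).degree ≠ 0 := (minpoly.degree_pos hint).ne'
  obtain ⟨μ, hμ⟩ := h3.exists_eval_eq_zero h4
  have h5 : f.HasEigenvalue μ := Module.End.hasEigenvalue_of_isRoot hμ
  obtain ⟨v, hv⟩ := h5.exists_hasEigenvector
  exact ⟨μ, v, hv.2, hv.apply_eq_smul⟩

/-- A commuting family of operators with `f ^ p = f` has a common eigenvector in every nonzero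
invariant subspace. -/
theorem exists_common_eigvec {p : ℕ} [Fact p.Prime] {A : Type*} [AddCommGroup A]
    [Module (ZMod p) A] [Finite A] (Hs : Set (Module.End (ZMod p) A))
    (hcomm : ∀ f ∈ Hs, ∀ g ∈ Hs, f * g = g * f) (hpow : ∀ f ∈ Hs, f ^ p = f) :
    ∀ n : ℕ, ∀ U : Submodule (ZMod p) A, Nat.card U = n → U ≠ ⊥ →
      (∀ f ∈ Hs, ∀ u ∈ U, f u ∈ U) →
      ∃ v ∈ U, v ≠ 0 ∧ ∀ f ∈ Hs, ∃ μ : ZMod p, f v = μ • v := by
  intro n
  induction n using Nat.strong_induction_on with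
  | _ n ih =>
    intro U hn hU hinv
    by_cases hsc : ∀ f ∈ Hs, ∃ μ : ZMod p, ∀ u ∈ U, f u = μ • u
    · obtain ⟨u, hu, hu0⟩ := Submodule.exists_mem_ne_zero_of_ne_bot hU
      refine ⟨u, hu, hu0, fun f hf => ?_⟩
      obtain ⟨μ, hμ⟩ := hsc f hf
      exact ⟨μ, hμ u hu⟩
    · push Not at hsc
      obtain ⟨f, hf, hnsc⟩ := hsc
      haveI : Nontrivial U := (Submodule.nontrivial_iff_ne_bot).mpr hU
      have hg : (f.restrict (hinv f hf)) ^ p = f.restrict (hinv f hf) := by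
        ext u
        rw [Module.End.pow_restrict]
        simp only [LinearMap.coe_restrict_apply]
        rw [hpow f hf]
      obtain ⟨μ, v, hv0, hv⟩ := exists_eigvec (f.restrict (hinv f hf)) hg
      have hv' : f (v : A) = μ • (v : A) := by
        have := congrArg (fun t : U => (t : A)) hv
        simpa using this
      set U' : Submodule (ZMod p) A := U ⊓ Module.End.eigenspace f μ with hU'
      have hU'ne : U' ≠ ⊥ := by
        intro h0
        have hmem : (v : A) ∈ U' := ⟨v.2, Module.End.mem_eigenspace_iff.mpr hv'⟩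
        rw [h0, Submodule.mem_bot] at hmem
        exact hv0 (Subtype.ext hmem)
      have hU'le : U' ≤ U := inf_le_left
      obtain ⟨u, hu, hfu⟩ := hnsc μ
      have hU'lt : (U' : Set A) ⊂ (U : Set A) := by
        refine ⟨hU'le, fun hle => hfu ?_⟩
        exact Module.End.mem_eigenspace_iff.mp (hle hu).2
      have hcard : Nat.card U' < n := by
        rw [← hn]
        have h1 : Nat.card U' = (U' : Set A).ncard := Nat.card_coe_set_eq _
        have h2 : Nat.card U = (U : Set A).ncard := Nat.card_coe_set_eq _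
        rw [h1, h2]
        exact Set.ncard_lt_ncard hU'lt (Set.toFinite _)
      have hinv' : ∀ g ∈ Hs, ∀ u ∈ U', g u ∈ U' := by
        intro g hg u hu
        refine ⟨hinv g hg u hu.1, ?_⟩
        show g u ∈ Module.End.eigenspace f μ
        rw [Module.End.mem_eigenspace_iff]
        have h1 : f u = μ • u := Module.End.mem_eigenspace_iff.mp hu.2
        have h2 : f (g u) = g (f u) := by
          have := congrArg (fun t : Module.End (ZMod p) A => t u) (hcomm f hf g hg)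
          exact this
        rw [h2, h1, map_smul]
      obtain ⟨w, hw, hw0, hw'⟩ := ih _ hcard U' rfl hU'ne hinv'
      exact ⟨w, hU'le hw, hw0, hw'⟩

/-- Auxiliary form of `exists_common_eigen`, with the module structure given. -/
theorem exists_common_eigen_aux {W H : Type*} [CommGroup W] [Finite W] [Nontrivial W] [Group H]
    (p : ℕ) [Fact p.Prime] [Module (ZMod p) (Additive W)] (ρ : H →* Monoid.End W)
    (hcomm : ∀ a b : H, a * b = b * a) (hexp : ∀ a : H, a ^ (p - 1) = 1) :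
    ∃ w : W, w ≠ 1 ∧ ∀ a : H, ∃ k : ℕ, ρ a w = w ^ k := by
  have hp : p.Prime := Fact.out
  let F : H → (Additive W →ₗ[ZMod p] Additive W) := fun a =>
    (MonoidHom.toAdditive (ρ a : W →* W)).toZModLinearMap p
  have hFapp : ∀ (a : H) (x : Additive W),
      (F a) x = Additive.ofMul ((ρ a) (Additive.toMul x)) :=
    fun a x => rfl
  have hFmul : ∀ a b, F (a * b) = F a * F b := by
    intro a b
    ext x
    rw [hFapp, Module.End.mul_apply, hFapp, hFapp, map_mul]
    rfl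
  have hFone : F 1 = 1 := by
    ext x
    rw [hFapp, map_one]
    rfl
  have hFpow : ∀ a (n : ℕ), F (a ^ n) = F a ^ n := by
    intro a n
    induction n with
    | zero => rw [pow_zero, pow_zero, hFone]
    | succ n ih => rw [pow_succ, pow_succ, hFmul, ih]
  have h1 : ∀ f ∈ Set.range F, ∀ g ∈ Set.range F, f * g = g * f := by
    rintro _ ⟨a, rfl⟩ _ ⟨b, rfl⟩
    rw [← hFmul, ← hFmul, hcomm]
  have h2 : ∀ f ∈ Set.range F, f ^ p = f := by
    rintro _ ⟨a, rfl⟩
    rw [← hFpow]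
    congr 1
    rw [show a ^ p = a ^ (p - 1) * a from by rw [← pow_succ, Nat.sub_add_cancel hp.one_le],
      hexp, one_mul]
  have htop : (⊤ : Submodule (ZMod p) (Additive W)) ≠ ⊥ := by
    intro h0
    obtain ⟨x, y, hxy⟩ := exists_pair_ne (Additive W)
    have hx : x ∈ (⊥ : Submodule (ZMod p) (Additive W)) := h0 ▸ Submodule.mem_top
    have hy : y ∈ (⊥ : Submodule (ZMod p) (Additive W)) := h0 ▸ Submodule.mem_top
    rw [Submodule.mem_bot] at hx hy
    exact hxy (hx.trans hy.symm)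
  obtain ⟨v, -, hv0, hv⟩ := exists_common_eigvec (Set.range F) h1 h2 _ ⊤ rfl htop
    (fun _ _ _ _ => Submodule.mem_top)
  refine ⟨Additive.toMul v, ?_, fun a => ?_⟩
  · intro h0
    exact hv0 h0
  · obtain ⟨μ, hμ⟩ := hv (F a) ⟨a, rfl⟩
    refine ⟨μ.val, ?_⟩
    have e : μ • v = μ.val • v := by
      conv_lhs => rw [← ZMod.natCast_zmod_val μ]
      exact Nat.cast_smul_eq_nsmul (ZMod p) μ.val v
    rw [e, hFapp] at hμ
    exact hμ

/-- A commutative group of exponent dividing `p - 1` acting on a nontrivial finite elementary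
abelian `p`-group has a common eigenvector. -/
theorem exists_common_eigen {W H : Type*} [CommGroup W] [Finite W] [Nontrivial W] [Group H]
    (p : ℕ) [Fact p.Prime] (hW : ∀ w : W, w ^ p = 1) (ρ : H →* Monoid.End W)
    (hcomm : ∀ a b : H, a * b = b * a) (hexp : ∀ a : H, a ^ (p - 1) = 1) :
    ∃ w : W, w ≠ 1 ∧ ∀ a : H, ∃ k : ℕ, ρ a w = w ^ k := by
  have hmod : ∀ x : Additive W, p • x = 0 := fun x => by
    show Additive.ofMul (Additive.toMul x ^ p) = 0
    rw [hW]
    rfl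
  letI : Module (ZMod p) (Additive W) := AddCommGroup.zmodModule hmod
  exact exists_common_eigen_aux p ρ hcomm hexp

/-- Variant of `exists_common_eigen` for a group with a commutativity hypothesis. -/
theorem exists_common_eigen' {W H : Type*} [Group W] [Finite W] [Nontrivial W] [Group H]
    (p : ℕ) [Fact p.Prime] (hWc : ∀ a b : W, a * b = b * a) (hW : ∀ w : W, w ^ p = 1)
    (ρ : H →* Monoid.End W)
    (hcomm : ∀ a b : H, a * b = b * a) (hexp : ∀ a : H, a ^ (p - 1) = 1) :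
    ∃ w : W, w ≠ 1 ∧ ∀ a : H, ∃ k : ℕ, ρ a w = w ^ k := by
  letI : CommGroup W := { (inferInstance : Group W) with mul_comm := hWc }
  exact exists_common_eigen p hW ρ hcomm hexp

end Eigen

end Cfsg.Agent.Lib.Helper88.CyclicSec
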