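import Mathlib
import Cfsg.Prelude.Def_FusionSystem
import Cfsg.Agent.Lib.Helper88.FSBase
import Cfsg.Agent.H84.SCEss
import Cfsg.Agent.H84.Transv

set_option autoImplicit false

/-! The torus argument for an essential subgroup `P` with `P / Z(P)` of order `p ^ 2` and index
`p` in `S` (piece R5 of S5289). -/

namespace Cfsg.Agent.Lib.Helper88.CaseB

open Cfsg Cfsg.FusionSystem
open Cfsg.Agent.Lib.Helper24.ConjAction

section pure

variable {Y : Type*} [Group Y]

/-- Conjugating an inner automorphism by an automorphism. -/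
theorem conj_conj (φ : MulAut Y) (x : Y) : φ * MulAut.conj x * φ⁻¹ = MulAut.conj (φ x) := by
  ext y
  simp [MulAut.mul_apply, MulAut.conj_apply]

/-- Two elements inducing the same inner automorphism differ by a central element. -/
theorem inv_mul_mem_center {a c : Y} (h : MulAut.conj a = MulAut.conj c) :
    c⁻¹ * a ∈ Subgroup.center Y := by
  rw [Subgroup.mem_center_iff]
  intro y
  have h1 : a * y * a⁻¹ = c * y * c⁻¹ := by
    have := congrArg (fun f : MulAut Y => f y) h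
    simpa [MulAut.conj_apply] using this
  calc y * (c⁻¹ * a) = c⁻¹ * (c * y * c⁻¹) * a := by group
    _ = c⁻¹ * (a * y * a⁻¹) * a := by rw [h1]
    _ = c⁻¹ * a * y := by group

/-- The conjugation action of `Aut(Y)` on `Inn(Y)`. -/
noncomputable def rho (Y : Type*) [Group Y] : MulAut Y →* MulAut (Inn Y) := MulAut.conjNormal

theorem rho_apply (φ : MulAut Y) (v : Inn Y) :
    ((rho Y φ v : Inn Y) : MulAut Y) = φ * (v : MulAut Y) * φ⁻¹ := rfl

/-- An automorphism acting trivially on `Inn(Y)` is trivial modulo the centre. -/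
theorem mul_mem_center_of_rho_eq_one {φ : MulAut Y} (h : rho Y φ = 1) (x : Y) :
    x⁻¹ * φ x ∈ Subgroup.center Y := by
  apply inv_mul_mem_center
  have h1 := congrArg (fun f : MulAut (Inn Y) => ((f ⟨MulAut.conj x, x, rfl⟩ : Inn Y) : MulAut Y)) h
  simp only [rho_apply, MulAut.one_apply] at h1
  rw [← conj_conj]
  exact h1

end pure


section fus

open Cfsg.Agent.H84

variable {Ω : Type*} [Group Ω] {S : Subgroup Ω}

/-- [R5] modulo [R7]: the torus argument for an essential subgroup `P` with `P / Z(P)` of order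
`p ^ 2` and index `p` in `S`, given the torus lemma for `Inn P`. -/
theorem caseB_of_torus {Ω : Type*} [Group Ω] {S : Subgroup Ω} [Finite S] {p : ℕ} [Fact p.Prime]
    (hp5 : 5 ≤ p) (hS : IsPGroup p S) (F : Cfsg.FusionSystem S) (hF : F.IsSaturated p)
    (A : Subgroup Ω) (hcomm : ∀ s ∈ S, ∀ u ∈ S, u⁻¹ * (s * u * s⁻¹) ∈ A)
    (P : Subgroup Ω) (hP : F.IsEssential p P)
    (hInn : Nat.card (Cfsg.Inn ↥P) = p ^ 2)
    (hZ : ∀ u ∈ P, (∀ v ∈ P, u * v = v * u) → u ∈ A ∧ ∀ s ∈ S, s * u = u * s)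
    (t : Ω) (htS : t ∈ S) (htN : t ∈ Subgroup.normalizer (P : Set Ω)) (htP : t ∉ P)
    (htp : t ^ p ∈ P) (hgen : P ⊔ Subgroup.zpowers t = S)
    (torus_sq : ∀ (t g : MulAut (Cfsg.Inn ↥P)), t ^ p = 1 →
      ¬ IsPGroup p (Subgroup.closure ({t, g * t * g⁻¹} : Set (MulAut (Cfsg.Inn ↥P)))) →
      ∀ (a b : ℕ), a * b ≡ 1 [MOD p] →
      ∃ δ ∈ Subgroup.closure ({t, g * t * g⁻¹} : Set (MulAut (Cfsg.Inn ↥P))),
        (∀ x : Cfsg.Inn ↥P, ∃ y : Cfsg.Inn ↥P, δ x * x ^ b = y⁻¹ * t y) ∧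
          δ * t = t ^ (a * a) * δ) :
    ∃ α : MulAut S, α ∈ F.autGroup S ∧ ∃ b : ℕ, 2 * b ≡ 1 [MOD p] ∧
      ∀ (g : Ω) (hg : g ∈ S), g ∈ P → ((α ⟨g, hg⟩ : S) : Ω) * g ^ b ∈ A := by
  have hp : p.Prime := Fact.out
  have hp2 : p ≠ 2 := by omega
  obtain ⟨hPS, hC⟩ := SCEss.ess_centric F hP
  have hfinP : Finite P := Finite.of_injective (Subgroup.inclusion hPS)
    (Subgroup.inclusion_injective hPS)
  have hPp : IsPGroup p P := hS.to_le hPS
  obtain ⟨ct, hct⟩ : ∃ ct : MulAut P, ct = conjAut P t htN := ⟨_, rfl⟩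
  have hctF : ct ∈ F.autGroup P := hct ▸ SCEss.conjAut_mem_autGroup F hPS htS htN
  have hct1 : ct ∉ Inn P := hct ▸ SCEss.conjAut_not_inn hPS hC htS htN htP
  have hctp : ct ^ p ∈ Inn P := hct ▸ SCEss.conjAut_pow_inn htN htp
  have hctx : ∀ x : P, ((ct x : P) : Ω) = t * x * t⁻¹ := fun x => by rw [hct]; rfl
  obtain ⟨γ, hγF, hnp⟩ := SCEss.exists_aut_not_pgroup F hP hctF hct1 hctp
  -- the centre of `P` is central in `S`
  have hZc : ∀ z : P, z ∈ Subgroup.center P → (z : Ω) ∈ A ∧ ∀ s ∈ S, s * (z : Ω) = z * s := by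
    intro z hz
    apply hZ z z.2
    intro v hv
    have := (Subgroup.mem_center_iff.mp hz) ⟨v, hv⟩
    exact (congrArg Subtype.val this).symm
  -- automorphisms fixing the centre pointwise
  have hctZ : ct ∈ SCEss.triv (⊤ : Subgroup P) (Subgroup.center P) := by
    refine ⟨fun x => Subgroup.mem_top _, fun x hx => ?_⟩
    apply Subtype.ext
    rw [hctx, (hZc x hx).2 t htS]
    group
  have hcharZ : ∀ (β : MulAut P) (x : P), x ∈ Subgroup.center P → β x ∈ Subgroup.center P := by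
    intro β x hx
    have h1 := Subgroup.characteristic_iff_comap_eq.mp
      (inferInstance : (Subgroup.center P).Characteristic) β⁻¹
    have h2 : β x ∈ (Subgroup.center P).comap (β⁻¹).toMonoidHom := by
      show β⁻¹ (β x) ∈ Subgroup.center P
      rw [MulAut.inv_apply_self]
      exact hx
    rwa [h1] at h2
  have hγZ : γ * ct * γ⁻¹ ∈ SCEss.triv (⊤ : Subgroup P) (Subgroup.center P) :=
    SCEss.conj_mem_triv hctZ (fun x _ => Subgroup.mem_top _) (fun x hx => hcharZ γ⁻¹ x hx)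
  obtain ⟨K, hKdef⟩ : ∃ K : Subgroup (MulAut P),
      K = Subgroup.closure ({ct, γ * ct * γ⁻¹} : Set (MulAut P)) := ⟨_, rfl⟩
  have hKZ : K ≤ SCEss.triv (⊤ : Subgroup P) (Subgroup.center P) := by
    rw [hKdef, Subgroup.closure_le]
    intro β hβ
    simp only [Set.mem_insert_iff, Set.mem_singleton_iff] at hβ
    rcases hβ with rfl | rfl
    · exact hctZ
    · exact hγZ
  have hKF : K ≤ F.autGroup P := by
    rw [hKdef, Subgroup.closure_le]
    intro β hβ
    simp only [Set.mem_insert_iff, Set.mem_singleton_iff] at hβ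
    rcases hβ with rfl | rfl
    · exact hctF
    · exact Subgroup.mul_mem _ (Subgroup.mul_mem _ hγF hctF) (Subgroup.inv_mem _ hγF)
  -- the p-group of automorphisms trivial on `P / Z(P)` and on `Z(P)`
  have hTp : IsPGroup p (SCEss.triv (Subgroup.center P) (Subgroup.center P)) :=
    SCEss.isPGroup_triv_omega hp2 hPp _ _ (fun x hx _ => hx)
  have hker : ∀ φ : MulAut P, rho P φ = 1 →
      φ ∈ SCEss.triv (⊤ : Subgroup P) (Subgroup.center P) →
      φ ∈ SCEss.triv (Subgroup.center P) (Subgroup.center P) := fun φ h1 h2 =>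
    ⟨fun x => mul_mem_center_of_rho_eq_one h1 x, h2.2⟩
  -- `Inn P` is abelian
  have hVc : ∀ a b : Inn P, a * b = b * a := fun a b =>
    (IsPGroup.isMulCommutative_of_card_eq_prime_sq hInn).is_comm.comm a b
  have hrho_inn : ∀ v : MulAut P, v ∈ Inn P → rho P v = 1 := by
    intro v hv
    ext w : 1
    apply Subtype.ext
    rw [rho_apply, MulAut.one_apply]
    have h1 := congrArg Subtype.val (hVc ⟨v, hv⟩ w)
    simp only [Subgroup.coe_mul] at h1
    rw [h1, mul_inv_cancel_right]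
  obtain ⟨τ, hτ⟩ : ∃ τ : MulAut (Inn P), τ = rho P ct := ⟨_, rfl⟩
  have hτp : τ ^ p = 1 := by
    rw [hτ, ← map_pow]
    exact hrho_inn _ hctp
  -- the image of `K` is not a `p`-group
  have hmap : K.map (rho P) =
      Subgroup.closure ({τ, rho P γ * τ * (rho P γ)⁻¹} : Set (MulAut (Inn P))) := by
    rw [hKdef, MonoidHom.map_closure, Set.image_pair, hτ, map_mul, map_mul, map_inv]
  have hnp' : ¬ IsPGroup p
      (Subgroup.closure ({τ, rho P γ * τ * (rho P γ)⁻¹} : Set (MulAut (Inn P)))) := by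
    intro hpg
    rw [← hmap] at hpg
    apply hnp
    rw [← hKdef]
    have hkerp : IsPGroup p ((rho P).comp K.subtype).ker := by
      intro x
      have hx : rho P (x : K) = 1 := x.2
      have hmem : ((x : K) : MulAut P) ∈ SCEss.triv (Subgroup.center P) (Subgroup.center P) :=
        hker _ hx (hKZ (x : K).2)
      obtain ⟨k, hk⟩ := hTp ⟨_, hmem⟩
      refine ⟨k, ?_⟩
      apply Subtype.ext
      apply Subtype.ext
      have := congrArg Subtype.val hk
      simpa using this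
    have h1 := hpg.comap_of_ker_isPGroup ((rho P).comp K.subtype) hkerp
    intro x
    obtain ⟨k, hk⟩ := h1 ⟨x, ⟨x.1, x.2, rfl⟩⟩
    refine ⟨k, ?_⟩
    have := congrArg Subtype.val hk
    simpa using this
  -- the torus element
  obtain ⟨b, hb⟩ : ∃ b : ℕ, 2 * b ≡ 1 [MOD p] := by
    refine ⟨(p + 1) / 2, ?_⟩
    have hodd : p % 2 = 1 := by
      rcases hp.eq_two_or_odd with h | h
      · exact absurd h hp2
      · exact h
    have h2 : 2 * ((p + 1) / 2) = p + 1 := by omega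
    rw [h2]
    show (p + 1) % p = 1 % p
    rw [Nat.add_mod_left]
  obtain ⟨δ, hδK, hδ1, hδ2⟩ := torus_sq τ (rho P γ) hτp hnp' 2 b hb
  rw [← hmap] at hδK
  obtain ⟨φ, hφK, hφδ⟩ := hδK
  have hφF : φ ∈ F.autGroup P := hKF hφK
  have hφZ := hKZ hφK
  -- `φ ct φ⁻¹ = c_e ct⁴` for some `e ∈ P`
  obtain ⟨ε, hε⟩ : ∃ ε : MulAut P, ε = φ * ct * φ⁻¹ * (ct ^ (2 * 2))⁻¹ := ⟨_, rfl⟩
  have hεrho : rho P ε = 1 := by
    rw [hε, map_mul, map_mul, map_mul, map_inv, map_inv, map_pow, hφδ, ← hτ]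
    have h1 : δ * τ * δ⁻¹ = τ ^ (2 * 2) := by rw [hδ2]; group
    rw [h1, mul_inv_cancel]
  have hεZ : ε ∈ SCEss.triv (⊤ : Subgroup P) (Subgroup.center P) := by
    rw [hε]
    exact Subgroup.mul_mem _ (Subgroup.mul_mem _ (Subgroup.mul_mem _ hφZ hctZ)
      (Subgroup.inv_mem _ hφZ)) (Subgroup.inv_mem _ (Subgroup.pow_mem _ hctZ _))
  have hεF : ε ∈ F.autGroup P := by
    rw [hε]
    exact Subgroup.mul_mem _ (Subgroup.mul_mem _ (Subgroup.mul_mem _ hφF hctF)
      (Subgroup.inv_mem _ hφF)) (Subgroup.inv_mem _ (Subgroup.pow_mem _ hctF _))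
  have hεinn : ε ∈ Inn P := by
    apply SCEss.normal_pSubgroup_le_inn F hP (SCEss.triv (Subgroup.center P) (Subgroup.center P))
      ?_ hTp ⟨hker ε hεrho hεZ, hεF⟩
    intro β _ k hk
    exact SCEss.conj_mem_triv hk (fun x hx => hcharZ β x hx) (fun x hx => hcharZ β⁻¹ x hx)
  obtain ⟨e, he⟩ := hεinn
  have hφct : φ * ct = MulAut.conj e * ct ^ (2 * 2) * φ := by
    have : (MulAut.conj e : MulAut P) = ε := he
    rw [this, hε]
    group
  -- extension of `φ` to `S`
  have hth : ∀ x : P, ((φ (conjAut P t htN x) : P) : Ω) =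
      ((e : Ω) * t ^ (2 * 2)) * ((φ x : P) : Ω) * ((e : Ω) * t ^ (2 * 2))⁻¹ := by
    intro x
    have h1 := congrArg (fun f : MulAut P => ((f x : P) : Ω)) hφct
    simp only [MulAut.mul_apply] at h1
    rw [← hct, h1, MulAut.conj_apply]
    simp only [Subgroup.coe_mul, Subgroup.coe_inv]
    rw [hct, SCEss.conjAut_pow]
    group
  obtain ⟨N, ψ, hψ, hPN, htm, hψP, -, -⟩ := SCEss.exists_ext hS F hF hP hφF htS htN
    (S.mul_mem (hPS e.2) (S.pow_mem htS _)) hth
  have hNS : N = S := by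
    apply le_antisymm (FSBase.dom_le F hψ)
    rw [← hgen]
    exact sup_le hPN ((Subgroup.zpowers_le).mpr htm)
  subst hNS
  obtain ⟨α, hαF, hα⟩ := FSBase.exists_aut_of_mem F hψ
    (FSBase.range_eq_of_finite F hψ (fun x => FSBase.val_mem F hψ x))
  refine ⟨α, hαF, b, hb, fun g hg hgP => ?_⟩
  rw [hα, hψP ⟨g, hgP⟩ hg]
  -- the torus relation on `c_g`
  obtain ⟨y, hy⟩ := hδ1 ⟨MulAut.conj (⟨g, hgP⟩ : P), ⟨g, hgP⟩, rfl⟩
  obtain ⟨u, hu⟩ := y.2
  have hy' := congrArg (Subtype.val : Inn P → MulAut P) hy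
  rw [← hφδ, hτ] at hy'
  simp only [Subgroup.coe_mul, Subgroup.coe_pow, Subgroup.coe_inv, rho_apply] at hy'
  rw [← hu, conj_conj, conj_conj, ← map_pow, ← map_mul, ← map_inv, ← map_mul] at hy'
  have hz := inv_mul_mem_center hy'
  obtain ⟨hzA, -⟩ := hZc _ hz
  have hcA : ((u⁻¹ * ct u : P) : Ω) ∈ A := by
    simp only [Subgroup.coe_mul, Subgroup.coe_inv]
    rw [hctx]
    exact hcomm t htS u (hPS u.2)
  have := A.mul_mem hcA hzA
  simp only [Subgroup.coe_mul, Subgroup.coe_inv, Subgroup.coe_pow, mul_inv_cancel_left] at this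
  simpa using this

end fus

end Cfsg.Agent.Lib.Helper88.CaseB
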