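import Mathlib
import Cfsg.Prelude.Def_FusionSystem
import Cfsg.Agent.Lib.Helper87.FSBasic

set_option autoImplicit false

/-! The inner fusion system of a finite `p`-group is saturated. -/

namespace Cfsg.Agent.Lib.Helper88.InnerSat

open Cfsg Cfsg.FusionSystem
open Cfsg.Agent.Lib.Helper87

variable {Ω : Type*} [Group Ω]

/-- Membership in the inner fusion system. -/
theorem mem_inner_hom {Q P : Subgroup Ω} (φ : P →* Ω) :
    φ ∈ (innerFusionSystem Q).Hom P ↔ P ≤ Q ∧ ∃ g ∈ Q, ∀ x : P, φ x = g * (x : Ω) * g⁻¹ :=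
  Iff.rfl

/-- The inclusion of a subgroup is a map of the inner fusion system. -/
theorem subtype_mem_inner {Q P : Subgroup Ω} (hP : P ≤ Q) :
    P.subtype ∈ (innerFusionSystem Q).Hom P :=
  ⟨hP, 1, Q.one_mem, fun x => by simp⟩

/-- In the inner fusion system of `Q`, the automizer of `P ≤ Q` is `Aut_Q(P)`. -/
theorem autGroup_inner {Q P : Subgroup Ω} (hP : P ≤ Q) :
    (innerFusionSystem Q).autGroup P = autInducedBy Q P := by
  ext α
  rw [FSBasic.mem_autGroup_iff _ hP, FSBasic.mem_autInducedBy_iff]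
  constructor
  · rintro ⟨-, g, hg, h⟩
    exact ⟨g, hg, fun x => h x⟩
  · rintro ⟨g, hg, h⟩
    exact ⟨hP, g, hg, fun x => h x⟩

/-- Every subgroup of `Q` is fully automized in the inner fusion system of the `p`-group `Q`. -/
theorem fullyAutomized_inner {Q : Subgroup Ω} (p : ℕ) [Fact p.Prime] (hQ : IsPGroup p Q)
    {P : Subgroup Ω} (hP : P ≤ Q) : (innerFusionSystem Q).IsFullyAutomized p P := by
  refine ⟨hP, ?_⟩
  have hp : IsPGroup p ((innerFusionSystem Q).autGroup P) := by
    rw [autGroup_inner hP]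
    exact FSBasic.isPGroup_autInducedBy hQ P
  have htop : (autInducedBy Q P).subgroupOf ((innerFusionSystem Q).autGroup P) = ⊤ := by
    rw [autGroup_inner hP]
    exact Subgroup.subgroupOf_self _
  have hptop : IsPGroup p (⊤ : Subgroup ((innerFusionSystem Q).autGroup P)) :=
    hp.to_subgroup _
  refine ⟨⟨⊤, hptop, fun _ hle => top_le_iff.mp hle⟩, ?_⟩
  exact htop.symm

/-- Every subgroup of `Q` is receptive in the inner fusion system of `Q`. -/
theorem receptive_inner {Q : Subgroup Ω} {P : Subgroup Ω} (hP : P ≤ Q) :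
    (innerFusionSystem Q).IsReceptive P := by
  refine ⟨hP, ?_⟩
  rintro P₀ φ ⟨hP₀, g, hg, h⟩ -
  have hle : extender Q P₀ φ ≤ Q := by
    unfold extender
    rw [Subgroup.closure_le]
    rintro u ⟨hu, -⟩
    exact hu
  refine ⟨conjHom (extender Q P₀ φ) g, ⟨hle, g, hg, fun x => rfl⟩, ?_⟩
  intro x hx hN
  exact (h ⟨x, hx⟩).symm

/-- The inner fusion system of a `p`-group is saturated. -/
theorem inner_isSaturated {Q : Subgroup Ω} (p : ℕ) [Fact p.Prime] (hQ : IsPGroup p Q) :
    (innerFusionSystem Q).IsSaturated p := by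
  intro P hP
  refine ⟨P, ⟨P.subtype, subtype_mem_inner hP, ?_⟩, fullyAutomized_inner p hQ hP,
    receptive_inner hP⟩
  exact Subgroup.range_subtype P

/-- The inner fusion system of `Q ≤ S` is a subsystem of every fusion system over `S`. -/
theorem inner_isSubsystemOf {S Q : Subgroup Ω} (F : FusionSystem S) (hQ : Q ≤ S) :
    (innerFusionSystem Q).IsSubsystemOf F := by
  rintro P φ ⟨hP, g, hg, h⟩
  exact FSBasic.mem_of_eq F (F.conj_mem (hP.trans hQ) (hQ hg)) (fun x => h x)

end Cfsg.Agent.Lib.Helper88.InnerSat
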