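import Mathlib

set_option autoImplicit false

/-! Relative trace for a group `A` acting on a commutative `p`-group `M`: if the subgroup `P` has
index prime to `p`, the fixed points of `A` are a direct factor of the fixed points of `P`. -/

namespace Cfsg.Agent.Lib.Helper88.RelTrace

variable {M : Type*} [CommGroup M] {A : Type*} [Group A]

/-- The map `aP ↦ a • v` on cosets (through representatives). -/
noncomputable def cosetMap (ρ : A →* MulAut M) (P : Subgroup A) (v : M) (c : A ⧸ P) : M :=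
  ρ c.out v

theorem cosetMap_mk (ρ : A →* MulAut M) (P : Subgroup A) {v : M} (hv : ∀ b ∈ P, ρ b v = v)
    (a : A) : cosetMap ρ P v (a : A ⧸ P) = ρ a v := by
  unfold cosetMap
  have h : ((a : A ⧸ P)).out⁻¹ * a ∈ P := QuotientGroup.eq.mp (QuotientGroup.out_eq' _)
  have h2 := hv _ h
  rw [map_mul, MulAut.mul_apply, map_inv, MulAut.inv_apply, MulEquiv.symm_apply_eq] at h2
  exact h2.symm

theorem apply_cosetMap (ρ : A →* MulAut M) (P : Subgroup A) {v : M} (hv : ∀ b ∈ P, ρ b v = v)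
    (b : A) (c : A ⧸ P) : ρ b (cosetMap ρ P v c) = cosetMap ρ P v (b • c) := by
  induction c using QuotientGroup.induction_on with
  | H a =>
    have e : b • (a : A ⧸ P) = ((b * a : A) : A ⧸ P) := rfl
    rw [e, cosetMap_mk ρ P hv, cosetMap_mk ρ P hv, map_mul, MulAut.mul_apply]

/-- The relative trace `v ↦ ∏_{aP} a • v`. -/
noncomputable def tr (ρ : A →* MulAut M) (P : Subgroup A) [Fintype (A ⧸ P)] (v : M) : M :=
  ∏ c : A ⧸ P, cosetMap ρ P v c

theorem tr_mul (ρ : A →* MulAut M) (P : Subgroup A) [Fintype (A ⧸ P)] (v w : M) :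
    tr ρ P (v * w) = tr ρ P v * tr ρ P w := by
  unfold tr cosetMap
  rw [← Finset.prod_mul_distrib]
  exact Finset.prod_congr rfl (fun c _ => map_mul _ _ _)

theorem tr_one (ρ : A →* MulAut M) (P : Subgroup A) [Fintype (A ⧸ P)] : tr ρ P 1 = 1 := by
  unfold tr cosetMap
  simp

theorem tr_inv (ρ : A →* MulAut M) (P : Subgroup A) [Fintype (A ⧸ P)] (v : M) :
    tr ρ P v⁻¹ = (tr ρ P v)⁻¹ := by
  unfold tr cosetMap
  rw [← Finset.prod_inv_distrib]
  exact Finset.prod_congr rfl (fun c _ => map_inv _ _)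

theorem apply_tr (ρ : A →* MulAut M) (P : Subgroup A) [Fintype (A ⧸ P)] {v : M}
    (hv : ∀ b ∈ P, ρ b v = v) (b : A) : ρ b (tr ρ P v) = tr ρ P v := by
  unfold tr
  rw [map_prod, Finset.prod_congr rfl (fun c _ => apply_cosetMap ρ P hv b c)]
  exact Fintype.prod_equiv (MulAction.toPerm b) _ _ (fun c => rfl)

theorem tr_of_fixed (ρ : A →* MulAut M) (P : Subgroup A) [Fintype (A ⧸ P)] {v : M}
    (hv : ∀ a, ρ a v = v) : tr ρ P v = v ^ P.index := by
  unfold tr cosetMap
  rw [Finset.prod_congr rfl (fun c _ => hv _), Finset.prod_const, Finset.card_univ,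
    Subgroup.index, Nat.card_eq_fintype_card]

/-- If `P ≤ A` has index prime to `p` and `A` acts on the commutative `p`-group `M`, then the fixed
points of `A` have a complement in the fixed points of `P`. -/
theorem exists_complement [Finite A] (p : ℕ) [Fact p.Prime] (hM : IsPGroup p M)
    (ρ : A →* MulAut M) (P : Subgroup A) (hP : p.Coprime P.index) :
    ∃ K : Subgroup M, (∀ k ∈ K, ∀ b ∈ P, ρ b k = k) ∧ (∀ k ∈ K, (∀ a, ρ a k = k) → k = 1) ∧
      ∀ v, (∀ b ∈ P, ρ b v = v) → ∃ w, (∀ a, ρ a w = w) ∧ w⁻¹ * v ∈ K := by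
  classical
  have : Fintype (A ⧸ P) := Fintype.ofFinite _
  refine ⟨{ carrier := {v | (∀ b ∈ P, ρ b v = v) ∧ tr ρ P v = 1}
            mul_mem' := ?_, one_mem' := ?_, inv_mem' := ?_ }, ?_, ?_, ?_⟩
  · rintro v w ⟨hv, hv1⟩ ⟨hw, hw1⟩
    exact ⟨fun b hb => by rw [map_mul, hv b hb, hw b hb], by rw [tr_mul, hv1, hw1, one_mul]⟩
  · exact ⟨fun b hb => map_one _, tr_one ρ P⟩
  · rintro v ⟨hv, hv1⟩
    exact ⟨fun b hb => by rw [map_inv, hv b hb], by rw [tr_inv, hv1, inv_one]⟩
  · rintro k ⟨hk, -⟩ b hb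
    exact hk b hb
  · rintro k ⟨-, hk1⟩ hkA
    rw [tr_of_fixed ρ P hkA] at hk1
    apply (hM.powEquiv hP).injective
    rw [IsPGroup.powEquiv_apply, IsPGroup.powEquiv_apply, hk1, one_pow]
  · intro v hv
    have ht : ∀ a, ρ a (tr ρ P v) = tr ρ P v := apply_tr ρ P hv
    have hwpow : ((hM.powEquiv hP).symm (tr ρ P v)) ^ P.index = tr ρ P v := by
      have := (hM.powEquiv hP).apply_symm_apply (tr ρ P v)
      rwa [IsPGroup.powEquiv_apply] at this
    have hwA : ∀ a, ρ a ((hM.powEquiv hP).symm (tr ρ P v)) = (hM.powEquiv hP).symm (tr ρ P v) := by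
      intro a
      apply (hM.powEquiv hP).injective
      rw [IsPGroup.powEquiv_apply, IsPGroup.powEquiv_apply, ← map_pow, hwpow, ht a]
    refine ⟨(hM.powEquiv hP).symm (tr ρ P v), hwA,
      ⟨fun b hb => by rw [map_mul, map_inv, hwA b, hv b hb], ?_⟩⟩
    rw [tr_mul, tr_inv, tr_of_fixed ρ P hwA, hwpow, inv_mul_cancel]

end Cfsg.Agent.Lib.Helper88.RelTrace
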