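import Mathlib
import Cfsg.Prelude.Def_FusionSystem
import Cfsg.Prelude.Def_FusionComponents
import Cfsg.Agent.H85.Basic
import Cfsg.Agent.H85.Aut
import Cfsg.Agent.Lib.Helper88.WNStmt

/-! Statements of the pieces for S5293: for `E` normal in the saturated `F` over `T`, the focal
subgroup of the centralizer system `C_F(T)` lies in the join of the subgroups of `C_S(T)`
centralizing `E`.

Notation in the sketches: `C₀ = C_S(T) = centralizerIn S T`; `X ≤ C₀` is *`E`-central* when every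
map of `E` extends to a map of `F` fixing `X` elementwise (`ECentral F E X`). -/

set_option autoImplicit false

namespace Cfsg.Agent.Lib.Helper88.FCStmt

open Cfsg Cfsg.FusionSystem Cfsg.Agent.Lib.Helper88.WNStmt

universe u

variable {Ω : Type*} [Group Ω] {S : Subgroup Ω}

/-- `X` centralizes `E` in `F`: every map of `E` is a map of the centralizer system `C_F(X)`. -/
def ECentral (F : FusionSystem S) {T : Subgroup Ω} (E : FusionSystem T) (X : Subgroup Ω) : Prop :=
  ∀ P : Subgroup Ω, E.Hom P ⊆ F.centralizerHom X P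

/-- GA: for `E` normal in `F`, every map of `E` with `E`-centric source has a good extension. -/
def GoodAll : Prop :=
  ∀ {Ω : Type u} [Group Ω] {S : Subgroup Ω} [Finite S] (p : ℕ) [Fact p.Prime] (_ : IsPGroup p S)
    (F : FusionSystem S) (_ : F.IsSaturated p) {T : Subgroup Ω} (E : FusionSystem T)
    (_ : E.IsNormalIn F p) (P : Subgroup Ω) (_ : E.IsCentric P) (φ : P →* Ω),
    φ ∈ E.Hom P → GoodExt F T φ

/-- CGEN: a saturated fusion system is generated by its maps with centric source. -/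
def CentGen : Prop :=
  ∀ {Ω : Type u} [Group Ω] {T : Subgroup Ω} [Finite T] (p : ℕ) [Fact p.Prime] (_ : IsPGroup p T)
    (E : FusionSystem T) (_ : E.IsSaturated p) (E' : FusionSystem T),
    (∀ P : Subgroup Ω, E.IsCentric P → E.Hom P ⊆ E'.Hom P) → ∀ P : Subgroup Ω, E.Hom P ⊆ E'.Hom P

/-- CCRIT: a subgroup `X` of `C_S(T)` centralizes `E` as soon as every map of `E` with
`E`-centric source extends to a map of `F` fixing `X` elementwise. -/
def CentCrit : Prop :=
  ∀ {Ω : Type u} [Group Ω] {S : Subgroup Ω} [Finite S] (p : ℕ) [Fact p.Prime] (_ : IsPGroup p S)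
    (F : FusionSystem S) (_ : F.IsSaturated p) {T : Subgroup Ω} (E : FusionSystem T)
    (_ : E.IsNormalIn F p) (X : Subgroup Ω) (_ : X ≤ centralizerIn S T),
    (∀ P : Subgroup Ω, E.IsCentric P → ∀ φ ∈ E.Hom P, ∃ ψ ∈ F.Hom (P ⊔ X),
      (∀ x : P, ψ (Subgroup.inclusion le_sup_left x) = φ x) ∧
      ∀ x : X, ψ (Subgroup.inclusion le_sup_right x) = x) → ECentral F E X

/-- COMM: the commutator subgroup of `C_S(T)` centralizes `E`. -/
def CommCentral : Prop :=
  ∀ {Ω : Type u} [Group Ω] {S : Subgroup Ω} [Finite S] (p : ℕ) [Fact p.Prime] (_ : IsPGroup p S)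
    (F : FusionSystem S) (_ : F.IsSaturated p) {T : Subgroup Ω} (E : FusionSystem T)
    (_ : E.IsNormalIn F p), ECentral F E ⁅centralizerIn S T, centralizerIn S T⁆

/-- COP: coprime conjugacy. In a group, let `M` be an abelian subgroup of exponent dividing
`p ^ n`, normalized by `a`; if `a ^ m = 1 = g ^ m` with `m` prime to `p` and `g a⁻¹ ∈ M`, then
`g = ν⁻¹ a ν` for some `ν ∈ M` lying in the subgroup generated by `a` and `g`. -/
def CoprimeConj : Prop :=
  ∀ {G : Type u} [Group G] (p n m : ℕ) [Fact p.Prime] (_ : m.Coprime p) (M : Subgroup G)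
    (_ : ∀ x ∈ M, ∀ y ∈ M, x * y = y * x) (_ : ∀ x ∈ M, x ^ (p ^ n) = 1) (a g : G)
    (_ : ∀ x ∈ M, a * x * a⁻¹ ∈ M) (_ : a ^ m = 1) (_ : g ^ m = 1) (_ : g * a⁻¹ ∈ M),
    ∃ ν ∈ M, ν ∈ Subgroup.closure {a, g} ∧ g = ν⁻¹ * a * ν

/-- PPR: let `α` be an automorphism of `Y ≤ C_S(T)` in the centralizer system `C_F(T)`, of order
prime to `p`. Then for every `x ∈ Y` the cyclic subgroup generated by `x⁻¹ α(x)` centralizes
`E`. -/
def PPrimeCentral : Prop :=
  ∀ {Ω : Type u} [Group Ω] {S : Subgroup Ω} [Finite S] (p : ℕ) [Fact p.Prime] (_ : IsPGroup p S)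
    (F : FusionSystem S) (_ : F.IsSaturated p) {T : Subgroup Ω} (E : FusionSystem T)
    (_ : E.IsNormalIn F p) (Y : Subgroup Ω) (_ : Y ≤ centralizerIn S T) (α : MulAut Y)
    (_ : Y.subtype.comp α.toMonoidHom ∈ F.centralizerHom T Y) (m : ℕ) (_ : m.Coprime p)
    (_ : α ^ m = 1) (x : Y),
    ECentral F E (Subgroup.zpowers ((x : Ω)⁻¹ * ((α x : Y) : Ω)))

/-- GEN: a finite group is generated by a Sylow `p`-subgroup and its elements of order prime to
`p`. -/
def SylowGen : Prop :=
  ∀ {G : Type u} [Group G] [Finite G] (p : ℕ) [Fact p.Prime] (R : Sylow p G) (g : G),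
    g ∈ Subgroup.closure (((R : Subgroup G) : Set G) ∪ {h : G | (orderOf h).Coprime p})

/-- FOC: the statement S5293. -/
def FocalLe : Prop :=
  ∀ {Ω : Type u} [Group Ω] {S : Subgroup Ω} [Finite S] (p : ℕ) [Fact p.Prime] (_ : IsPGroup p S)
    (F : Cfsg.FusionSystem S) (_ : F.IsSaturated p)
    {T : Subgroup Ω} (E : Cfsg.FusionSystem T) (_ : E.IsNormalIn F p)
    (C : Subgroup Ω)
    (_ : C = sSup {X : Subgroup Ω | X ≤ Cfsg.FusionSystem.centralizerIn S T ∧
      ∀ P : Subgroup Ω, E.Hom P ⊆ F.centralizerHom X P})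
    (D : Cfsg.FusionSystem (Cfsg.FusionSystem.centralizerIn S T))
    (_ : F.IsCentralizerSystem T D), D.focalSubgroup ≤ C

end Cfsg.Agent.Lib.Helper88.FCStmt
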