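import Mathlib
import Cfsg.Prelude.Def_FusionSystem
import Cfsg.Prelude.Def_FusionComponents
import Cfsg.Agent.H85.PrimeIdx
import Cfsg.Agent.S5110
import Cfsg.Agent.Lib.Helper88.PResStmt

/-! Assembly of the existence of the `p'`-residual subsystem from the pieces. -/

set_option autoImplicit false

namespace Cfsg.Agent.Lib.Helper88.PResAsm

open Cfsg Cfsg.FusionSystem Cfsg.Agent.Lib.Helper88.PResStmt

universe u

theorem assembly (h1 : SatClosed.{u}) (h2 : ExtMem.{u}) (h3 : SatCentric.{u})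
    (h4 : GenCentric.{u}) {Ω : Type u} [Group Ω] {S : Subgroup Ω} [Finite S] (p : ℕ)
    [Fact p.Prime] (hS : IsPGroup p S) (F : Cfsg.FusionSystem S) (hF : F.IsSaturated p) :
    ∃ E : Cfsg.FusionSystem S, F.IsPPrimeResidual p E := by
  have hcl := closed_resSys p F
  have hle := resSys_le p F
  obtain ⟨hidx, -, hcen⟩ := H85.primeIdx_main p hS F hF (resSys p F) hle hcl.1
  refine ⟨resSys p F, ?_, hidx, fun D hD hDF => resSys_min p F (h1 p hS F hF D hD hDF)⟩
  refine Cfsg.Agent.S5110.result p hS (resSys p F) {P | F.IsCentric P} (fun P hP => hP.1)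
    ?_ ?_ ?_ ?_
  · intro P hP Q hPQ
    obtain ⟨φ, hφ, hφQ⟩ := hPQ
    exact H85.isCentric_of_isConj F hP ⟨φ, hle P hφ, hφQ⟩
  · intro P hP
    exact h3 p hS F hF (resSys p F) hle hcl (h2 p hS F hF (resSys p F) hle hcl) P hP
  · intro E' hE'
    exact h4 p hS F hF E' hE'
  · intro P hPc hPn
    exact absurd ((hcen P).mp hPc) hPn

end Cfsg.Agent.Lib.Helper88.PResAsm
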