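import Mathlib
import Cfsg.Prelude.Def_FusionSystem
import Cfsg.Prelude.Def_FusionComponents
import Cfsg.Agent.H85.Basic
import Cfsg.Agent.H85.Aut
import Cfsg.Agent.H85.Sat
import Cfsg.Agent.S5099
import Cfsg.Agent.Lib.Helper87.FSAlperin
import Cfsg.Agent.Lib.Helper88.FCStmt

/-! Piece FOC of S5293: the focal subgroup of `C_F(T)` lies in the join of the subgroups of
`C_S(T)` centralizing `E`. -/

set_option autoImplicit false

namespace Cfsg.Agent.Lib.Helper88.FCFOC

open Cfsg Cfsg.FusionSystem Cfsg.Agent.Lib.Helper88.FCStmt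
open scoped commutatorElement

universe u

theorem main (hCOMM : CommCentral.{u}) (hPPR : PPrimeCentral.{u}) (hGEN : SylowGen.{u}) :
    FocalLe.{u} := by
  intro Ω _ S _ p _ hS F hF T E hE C hC D hD
  have hE' := hE
  obtain ⟨⟨-, -, -, hTcl, -, -⟩, -⟩ := hE
  have hTS : T ≤ S := hTcl.1
  have hfinT : Finite T := H85.finite_of_le hTS
  have hC₀S : centralizerIn S T ≤ S := inf_le_left
  have hfinC : Finite ↥(centralizerIn S T) := H85.finite_of_le hC₀S
  have hC₀p : IsPGroup p ↥(centralizerIn S T) := hS.to_le hC₀S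
  -- `T` is fully centralized
  have hfc : F.IsFullyCentralized T := by
    refine ⟨hTS, ?_⟩
    rintro Q ⟨φ, hφ, rfl⟩
    have hle : φ.range ≤ T := by
      rintro _ ⟨x, rfl⟩
      exact hTcl.2 T le_rfl φ hφ x
    have heq : φ.range = T := by
      apply Subgroup.eq_of_le_of_card_ge hle
      exact (Nat.card_congr (MonoidHom.ofInjective (F.injective_of_mem hφ)).toEquiv).le
    rw [heq]
  have hDsat : D.IsSaturated p := Cfsg.Agent.S5099.result p hS F hF T hfc D hD
  -- subgroups centralizing `E` lie in `C`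
  have hle : ∀ X : Subgroup Ω, X ≤ centralizerIn S T → ECentral F E X → X ≤ C := by
    intro X hX hXE
    rw [hC]
    exact le_sSup ⟨hX, hXE⟩
  have hcommle : ⁅centralizerIn S T, centralizerIn S T⁆ ≤ centralizerIn S T := by
    rw [Subgroup.commutator_le]
    intro g₁ h₁ g₂ h₂
    rw [commutatorElement_def]
    exact Subgroup.mul_mem _ (Subgroup.mul_mem _ (Subgroup.mul_mem _ h₁ h₂)
      (Subgroup.inv_mem _ h₁)) (Subgroup.inv_mem _ h₂)
  have hcomm : ⁅centralizerIn S T, centralizerIn S T⁆ ≤ C :=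
    hle _ hcommle (hCOMM p hS F hF E hE')
  have hcommel : ∀ x ∈ centralizerIn S T, ∀ g ∈ centralizerIn S T,
      x⁻¹ * (g * x * g⁻¹) ∈ C := by
    intro x hx g hg
    apply hcomm
    have e : x⁻¹ * (g * x * g⁻¹) = ⁅x⁻¹, g⁆ := by
      rw [commutatorElement_def]; group
    rw [e]
    exact Subgroup.commutator_mem_commutator (Subgroup.inv_mem _ hx) hg
  -- the subsystem of `D` of the maps that are trivial modulo `C`
  let E' : FusionSystem (centralizerIn S T) :=
    { Hom := fun Q => {φ | φ ∈ D.Hom Q ∧ ∀ x : Q, (x : Ω)⁻¹ * φ x ∈ C}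
      le_of_mem := fun h => D.le_of_mem h.1
      injective_of_mem := fun h => D.injective_of_mem h.1
      conj_mem := by
        intro Q g hQ hg
        exact ⟨D.conj_mem hQ hg, fun x => hcommel x (hQ x.2) g hg⟩
      comp_mem := by
        intro P Q φ ψ hφ hψ h
        refine ⟨D.comp_mem hφ.1 hψ.1 h, fun x => ?_⟩
        have h1 := hφ.2 x
        have h2 := hψ.2 ⟨φ x, h x⟩
        have e : (x : Ω)⁻¹ * ψ ⟨φ x, h x⟩ =
            ((x : Ω)⁻¹ * φ x) * ((φ x)⁻¹ * ψ ⟨φ x, h x⟩) := by group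
        show (x : Ω)⁻¹ * ψ ⟨φ x, h x⟩ ∈ C
        rw [e]
        exact C.mul_mem h1 h2
      inv_mem := by
        intro P φ hφ
        obtain ⟨ψ, hψ, hψx⟩ := D.inv_mem hφ.1
        refine ⟨ψ, ⟨hψ, ?_⟩, hψx⟩
        rintro ⟨_, x, rfl⟩
        rw [hψx]
        have h1 := C.inv_mem (hφ.2 x)
        have e : ((x : Ω)⁻¹ * φ x)⁻¹ = (φ x)⁻¹ * (x : Ω) := by group
        rw [e] at h1
        exact h1 }
  have hE'mem : ∀ (Q : Subgroup Ω) (φ : Q →* Ω), φ ∈ E'.Hom Q ↔
      φ ∈ D.Hom Q ∧ ∀ x : Q, (x : Ω)⁻¹ * φ x ∈ C := fun Q φ => Iff.rfl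
  have key := Cfsg.Agent.Lib.Helper87.FSAlperin.alperin_induction hC₀p D hDsat E' (by
    intro Y hfa hrec _ α hα hr
    rw [hE'mem]
    refine ⟨hα, ?_⟩
    have hY : Y ≤ centralizerIn S T := hfa.1
    obtain ⟨R, hR⟩ := hfa.2
    -- the automorphism `a` of `Y` underlying `α`
    have hαY : ∀ x, α x ∈ Y := fun x => by
      have h1 : α x ∈ α.range := ⟨x, rfl⟩
      rw [hr] at h1
      exact h1
    have hinj : Function.Injective (α.codRestrict Y hαY) :=
      fun x y hxy => D.injective_of_mem hα (congrArg Subtype.val hxy)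
    have hsurj : Function.Surjective (α.codRestrict Y hαY) := by
      rintro ⟨y, hy⟩
      rw [← hr] at hy
      obtain ⟨x, rfl⟩ := hy
      exact ⟨x, rfl⟩
    obtain ⟨a, ha⟩ : ∃ a : MulAut Y, ∀ x, ((a x : Y) : Ω) = α x :=
      ⟨MulEquiv.ofBijective (α.codRestrict Y hαY) ⟨hinj, hsurj⟩, fun x => rfl⟩
    have haD : a ∈ D.autGroup Y :=
      (H85.mem_autGroup_iff D hY a).mpr (H85.hom_congr D hα (fun x => ha x))
    have hfinY : Finite Y := H85.finite_of_le (hY.trans hC₀S)
    have hfinA : Finite (MulAut Y) :=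
      Finite.of_injective (fun a : MulAut Y => (a : Y → Y)) (fun a b h => DFunLike.coe_injective h)
    -- the property
    have hprop : ∀ b : ↥(D.autGroup Y), ∀ x : Y,
        (x : Ω)⁻¹ * (((b : MulAut Y) x : Y) : Ω) ∈ C := by
      intro b
      have hb := hGEN p R b
      induction hb using Subgroup.closure_induction with
      | mem b hb =>
        intro x
        rcases hb with hb | hb
        · have hb' : b ∈ (R : Subgroup ↥(D.autGroup Y)) := hb
          rw [hR] at hb'
          have hb'' : (b : MulAut Y) ∈ autInducedBy (centralizerIn S T) Y :=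
            Subgroup.mem_subgroupOf.mp hb'
          obtain ⟨g, hg, hgb⟩ := (H85.mem_autInducedBy_iff _ Y _).mp hb''
          rw [hgb x]
          exact hcommel x (hY x.2) g hg
        · have hm : (orderOf b).Coprime p := hb
          have hbm : (b : MulAut Y) ^ orderOf b = 1 := by
            rw [← Subgroup.coe_pow, pow_orderOf_eq_one]; rfl
          have hmem : Y.subtype.comp (b : MulAut Y).toMonoidHom ∈ F.centralizerHom T Y := by
            rw [← hD Y]
            exact (H85.mem_autGroup_iff D hY _).mp b.2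
          have hcen := hPPR p hS F hF E hE' Y hY (b : MulAut Y) hmem (orderOf b) hm hbm x
          have hxC : (x : Ω)⁻¹ * (((b : MulAut Y) x : Y) : Ω) ∈ centralizerIn S T :=
            Subgroup.mul_mem _ (Subgroup.inv_mem _ (hY x.2)) (hY ((b : MulAut Y) x).2)
          exact hle _ (by rw [Subgroup.zpowers_le]; exact hxC) hcen
            (Subgroup.mem_zpowers _)
      | one =>
        intro x
        show (x : Ω)⁻¹ * (x : Ω) ∈ C
        rw [inv_mul_cancel]
        exact C.one_mem
      | mul b b' _ _ hb hb' =>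
        intro x
        have h1 := hb' x
        have h2 := hb ((b' : MulAut Y) x)
        have e : (x : Ω)⁻¹ * (((b : MulAut Y) ((b' : MulAut Y) x) : Y) : Ω) =
            ((x : Ω)⁻¹ * (((b' : MulAut Y) x : Y) : Ω)) *
              ((((b' : MulAut Y) x : Y) : Ω)⁻¹ *
                (((b : MulAut Y) ((b' : MulAut Y) x) : Y) : Ω)) := by group
        show (x : Ω)⁻¹ * (((b : MulAut Y) ((b' : MulAut Y) x) : Y) : Ω) ∈ C
        rw [e]
        exact C.mul_mem h1 h2
      | inv b _ hb =>
        intro x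
        have h1 := C.inv_mem (hb ((b : MulAut Y)⁻¹ x))
        have e2 : (b : MulAut Y) ((b : MulAut Y)⁻¹ x) = x := by simp
        rw [e2] at h1
        have e : ((((b : MulAut Y)⁻¹ x : Y) : Ω)⁻¹ * (x : Ω))⁻¹ =
            (x : Ω)⁻¹ * (((b : MulAut Y)⁻¹ x : Y) : Ω) := by group
        rw [e] at h1
        exact h1
    intro x
    have := hprop ⟨a, haD⟩ x
    rw [← ha x]
    exact this)
  -- conclusion
  unfold FusionSystem.focalSubgroup
  rw [Subgroup.closure_le]
  rintro y ⟨P, φ, x, hφ, rfl⟩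
  exact ((hE'mem P φ).mp (key P hφ)).2 x

end Cfsg.Agent.Lib.Helper88.FCFOC
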