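import Mathlib
import Cfsg.Prelude.Def_FusionSystem
import Cfsg.Prelude.Def_FusionComponents
import Cfsg.Agent.H85.PrimeIdx
import Cfsg.Agent.Lib.Helper88.FCStmt
import Cfsg.Agent.Lib.Helper49.WNGS
import Cfsg.Agent.Lib.Helper89.WNC1

/-! Piece GA of S5293: for `E` normal in `F`, every map of `E` with `E`-centric source has a good
extension. -/

set_option autoImplicit false

namespace Cfsg.Agent.Lib.Helper88.FCGA

open Cfsg Cfsg.FusionSystem Cfsg.Agent.Lib.Helper88.WNStmt Cfsg.Agent.Lib.Helper88.FCStmt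

universe u

theorem main : GoodAll.{u} := by
  intro Ω _ S _ p _ hS F hF T E hE P hP φ hφ
  obtain ⟨hEw, hext⟩ := hE
  have hEw' := hEw
  obtain ⟨hEsat, -, hEF, hTcl, -, -⟩ := hEw
  have hTS : T ≤ S := hTcl.1
  have hfinT : Finite T := H85.finite_of_le hTS
  have hT : IsPGroup p T := hS.to_le hTS
  obtain ⟨X, hX⟩ := Cfsg.Agent.Lib.Helper49.WNGS.main hTS F E
  have hXE : X.IsSubsystemOf E := fun Q ψ hψ => ((hX Q ψ).mp hψ).1
  have hpp : ∀ Q : Subgroup Ω, E.IsCentric Q →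
      (Subgroup.closure {α : ↥(E.autGroup Q) | ∃ k : ℕ, orderOf α = p ^ k}).map
        (E.autGroup Q).subtype ≤ X.autGroup Q := by
    intro Q hQ
    rw [Subgroup.map_le_iff_le_comap, Subgroup.closure_le]
    rintro a ⟨k, hk⟩
    show (a : MulAut Q) ∈ X.autGroup Q
    rw [H85.mem_autGroup_iff X hQ.1, hX]
    refine ⟨(H85.mem_autGroup_iff E hQ.1 _).mp a.2, fun _ =>
      Cfsg.Agent.Lib.Helper89.WNC1.main p hS F hF E hEw' Q hQ a a.2 k ?_⟩
    rw [Subgroup.orderOf_coe]; exact hk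
  obtain ⟨-, hfr, -⟩ := H85.primeIdx_main p hT E hEsat X hXE hpp
  obtain ⟨α, hα, φ₀, hφ₀, h1⟩ := hfr P φ hφ
  -- `α` is good by normality
  have hαX : T.subtype.comp α.toMonoidHom ∈ X.Hom T := by
    rw [hX]
    refine ⟨(H85.mem_autGroup_iff E le_rfl α).mp hα, fun _ => ?_⟩
    obtain ⟨β, hβ, hβT, hβC⟩ := hext α hα
    have hTCS : T ⊔ centralizerIn S T ≤ S := sup_le hTS inf_le_left
    exact ⟨_, (H85.mem_autGroup_iff F hTCS β).mp hβ, fun x => hβT x,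
      fun c hc => (hβC c hc).1⟩
  have hφ₀T : ∀ x, φ₀ x ∈ T := (X.le_of_mem hφ₀).2
  have hφX : φ ∈ X.Hom P :=
    H85.comp_mem' X hφ₀ hαX hφ₀T (fun x => h1 x (hφ₀T x))
  exact ((hX P φ).mp hφX).2 hP

end Cfsg.Agent.Lib.Helper88.FCGA
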