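import Mathlib
import Cfsg.Agent.H85.PPowNormal
import Cfsg.Agent.H85.Invariant2
import Cfsg.Agent.S5097
import Cfsg.Agent.S5099
import Cfsg.Agent.S5113
import Cfsg.Agent.S5120
import Cfsg.Agent.S5140
import Cfsg.Agent.S5141
import Cfsg.Agent.S5293
import Cfsg.Agent.Lib.Helper88.CEStmt
import Cfsg.Agent.Lib.Helper88.CNStmt

/-! Assembly for S5155 from the pieces of `CNStmt` and the strong closure of `C_S(E)`. -/

set_option autoImplicit false

namespace Cfsg.Agent.Lib.Helper88.CNAsm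

open Cfsg Cfsg.FusionSystem Cfsg.Agent.H85 Cfsg.Agent.Lib.Helper88.FCStmt
  Cfsg.Agent.Lib.Helper88.CEStmt Cfsg.Agent.Lib.Helper88.CNStmt

universe u

/-- A saturated subsystem `W` of `p`-power index in `G` (over `C₀ ≤ S`), over `Y`, is invariant
under `Aut_F(Y)` as soon as conjugation by `Aut_F(Y)` preserves the automorphism groups of `G`. -/
theorem invY {Ω : Type*} [Group Ω] {S : Subgroup Ω} [Finite S] (p : ℕ) [Fact p.Prime]
    (hS : IsPGroup p S) (F : FusionSystem S) {C₀ Y : Subgroup Ω} (hC₀S : C₀ ≤ S)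
    (G : FusionSystem C₀) (W : FusionSystem Y) (hYC₀ : Y ≤ C₀) (hWs : W.IsSaturated p)
    (hWi : W.HasPPowerIndexIn G p)
    (hconj : ∀ (P : Subgroup Ω) (hPY : P ≤ Y) (α : MulAut Y), α ∈ F.autGroup Y →
      ∀ γ : MulAut P, γ ∈ G.autGroup P →
        MulAut.congr (autRes α hPY) γ ∈ G.autGroup (autImage α P)) : InvCond W F := by
  have : Finite C₀ := finite_of_le hC₀S
  have hC₀ : IsPGroup p C₀ := hS.to_le hC₀S
  apply invCond_of_le_invSys
  refine le_of_ppower_index p hC₀ G W hWs hWi.1 hYC₀ (invSys W (F.autGroup Y)) le_rfl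
    ⟨?_, hWi.2.1, ?_⟩
  · intro P φ h
    exact hWi.1 P h.1
  · intro P hPT
    rintro _ ⟨β, hβ, rfl⟩
    refine aut_mem_invSys W _ hPT _ (hWi.2.2 P hPT ⟨β, hβ, rfl⟩) (fun α hα => ?_)
    have hmem : ∀ γ : G.autGroup P,
        MulAut.congr (autRes α hPT) (γ : MulAut P) ∈ G.autGroup (autImage α P) :=
      fun γ => hconj P hPT α hα γ γ.2
    let f : G.autGroup P →* G.autGroup (autImage α P) :=
      ((MulAut.congr (autRes α hPT)).toMonoidHom.comp (G.autGroup P).subtype).codRestrict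
        (G.autGroup (autImage α P)) hmem
    have hf : Function.Injective f := by
      intro a b hab
      have h1 : MulAut.congr (autRes α hPT) (a : MulAut P) =
          MulAut.congr (autRes α hPT) (b : MulAut P) := congrArg Subtype.val hab
      exact Subtype.ext ((MulAut.congr (autRes α hPT)).injective h1)
    have h1 := pResidual_map_of_injective f hf hβ
    exact hWi.2.2 (autImage α P) (autImage_le α P) ⟨_, h1, rfl⟩

/-- The hyperfocal subgroup lies in the focal subgroup. -/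
theorem hyperfocal_le_focal {Ω : Type*} [Group Ω] {S : Subgroup Ω} (G : FusionSystem S) (p : ℕ) :
    G.hyperfocalSubgroup p ≤ G.focalSubgroup := by
  unfold hyperfocalSubgroup focalSubgroup
  apply Subgroup.closure_mono
  rintro y ⟨P, α, x, hP, -, rfl⟩
  exact ⟨P, P.subtype.comp (α : MulAut P).toMonoidHom, x,
    (mem_autGroup_iff G hP (α : MulAut P)).mp α.2, rfl⟩

/-- The statement S5155 from the pieces. -/
theorem s5155 (hGCONJ : CentConj.{u}) (hFRATY : FrattiniY.{u})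
    (hSC : LargestClosed.{u}) {Ω : Type u} [Group Ω] {S : Subgroup Ω} [Finite S] (p : ℕ)
    [Fact p.Prime] (hS : IsPGroup p S) (F : Cfsg.FusionSystem S) (hF : F.IsSaturated p)
    {T : Subgroup Ω} (E : Cfsg.FusionSystem T) (hE : E.IsNormalIn F p) (Y : Subgroup Ω)
    (hY : Y ≤ Cfsg.FusionSystem.centralizerIn S T)
    (hEY : ∀ P : Subgroup Ω, E.Hom P ⊆ F.centralizerHom Y P)
    (hmax : ∀ Y' : Subgroup Ω, Y' ≤ Cfsg.FusionSystem.centralizerIn S T →
      (∀ P : Subgroup Ω, E.Hom P ⊆ F.centralizerHom Y' P) → Y' ≤ Y) :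
    ∃ D : Cfsg.FusionSystem Y, D.IsNormalIn F p ∧
      ∀ P : Subgroup Ω, D.Hom P ⊆ F.centralizerHom T P := by
  have hE' := hE
  obtain ⟨⟨-, -, -, hTcl, -, -⟩, -⟩ := hE
  have hTS : T ≤ S := hTcl.1
  have hC₀S : centralizerIn S T ≤ S := inf_le_left
  have hfinC : Finite ↥(centralizerIn S T) := finite_of_le hC₀S
  have hfinT : Finite T := finite_of_le hTS
  have hC₀p : IsPGroup p ↥(centralizerIn S T) := hS.to_le hC₀S
  -- `T` is fully centralized
  have hfc : F.IsFullyCentralized T := by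
    refine ⟨hTS, ?_⟩
    rintro Q ⟨φ, hφ, rfl⟩
    have hle : φ.range ≤ T := by
      rintro _ ⟨x, rfl⟩
      exact hTcl.2 T le_rfl φ hφ x
    have heq : φ.range = T := by
      apply Subgroup.eq_of_le_of_card_ge hle
      exact (Nat.card_congr (MonoidHom.ofInjective (F.injective_of_mem hφ)).toEquiv).le
    rw [heq]
  obtain ⟨G, hG⟩ := Cfsg.Agent.S5097.result F T hTS
  have hGsat : G.IsSaturated p := Cfsg.Agent.S5099.result p hS F hF T hfc G hG
  have hYcl : F.StronglyClosed Y := hSC p hS F hF E hE' Y hY hEY hmax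
  have hYS : Y ≤ S := hYcl.1
  have hYeq : Y = sSup {X : Subgroup Ω | X ≤ centralizerIn S T ∧
      ∀ P : Subgroup Ω, E.Hom P ⊆ F.centralizerHom X P} :=
    le_antisymm (le_sSup ⟨hY, hEY⟩) (sSup_le fun X hX => hmax X hX.1 hX.2)
  have hfoc : G.focalSubgroup ≤ Y := Cfsg.Agent.S5293.result p hS F hF E hE' Y hYeq G hG
  have hhyp : G.hyperfocalSubgroup p ≤ Y := (hyperfocal_le_focal G p).trans hfoc
  obtain ⟨D₀, ⟨hD₀s, hD₀i⟩, -⟩ := Cfsg.Agent.S5113.result p hC₀p G hGsat Y hY hhyp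
  have hYn : (Y.subgroupOf (centralizerIn S T)).Normal := by
    constructor
    intro n hn g
    rw [Subgroup.mem_subgroupOf] at hn ⊢
    have hgS : (g : Ω) ∈ S := hC₀S g.2
    have h1 := hYcl.2 Y le_rfl (conjHom Y (g : Ω)) (F.conj_mem hYS hgS) ⟨(n : Ω), hn⟩
    exact h1
  have hD₀n : D₀.IsNormalIn G p :=
    Cfsg.Agent.S5120.result p hC₀p G hGsat Y hY hYn hhyp D₀ hD₀s hD₀i
  have hGF : G.IsSubsystemOf F := by
    intro P φ hφ
    rw [hG P] at hφ
    exact hφ.1
  have hinv : InvCond D₀ F := invY p hS F hC₀S G D₀ hY hD₀s hD₀i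
    (fun P hPY α hα γ hγ => hGCONJ p hS F hF T hTcl Y hY hYcl G hG P hPY α hα γ hγ)
  have hfrat := hFRATY p hS F hF T hTcl Y hY hYcl G hG D₀ hD₀n.1.2.2
  have hwn : D₀.IsWeaklyNormalIn F p :=
    ⟨hD₀s, hF, fun P φ hφ => hGF P (hD₀i.1 P hφ), hYcl, hinv, hfrat⟩
  have hfinY : Finite Y := finite_of_le hYS
  obtain ⟨D, hD⟩ := Cfsg.Agent.S5140.result p (hS.to_le hYS) D₀ hD₀s
  refine ⟨D, Cfsg.Agent.S5141.result p hS F hF D₀ hwn D hD, ?_⟩
  intro P φ hφ
  rw [← hG P]
  exact hD₀i.1 P (hD.2.1.1 P hφ)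

end Cfsg.Agent.Lib.Helper88.CNAsm
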