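import Mathlib
import Cfsg.Prelude.Def_FusionSystem
import Cfsg.Agent.Lib.Helper88.CaseB
import Cfsg.Agent.Lib.Helper91.TorusSq

set_option autoImplicit false

/-! Piece R5 of S5289 with the verbatim signature (`caseB_of_torus` + the torus lemma R7). -/

namespace Cfsg.Agent.Lib.Helper88.CaseBFinal

open Cfsg Cfsg.FusionSystem

/-- [R5] the torus argument for an essential subgroup `P` with `P / Z(P)` of order `p ^ 2` and
index `p` in `S` -/
theorem caseB {Ω : Type*} [Group Ω] {S : Subgroup Ω} [Finite S] {p : ℕ} [Fact p.Prime]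
    (hp5 : 5 ≤ p) (hS : IsPGroup p S) (F : Cfsg.FusionSystem S) (hF : F.IsSaturated p)
    (A : Subgroup Ω) (hcomm : ∀ s ∈ S, ∀ u ∈ S, u⁻¹ * (s * u * s⁻¹) ∈ A)
    (P : Subgroup Ω) (hP : F.IsEssential p P)
    (hInn : Nat.card (Cfsg.Inn ↥P) = p ^ 2)
    (hZ : ∀ u ∈ P, (∀ v ∈ P, u * v = v * u) → u ∈ A ∧ ∀ s ∈ S, s * u = u * s)
    (t : Ω) (htS : t ∈ S) (htN : t ∈ Subgroup.normalizer (P : Set Ω)) (htP : t ∉ P)
    (htp : t ^ p ∈ P) (hgen : P ⊔ Subgroup.zpowers t = S) :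
    ∃ α : MulAut S, α ∈ F.autGroup S ∧ ∃ b : ℕ, 2 * b ≡ 1 [MOD p] ∧
      ∀ (g : Ω) (hg : g ∈ S), g ∈ P → ((α ⟨g, hg⟩ : S) : Ω) * g ^ b ∈ A :=
  have _hfinP : Finite P := Finite.of_injective (Subgroup.inclusion hP.1.1)
    (Subgroup.inclusion_injective hP.1.1)
  Cfsg.Agent.Lib.Helper88.CaseB.caseB_of_torus hp5 hS F hF A hcomm P hP hInn hZ t htS htN htP htp
    hgen (fun t g htp hnp a b hab =>
      Cfsg.Agent.Lib.Helper91.TorusSq.torus_sq hInn t g htp hnp a b hab)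

end Cfsg.Agent.Lib.Helper88.CaseBFinal
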