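import Mathlib
import Cfsg.Prelude.Def_FusionSystem
import Cfsg.Prelude.Def_Solvable
import Cfsg.Agent.H85.Realized
import Cfsg.Agent.H84.PCore
import Cfsg.Agent.Lib.Helper87.Model

/-!
# Control of transfer in a constrained fusion system

For a saturated fusion system with a normal centric subgroup `Q`, the elements of `Q` lying in
the focal subgroup already lie in the focal subgroup of the normalizer system of `W(S)`, for a
characteristic functor `W` controlling transfer in groups of characteristic `p` type (in the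
weak form with `O_p`).  The proof goes through the model of the system and the focal subgroup
theorem.
-/

set_option autoImplicit false
universe u

namespace Cfsg.Agent.Lib.Helper88.ConstrFoc

open scoped commutatorElement

section Gen

/-- A subgroup of `H` invariant under the inner automorphisms of `H` is normalized by `H`. -/
theorem le_normalizer_map {A : Type*} [Group A] (H : Subgroup A) (K : Subgroup H)
    (hK : ∀ h : H, K.map (MulAut.conj h).toMonoidHom = K) :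
    H ≤ Subgroup.normalizer ((K.map H.subtype : Subgroup A) : Set A) := by
  intro g hg
  rw [Subgroup.mem_normalizer_iff]
  intro x
  constructor
  · rintro ⟨k, hk, rfl⟩
    have h1 : MulAut.conj (⟨g, hg⟩ : H) k ∈ K.map (MulAut.conj (⟨g, hg⟩ : H)).toMonoidHom :=
      ⟨k, hk, rfl⟩
    rw [hK] at h1
    exact ⟨_, h1, rfl⟩
  · rintro ⟨k, hk, hkx⟩
    have h1 : MulAut.conj (⟨g, hg⟩ : H)⁻¹ k ∈ K.map (MulAut.conj (⟨g, hg⟩ : H)⁻¹).toMonoidHom :=
      ⟨k, hk, rfl⟩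
    rw [hK] at h1
    refine ⟨_, h1, ?_⟩
    have h2 : (k : A) = g * x * g⁻¹ := hkx
    have h3 : H.subtype (MulAut.conj (⟨g, hg⟩ : H)⁻¹ k) = g⁻¹ * (k : A) * g⁻¹⁻¹ := rfl
    rw [h3, h2]
    group

variable {Ω : Type*} [Group Ω] {S : Subgroup Ω} {G : Type*} [Group G]

/-- The focal subgroup of a realized system maps into the commutator subgroup. -/
theorem focal_map (E : Cfsg.FusionSystem S) (ι : S →* G) (hreal : E.IsRealizedBy ι) :
    ∀ y ∈ E.focalSubgroup, ∃ hy : y ∈ S, ι ⟨y, hy⟩ ∈ commutator G := by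
  intro y hy
  unfold Cfsg.FusionSystem.focalSubgroup at hy
  induction hy using Subgroup.closure_induction with
  | mem z hz =>
    obtain ⟨P, φ, x, hφ, rfl⟩ := hz
    obtain ⟨g, hg⟩ := Cfsg.Agent.H85.exists_of_mem_realized E ι hreal hφ
    have hxS : (x : Ω) ∈ S := (E.le_of_mem hφ).1 x.2
    have hφS : φ x ∈ S := (E.le_of_mem hφ).2 x
    refine ⟨S.mul_mem (S.inv_mem hxS) hφS, ?_⟩
    have e : (⟨(x : Ω)⁻¹ * φ x, S.mul_mem (S.inv_mem hxS) hφS⟩ : S)
        = (⟨x, hxS⟩ : S)⁻¹ * ⟨φ x, hφS⟩ := rfl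
    rw [e, map_mul, map_inv, hg x]
    have h1 : (ι ⟨x, hxS⟩)⁻¹ * (g * ι ⟨x, hxS⟩ * g⁻¹) = ⁅(ι ⟨x, hxS⟩)⁻¹, g⁆ := by
      rw [commutatorElement_def]
      group
    rw [h1]
    exact Subgroup.commutator_mem_commutator (Subgroup.mem_top _) (Subgroup.mem_top _)
  | one =>
    refine ⟨S.one_mem, ?_⟩
    have e : (⟨1, S.one_mem⟩ : S) = 1 := rfl
    rw [e, map_one]
    exact one_mem _
  | mul a b _ _ iha ihb =>
    obtain ⟨ha, ha'⟩ := iha
    obtain ⟨hb, hb'⟩ := ihb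
    refine ⟨S.mul_mem ha hb, ?_⟩
    have e : (⟨a * b, S.mul_mem ha hb⟩ : S) = ⟨a, ha⟩ * ⟨b, hb⟩ := rfl
    rw [e, map_mul]
    exact mul_mem ha' hb'
  | inv a _ iha =>
    obtain ⟨ha, ha'⟩ := iha
    refine ⟨S.inv_mem ha, ?_⟩
    have e : (⟨a⁻¹, S.inv_mem ha⟩ : S) = (⟨a, ha⟩ : S)⁻¹ := rfl
    rw [e, map_inv]
    exact inv_mem ha'

/-- Conjugation by an element normalizing the image of `V` gives a map of the normalizer
system of `V`; hence the corresponding commutator is a generator of its focal subgroup. -/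
theorem gen_mem (E : Cfsg.FusionSystem S) (ι : S →* G) (hreal : E.IsRealizedBy ι)
    {V : Subgroup Ω} (hVS : V ≤ S) (hVn : S ≤ Subgroup.normalizer (V : Set Ω)) (u : G)
    (hu : u ∈ Subgroup.normalizer (((V.subgroupOf S).map ι : Subgroup G) : Set G)) (s : S)
    (hs : u * ι s * u⁻¹ ∈ ι.range) :
    ∃ y ∈ Subgroup.closure {y : Ω | ∃ (P : Subgroup Ω) (φ : P →* Ω) (x : P),
        φ ∈ E.normalizerHom V P ∧ y = (x : Ω)⁻¹ * φ x},
      ∃ hy : y ∈ S, ι ⟨y, hy⟩ = (ι s)⁻¹ * (u * ι s * u⁻¹) := by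
  have hinj := hreal.1
  let K : Subgroup Ω := ((ι.range.comap (MulAut.conj u).toMonoidHom).comap ι).map S.subtype
  have hK : ∀ x ∈ K, ∃ hx : x ∈ S, u * ι ⟨x, hx⟩ * u⁻¹ ∈ ι.range := by
    rintro x ⟨t, ht, rfl⟩
    exact ⟨t.2, ht⟩
  have hsK : (s : Ω) ∈ K := ⟨s, hs, rfl⟩
  have hVK : V ≤ K := by
    intro v hv
    refine ⟨⟨v, hVS hv⟩, ?_, rfl⟩
    show u * ι ⟨v, hVS hv⟩ * u⁻¹ ∈ ι.range
    have h1 : ι ⟨v, hVS hv⟩ ∈ (V.subgroupOf S).map ι := ⟨⟨v, hVS hv⟩, hv, rfl⟩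
    have h2 := (Subgroup.mem_normalizer_iff.mp hu _).mp h1
    obtain ⟨t, -, ht⟩ := h2
    exact ⟨t, ht⟩
  let P : Subgroup Ω := Subgroup.zpowers (s : Ω)
  have hPK : P ≤ K := by
    rw [Subgroup.zpowers_le]
    exact hsK
  have hKS : K ≤ S := fun x hx => (hK x hx).1
  have hPS : P ≤ S := hPK.trans hKS
  have hPV : P ⊔ V ≤ K := sup_le hPK hVK
  have hPVS : P ⊔ V ≤ S := hPV.trans hKS
  have h1 : ∀ x : P, u * ι ⟨x, hPS x.2⟩ * u⁻¹ ∈ ι.range := fun x => (hK x (hPK x.2)).2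
  have h2 : ∀ x : (P ⊔ V : Subgroup Ω), u * ι ⟨x, hPVS x.2⟩ * u⁻¹ ∈ ι.range :=
    fun x => (hK x (hPV x.2)).2
  have hφ : Cfsg.Agent.H85.pullConj ι hinj hPS u h1 ∈ E.Hom P :=
    Cfsg.Agent.H85.pullConj_mem E ι hreal hPS u h1
  have hψ : Cfsg.Agent.H85.pullConj ι hinj hPVS u h2 ∈ E.Hom (P ⊔ V) :=
    Cfsg.Agent.H85.pullConj_mem E ι hreal hPVS u h2
  have hφι := Cfsg.Agent.H85.ι_pullConj ι hinj hPS u h1
  have hψι := Cfsg.Agent.H85.ι_pullConj ι hinj hPVS u h2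
  have hφS := Cfsg.Agent.H85.pullConj_mem_S ι hinj hPS u h1
  have hψS := Cfsg.Agent.H85.pullConj_mem_S ι hinj hPVS u h2
  have hnorm : S ≤ Cfsg.FusionSystem.normalizerIn S V := le_inf le_rfl hVn
  have hmem : Cfsg.Agent.H85.pullConj ι hinj hPS u h1 ∈ E.normalizerHom V P := by
    refine ⟨hφ, hPS.trans hnorm, fun x => hnorm (hφS x),
      Cfsg.Agent.H85.pullConj ι hinj hPVS u h2, hψ, ?_, ?_⟩
    · intro x
      have e1 := hψι (Subgroup.inclusion le_sup_left x)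
      have e2 := hφι x
      have e3 : ι ⟨Cfsg.Agent.H85.pullConj ι hinj hPVS u h2 (Subgroup.inclusion le_sup_left x),
          hψS _⟩ = ι ⟨Cfsg.Agent.H85.pullConj ι hinj hPS u h1 x, hφS x⟩ := by
        rw [e1, e2]
        rfl
      exact congrArg Subtype.val (hinj e3)
    · apply le_antisymm
      · rintro _ ⟨w, hw, rfl⟩
        have hwV : (w : Ω) ∈ V := hw
        have e1 := hψι w
        have h3 : ι ⟨w, hPVS w.2⟩ ∈ (V.subgroupOf S).map ι := ⟨⟨w, hPVS w.2⟩, hwV, rfl⟩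
        have h4 := (Subgroup.mem_normalizer_iff.mp hu _).mp h3
        rw [← e1] at h4
        obtain ⟨t, ht, ht'⟩ := h4
        have h5 : (t : Ω) = Cfsg.Agent.H85.pullConj ι hinj hPVS u h2 w :=
          congrArg Subtype.val (hinj ht')
        have htV : (t : Ω) ∈ V := ht
        rw [h5] at htV
        exact htV
      · intro v hv
        have h3 : ι ⟨v, hVS hv⟩ ∈ (V.subgroupOf S).map ι := ⟨⟨v, hVS hv⟩, hv, rfl⟩
        have hu' : u⁻¹ ∈ Subgroup.normalizer (((V.subgroupOf S).map ι : Subgroup G) : Set G) :=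
          inv_mem hu
        have h4 := (Subgroup.mem_normalizer_iff.mp hu' _).mp h3
        obtain ⟨t, ht, ht'⟩ := h4
        have htV : (t : Ω) ∈ V := ht
        refine ⟨⟨t, (le_sup_right : V ≤ P ⊔ V) htV⟩, htV, ?_⟩
        have e1 := hψι ⟨t, (le_sup_right : V ≤ P ⊔ V) htV⟩
        have e2 : ι ⟨Cfsg.Agent.H85.pullConj ι hinj hPVS u h2
            ⟨t, (le_sup_right : V ≤ P ⊔ V) htV⟩, hψS _⟩ = ι ⟨v, hVS hv⟩ := by
          rw [e1]
          have e0 : (⟨((⟨t, (le_sup_right : V ≤ P ⊔ V) htV⟩ : (P ⊔ V : Subgroup Ω)) : Ω),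
              hPVS (le_sup_right (a := P) htV)⟩ : S) = t := rfl
          rw [e0, ht']
          group
        exact congrArg Subtype.val (hinj e2)
  have hsP : (s : Ω) ∈ P := Subgroup.mem_zpowers _
  refine ⟨(s : Ω)⁻¹ * Cfsg.Agent.H85.pullConj ι hinj hPS u h1 ⟨s, hsP⟩,
    Subgroup.subset_closure ⟨P, _, ⟨s, hsP⟩, hmem, rfl⟩,
    S.mul_mem (S.inv_mem s.2) (hφS _), ?_⟩
  have e : (⟨(s : Ω)⁻¹ * Cfsg.Agent.H85.pullConj ι hinj hPS u h1 ⟨s, hsP⟩,
      S.mul_mem (S.inv_mem s.2) (hφS _)⟩ : S)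
      = s⁻¹ * ⟨Cfsg.Agent.H85.pullConj ι hinj hPS u h1 ⟨s, hsP⟩, hφS _⟩ := rfl
  rw [e, map_mul, map_inv, hφι]

end Gen

section Main

/-- The focal subgroup theorem in a subgroup `N` containing the Sylow subgroup and normalizing
the image of `V`, pulled back to the fusion system. -/
theorem key_lemma {p : ℕ} [Fact p.Prime] {Ω : Type*} [Group Ω] {S : Subgroup Ω}
    {G : Type*} [Group G] [Finite G] (E : Cfsg.FusionSystem S) (ι : S →* G)
    (hreal : E.IsRealizedBy ι) (P₀ : Sylow p G) (hP₀ : (P₀ : Subgroup G) = ι.range)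
    {V : Subgroup Ω} (hVS : V ≤ S) (hVn : S ≤ Subgroup.normalizer (V : Set Ω))
    (N : Subgroup G)
    (hN : N ≤ Subgroup.normalizer (((V.subgroupOf S).map ι : Subgroup G) : Set G))
    (hPN : (P₀ : Subgroup G) ≤ N) (n : N) (hn : n ∈ commutator N)
    (hn1 : (n : G) ∈ ι.range) :
    ∃ y ∈ Subgroup.closure {y : Ω | ∃ (P : Subgroup Ω) (φ : P →* Ω) (x : P),
        φ ∈ E.normalizerHom V P ∧ y = (x : Ω)⁻¹ * φ x},
      ∃ hy : y ∈ S, ι ⟨y, hy⟩ = (n : G) := by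
  have hrange : ∀ x : G, x ∈ (P₀ : Subgroup G) ↔ x ∈ ι.range := fun x => by rw [hP₀]
  have hn0 : n ∈ ((P₀.subtype hPN : Sylow p N) : Subgroup N) := by
    rw [Sylow.coe_subtype, Subgroup.mem_subgroupOf, hrange]
    exact hn1
  have hn2 : n ∈ commutator N ⊓ ((P₀.subtype hPN : Sylow p N) : Subgroup N) :=
    Subgroup.mem_inf.mpr ⟨hn, hn0⟩
  rw [Subgroup.commutator_inf_eq_focalSubgroup] at hn2
  have key : ∀ m ∈ ((P₀.subtype hPN : Sylow p N) : Subgroup N).focalSubgroup,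
      ∃ y ∈ Subgroup.closure {y : Ω | ∃ (P : Subgroup Ω) (φ : P →* Ω) (x : P),
        φ ∈ E.normalizerHom V P ∧ y = (x : Ω)⁻¹ * φ x},
      ∃ hy : y ∈ S, ι ⟨y, hy⟩ = (m : G) := by
    intro m hm
    rw [Subgroup.focalSubgroup_def] at hm
    induction hm using Subgroup.closure_induction with
    | mem z hz =>
      obtain ⟨hzP, x, hxP, w, rfl⟩ := hz
      rw [Sylow.coe_subtype, Subgroup.mem_subgroupOf] at hzP hxP
      have hx' : (x : G)⁻¹ ∈ ι.range := (hrange _).mp (inv_mem hxP)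
      obtain ⟨s, hs⟩ := hx'
      have hu : (w : G) ∈ Subgroup.normalizer
          (((V.subgroupOf S).map ι : Subgroup G) : Set G) := hN w.2
      have hcoe : ((⁅x, w⁆ : N) : G) = (x : G) * w * (x : G)⁻¹ * (w : G)⁻¹ := rfl
      have hs' : (w : G) * ι s * (w : G)⁻¹ ∈ ι.range := by
        rw [hs, ← hrange]
        have h1 : (w : G) * (x : G)⁻¹ * (w : G)⁻¹
            = (x : G)⁻¹ * ((x : G) * w * (x : G)⁻¹ * (w : G)⁻¹) := by
          group
        rw [h1, ← hcoe]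
        exact mul_mem (inv_mem hxP) hzP
      obtain ⟨y, hy, hyS, hyι⟩ := gen_mem E ι hreal hVS hVn (w : G) hu s hs'
      refine ⟨y, hy, hyS, ?_⟩
      rw [hyι, hs, hcoe]
      group
    | one =>
      refine ⟨1, one_mem _, S.one_mem, ?_⟩
      have e1 : (⟨1, S.one_mem⟩ : S) = 1 := rfl
      rw [e1, map_one]
      rfl
    | mul a b _ _ iha ihb =>
      obtain ⟨y₁, hy₁, hyS₁, hyι₁⟩ := iha
      obtain ⟨y₂, hy₂, hyS₂, hyι₂⟩ := ihb
      refine ⟨y₁ * y₂, mul_mem hy₁ hy₂, S.mul_mem hyS₁ hyS₂, ?_⟩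
      have e1 : (⟨y₁ * y₂, S.mul_mem hyS₁ hyS₂⟩ : S) = ⟨y₁, hyS₁⟩ * ⟨y₂, hyS₂⟩ := rfl
      rw [e1, map_mul, hyι₁, hyι₂]
      rfl
    | inv a _ iha =>
      obtain ⟨y₁, hy₁, hyS₁, hyι₁⟩ := iha
      refine ⟨y₁⁻¹, inv_mem hy₁, S.inv_mem hyS₁, ?_⟩
      have e1 : (⟨y₁⁻¹, S.inv_mem hyS₁⟩ : S) = (⟨y₁, hyS₁⟩ : S)⁻¹ := rfl
      rw [e1, map_inv, hyι₁]
      rfl
  exact key n hn2

/-- **Constrained case of control of transfer**: `Q ∩ foc(E) ≤ foc(N_E(W(S)))` for a normal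
centric subgroup `Q` of the saturated system `E`. -/
theorem constrained_case {p : ℕ} [Fact p.Prime] (W : ∀ (Q : Type u) [Group Q], Subgroup Q)
    (hW2 : ∀ (Q R : Type u) [Group Q] [Group R] [Finite Q], IsPGroup p Q → ∀ φ : Q ≃* R, (W Q).map φ.toMonoidHom = W R)
    (hT : ∀ (G : Type u) [Group G] [Finite G] (P : Sylow p G), Subgroup.centralizer ((Cfsg.pCore p G : Subgroup G) : Set G) ≤ Cfsg.pCore p G → Cfsg.pCore p G ⊓ commutator G = Cfsg.pCore p G ⊓ (commutator ↥(Subgroup.normalizer (((W ↥(P : Subgroup G)).map (P : Subgroup G).subtype : Subgroup G) : Set G))).map (Subgroup.normalizer (((W ↥(P : Subgroup G)).map (P : Subgroup G).subtype : Subgroup G) : Set G)).subtype)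
    {Ω : Type u} [Group Ω] {S : Subgroup Ω} [Finite S] (hS : IsPGroup p S) (E : Cfsg.FusionSystem S) (hE : E.IsSaturated p) (Q : Subgroup Ω) (hQ : E.IsNormal Q) (hC : Cfsg.FusionSystem.centralizerIn S Q ≤ Q) :
    ∀ q ∈ Q, q ∈ E.focalSubgroup → q ∈ Subgroup.closure {y : Ω | ∃ (P : Subgroup Ω) (φ : P →* Ω) (x : P), φ ∈ E.normalizerHom ((W ↥S).map S.subtype) P ∧ y = (x : Ω)⁻¹ * φ x} := by
  intro q hqQ hqf
  obtain ⟨G, _, ι, hM, hQn, hQc⟩ := Cfsg.Agent.Lib.Helper87.Model.exists_model hS E hE hQ hC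
  obtain ⟨hfin, hreal, ⟨P₀, hP₀⟩, hcen⟩ := hM
  have hinj := hreal.1
  have hQS : Q ≤ S := hQ.1
  have hqS : q ∈ S := hQS hqQ
  have hVS : (W ↥S).map S.subtype ≤ S := by
    rintro _ ⟨w, -, rfl⟩
    exact w.2
  have hVn : S ≤ Subgroup.normalizer (((W ↥S).map S.subtype : Subgroup Ω) : Set Ω) :=
    le_normalizer_map S (W ↥S) (fun s => hW2 ↥S ↥S hS (MulAut.conj s))
  -- the isomorphism of `S` with the Sylow subgroup
  let e : S ≃* (P₀ : Subgroup G) :=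
    (MonoidHom.ofInjective hinj).trans (MulEquiv.subgroupCongr hP₀.symm)
  have hWP : (W ↥(P₀ : Subgroup G)).map (P₀ : Subgroup G).subtype
      = (((W ↥S).map S.subtype).subgroupOf S).map ι := by
    rw [← hW2 ↥S ↥(P₀ : Subgroup G) hS e, Subgroup.map_map]
    have h1 : ((W ↥S).map S.subtype).subgroupOf S = W ↥S :=
      Subgroup.comap_map_eq_self_of_injective (Subgroup.subtype_injective S) (W ↥S)
    rw [h1]
    rfl
  have hPN : (P₀ : Subgroup G) ≤ Subgroup.normalizer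
      (((W ↥(P₀ : Subgroup G)).map (P₀ : Subgroup G).subtype : Subgroup G) : Set G) :=
    le_normalizer_map (P₀ : Subgroup G) (W ↥(P₀ : Subgroup G))
      (fun g => hW2 _ _ P₀.2 (MulAut.conj g))
  -- `ι q` lies in `O_p(G)`
  have hq1 : ι ⟨q, hqS⟩ ∈ Cfsg.pCore p G := by
    have hp : IsPGroup p ((Q.subgroupOf S).map ι : Subgroup G) :=
      IsPGroup.map (hS.to_subgroup (Q.subgroupOf S)) ι
    exact Cfsg.Agent.H84.le_pCore p hQn hp ⟨⟨q, hqS⟩, hqQ, rfl⟩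
  obtain ⟨hqS', hq2⟩ := focal_map E ι hreal q hqf
  have hq3 : ι ⟨q, hqS⟩ ∈ Cfsg.pCore p G ⊓ commutator G := ⟨hq1, hq2⟩
  rw [hT G P₀ hcen] at hq3
  obtain ⟨n, hn, hnq⟩ := hq3.2
  have hnq' : (n : G) = ι ⟨q, hqS⟩ := hnq
  have hN : Subgroup.normalizer
      (((W ↥(P₀ : Subgroup G)).map (P₀ : Subgroup G).subtype : Subgroup G) : Set G)
      ≤ Subgroup.normalizer
        (((((W ↥S).map S.subtype).subgroupOf S).map ι : Subgroup G) : Set G) := by
    rw [hWP]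
  obtain ⟨y, hy, hyS, hyq⟩ := key_lemma E ι hreal P₀ hP₀ hVS hVn _ hN hPN n hn
    (by rw [hnq']; exact ⟨_, rfl⟩)
  have h7 : (⟨y, hyS⟩ : S) = ⟨q, hqS⟩ := hinj (hyq.trans hnq')
  have hyq' : y = q := congrArg Subtype.val h7
  rw [← hyq']
  exact hy

end Main

end Cfsg.Agent.Lib.Helper88.ConstrFoc
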