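import Mathlib
import Cfsg.Agent.Lib.Helper40.GFStmt

/-!
# S5886 piece ALL2 (second seat, helper88)

All special `F`-transvections in `c.M` give all `F`-transvections `(z, φ)` with `τ (φ z) = 0`
(one conjugation).
-/

set_option autoImplicit false

namespace Cfsg.Agent.Lib.Helper88.GFALL2

open Cfsg.Agent.Lib.Helper40.GFStmt

universe u

theorem exists_ker {L : Type u} [Field L] {k : ℕ} (hk : 2 ≤ k) (φ : V k L →ₗ[L] L) :
    ∃ y : V k L, y ≠ 0 ∧ φ y = 0 := by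
  classical
  have h01 : (⟨0, by omega⟩ : Fin k) ≠ ⟨1, by omega⟩ := by
    intro h
    have := congrArg Fin.val h
    simp at this
  by_cases h0 : φ (Pi.single (⟨0, by omega⟩ : Fin k) 1) = 0
  · refine ⟨Pi.single (⟨0, by omega⟩ : Fin k) 1, ?_, h0⟩
    intro h
    have := congrFun h (⟨0, by omega⟩ : Fin k)
    simp at this
  · refine ⟨Pi.single (⟨1, by omega⟩ : Fin k) 1 -
      (φ (Pi.single (⟨1, by omega⟩ : Fin k) 1) / φ (Pi.single (⟨0, by omega⟩ : Fin k) 1)) •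
        Pi.single (⟨0, by omega⟩ : Fin k) 1, ?_, ?_⟩
    · intro h
      have h1 := congrFun h (⟨1, by omega⟩ : Fin k)
      rw [Pi.sub_apply, Pi.smul_apply, Pi.single_eq_same, Pi.single_eq_of_ne h01.symm,
        smul_zero, sub_zero, Pi.zero_apply] at h1
      exact one_ne_zero h1
    · rw [map_sub, map_smul, smul_eq_mul, div_mul_cancel₀ _ h0, sub_self]

theorem main : All2.{u} := by
  intro F L _ _ _ _ k c hk τ hτ hall z φs hκ
  by_cases hκ0 : φs z = 0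
  · exact hall z φs hκ0
  obtain ⟨c0, hc0⟩ : ∃ c0 : L, τ c0 ≠ 0 := by
    by_contra h
    apply hτ
    ext x
    by_contra hx
    exact h ⟨x, hx⟩
  obtain ⟨cm, hτcm⟩ : ∃ cm : L, τ cm = -1 := by
    refine ⟨(-(τ c0)⁻¹) • c0, ?_⟩
    rw [map_smul, smul_eq_mul, neg_mul, inv_mul_cancel₀ hc0]
  obtain ⟨y, hy0, hy⟩ := exists_ker hk φs
  obtain ⟨z', hz'⟩ : ∃ z' : V k L, z' = (cm / φs z) • z + y := ⟨_, rfl⟩
  have hφz' : φs z' = cm := by
    rw [hz', map_add, map_smul, hy, add_zero, smul_eq_mul, div_mul_cancel₀ _ hκ0]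
  have hz0 : z ≠ 0 := fun h => hκ0 (by rw [h, map_zero])
  have hnot : z ∉ Submodule.span L {z'} := by
    intro h
    obtain ⟨a, ha⟩ := Submodule.mem_span_singleton.mp h
    have ha0 : a ≠ 0 := by
      rintro rfl
      rw [zero_smul] at ha
      exact hz0 ha.symm
    have h1 : z' = a⁻¹ • z := by rw [← ha, smul_smul, inv_mul_cancel₀ ha0, one_smul]
    have hy' : y = (a⁻¹ - cm / φs z) • z := by
      rw [sub_smul, ← h1, hz']
      abel
    have h2 : (a⁻¹ - cm / φs z) * φs z = 0 := by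
      have h3 := hy
      rw [hy', map_smul, smul_eq_mul] at h3
      exact h3
    have h3 : a⁻¹ - cm / φs z = 0 := (mul_eq_zero.mp h2).resolve_right hκ0
    rw [h3, zero_smul] at hy'
    exact hy0 hy'
  obtain ⟨φ0, hφ0z, hφ0⟩ := Submodule.exists_le_ker_of_notMem hnot
  have hφ0z' : φ0 z' = 0 := LinearMap.mem_ker.mp (hφ0 (Submodule.mem_span_singleton_self z'))
  obtain ⟨φ', hφ'⟩ : ∃ φ' : V k L →ₗ[L] L, φ' = (φs z / φ0 z) • φ0 := ⟨_, rfl⟩
  have hφ'z : φ' z = φs z := by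
    rw [hφ', LinearMap.smul_apply, smul_eq_mul, div_mul_cancel₀ _ hφ0z]
  have hφ'z' : φ' z' = 0 := by rw [hφ', LinearMap.smul_apply, hφ0z', smul_zero]
  obtain ⟨e, heM, he⟩ := hall z (φs - φ') (by rw [LinearMap.sub_apply, hφ'z, sub_self])
  obtain ⟨T, hTM, hT⟩ := hall z' φ' hφ'z'
  refine ⟨T * e * T⁻¹, c.M.mul_mem (c.M.mul_mem hTM heM) (c.M.inv_mem hTM), fun x => ?_⟩
  obtain ⟨y0, rfl⟩ : ∃ y0, T y0 = x :=
    ⟨T⁻¹ x, by rw [← LinearEquiv.mul_apply, mul_inv_cancel]; rfl⟩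
  have h1 : (T * e * T⁻¹) (T y0) = T (e y0) := by
    rw [LinearEquiv.mul_apply, LinearEquiv.mul_apply, ← LinearEquiv.mul_apply T⁻¹ T,
      inv_mul_cancel]
    rfl
  have h2 : τ (φs (T y0)) = τ ((φs - φ') y0) := by
    rw [hT y0, map_add, LinearMap.map_smul_of_tower φs, hφz', map_add, map_smul, hτcm,
      LinearMap.sub_apply, map_sub, smul_eq_mul]
    ring
  rw [h1, he y0, map_add, map_smul, hT z, hφ'z, hκ, zero_smul, add_zero, h2]

end Cfsg.Agent.Lib.Helper88.GFALL2
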