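import Mathlib
import Cfsg.Agent.Lib.Helper88.SmallComm

/-!
# Finite `p`-groups with an abelian subgroup of index `p`

For a finite `p`-group `G` with an abelian subgroup `A` of index `p` and `x ∉ A`:
`G = A ⟨x⟩` (`exists_mul_zpow`), the centre lies in `A` when `G` is not abelian (`center_le`),
`C_A(x) = Z(G)` (`mem_center_of_comm`), and every element of the commutator subgroup is a
commutator `a x a⁻¹ x⁻¹` with `a ∈ A` (`commutator_le_range`).  Versions for subgroups `A ≤ S` of an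
ambient group (`sub_*`), and the lower central series estimate `exists_lcs` giving maximal class
when the centre has order `p`.
-/

set_option autoImplicit false

namespace Cfsg.Agent.Lib.Helper88.IndexP

section Abstract

variable {G : Type*} [Group G] [Finite G] {p : ℕ} [Fact p.Prime]

theorem normal_of_index_prime (hG : IsPGroup p G) (A : Subgroup G) (hidx : A.index = p) :
    A.Normal := by
  have hp : p.Prime := Fact.out
  apply Subgroup.normal_of_index_eq_minFac_card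
  rw [hidx]
  obtain ⟨n, hn⟩ := IsPGroup.iff_card.mp hG
  have hn0 : n ≠ 0 := by
    rintro rfl
    rw [pow_zero] at hn
    have h1 := Subgroup.index_dvd_card A
    rw [hidx, hn] at h1
    exact hp.one_lt.ne' (Nat.dvd_one.mp h1)
  rw [hn, Nat.Prime.pow_minFac hp hn0]

theorem exists_mul_zpow (hG : IsPGroup p G) (A : Subgroup G) (hidx : A.index = p) {x : G}
    (hx : x ∉ A) (s : G) : ∃ a ∈ A, ∃ k : ℤ, s = a * x ^ k := by
  haveI := normal_of_index_prime hG A hidx
  have htop := Cfsg.Agent.Lib.Helper88.SmallComm.sup_zpowers_eq_top hG A hidx.le hx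
  have hmem : s ∈ ((A ⊔ Subgroup.zpowers x : Subgroup G) : Set G) := by
    rw [htop]
    exact Subgroup.mem_top _
  rw [Subgroup.normal_mul] at hmem
  obtain ⟨a, ha, b, hb, hab⟩ := Set.mem_mul.mp hmem
  obtain ⟨k, hk⟩ := Subgroup.mem_zpowers_iff.mp hb
  exact ⟨a, ha, k, by rw [hk, hab]⟩

theorem center_le (hG : IsPGroup p G) (A : Subgroup G) (hidx : A.index = p)
    (hAab : ∀ a ∈ A, ∀ b ∈ A, a * b = b * a) (hna : ¬ ∀ a b : G, a * b = b * a) :
    Subgroup.center G ≤ A := by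
  intro z hz
  by_contra hzA
  apply hna
  intro s t
  obtain ⟨a, ha, k, rfl⟩ := exists_mul_zpow hG A hidx hzA s
  obtain ⟨b, hb, j, rfl⟩ := exists_mul_zpow hG A hidx hzA t
  have hzc : ∀ (i : ℤ) (g : G), Commute g (z ^ i) := fun i g =>
    Subgroup.mem_center_iff.mp (Subgroup.zpow_mem _ hz i) g
  have hab : Commute a b := hAab a ha b hb
  have h1 : Commute a (b * z ^ j) := hab.mul_right (hzc j a)
  have h2 : Commute (z ^ k) (b * z ^ j) := (hzc k (b * z ^ j)).symm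
  exact (h1.mul_left h2).eq

theorem mem_center_of_comm (hG : IsPGroup p G) (A : Subgroup G) (hidx : A.index = p)
    (hAab : ∀ a ∈ A, ∀ b ∈ A, a * b = b * a) {x : G} (hx : x ∉ A) {a : G} (ha : a ∈ A)
    (hax : a * x = x * a) : a ∈ Subgroup.center G := by
  rw [Subgroup.mem_center_iff]
  intro g
  obtain ⟨b, hb, k, rfl⟩ := exists_mul_zpow hG A hidx hx g
  have h1 : Commute a b := hAab a ha b hb
  have h2 : Commute a x := hax
  exact ((h1.mul_right (h2.zpow_right k)).eq).symm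

/-- Every element of the commutator subgroup has the form `a x a⁻¹ x⁻¹` with `a ∈ A`. -/
theorem commutator_le_range (hG : IsPGroup p G) (A : Subgroup G) (hidx : A.index = p)
    (hAab : ∀ a ∈ A, ∀ b ∈ A, a * b = b * a) {x : G} (hx : x ∉ A) :
    ∀ c ∈ commutator G, ∃ a ∈ A, c = a * x * a⁻¹ * x⁻¹ := by
  haveI hAn := normal_of_index_prime hG A hidx
  -- the homomorphism `a ↦ a x a⁻¹ x⁻¹`
  let φ : A →* G :=
    { toFun := fun a => (a : G) * x * (a : G)⁻¹ * x⁻¹
      map_one' := by simp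
      map_mul' := by
        intro a b
        have hu : x * (a : G)⁻¹ * x⁻¹ ∈ A := hAn.conj_mem _ (A.inv_mem a.2) x
        have hv : x * (b : G)⁻¹ * x⁻¹ ∈ A := hAn.conj_mem _ (A.inv_mem b.2) x
        show ((a : G) * (b : G)) * x * ((a : G) * (b : G))⁻¹ * x⁻¹ =
          ((a : G) * x * (a : G)⁻¹ * x⁻¹) * ((b : G) * x * (b : G)⁻¹ * x⁻¹)
        have e1 : ((a : G) * (b : G)) * x * ((a : G) * (b : G))⁻¹ * x⁻¹ =
            (a : G) * ((b : G) * ((x * (b : G)⁻¹ * x⁻¹) * (x * (a : G)⁻¹ * x⁻¹))) := by group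
        have e2 : ((a : G) * x * (a : G)⁻¹ * x⁻¹) * ((b : G) * x * (b : G)⁻¹ * x⁻¹) =
            (a : G) * ((x * (a : G)⁻¹ * x⁻¹) * (b : G) * (x * (b : G)⁻¹ * x⁻¹)) := by group
        have e3 : (b : G) * ((x * (b : G)⁻¹ * x⁻¹) * (x * (a : G)⁻¹ * x⁻¹)) =
            (x * (a : G)⁻¹ * x⁻¹) * (b : G) * (x * (b : G)⁻¹ * x⁻¹) := by
          rw [hAab _ hv _ hu, ← mul_assoc, hAab _ b.2 _ hu]
        rw [e1, e2, e3] }
  have hφ : ∀ a : A, φ a = (a : G) * x * (a : G)⁻¹ * x⁻¹ := fun a => rfl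
  have hrA : φ.range ≤ A := by
    rintro _ ⟨a, rfl⟩
    rw [hφ]
    have h1 : x * (a : G)⁻¹ * x⁻¹ ∈ A := hAn.conj_mem _ (A.inv_mem a.2) x
    have e : (a : G) * x * (a : G)⁻¹ * x⁻¹ = (a : G) * (x * (a : G)⁻¹ * x⁻¹) := by group
    rw [e]
    exact A.mul_mem a.2 h1
  -- the range is normal
  have hnorm : φ.range.Normal := by
    constructor
    rintro _ ⟨a, rfl⟩ g
    obtain ⟨b, hb, k, rfl⟩ := exists_mul_zpow hG A hidx hx g
    have hxk : x ^ k * x * (x ^ k)⁻¹ = x := by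
      have : Commute (x ^ k) x := (Commute.refl x).zpow_left k
      rw [this.eq, mul_inv_cancel_right]
    have ha' : x ^ k * (a : G) * (x ^ k)⁻¹ ∈ A := hAn.conj_mem _ a.2 _
    have e1 : x ^ k * φ a * (x ^ k)⁻¹ = φ ⟨_, ha'⟩ := by
      rw [hφ, hφ]
      show x ^ k * ((a : G) * x * (a : G)⁻¹ * x⁻¹) * (x ^ k)⁻¹ =
        (x ^ k * (a : G) * (x ^ k)⁻¹) * x * (x ^ k * (a : G) * (x ^ k)⁻¹)⁻¹ * x⁻¹
      calc x ^ k * ((a : G) * x * (a : G)⁻¹ * x⁻¹) * (x ^ k)⁻¹
          = (x ^ k * (a : G) * (x ^ k)⁻¹) * (x ^ k * x * (x ^ k)⁻¹) *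
            (x ^ k * (a : G) * (x ^ k)⁻¹)⁻¹ * (x ^ k * x * (x ^ k)⁻¹)⁻¹ := by group
        _ = _ := by rw [hxk]
    have e2 : b * x ^ k * φ a * (b * x ^ k)⁻¹ = b * (x ^ k * φ a * (x ^ k)⁻¹) * b⁻¹ := by group
    rw [e2, e1]
    have h3 := hAab _ hb _ (hrA ⟨_, rfl⟩ : φ ⟨_, ha'⟩ ∈ A)
    rw [h3, mul_inv_cancel_right]
    exact ⟨_, rfl⟩
  -- the quotient is commutative
  have hcomm : IsMulCommutative (G ⧸ φ.range) := by
    refine ⟨⟨fun u v => ?_⟩⟩
    obtain ⟨s, rfl⟩ := QuotientGroup.mk_surjective u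
    obtain ⟨t, rfl⟩ := QuotientGroup.mk_surjective v
    obtain ⟨a, ha, i, rfl⟩ := exists_mul_zpow hG A hidx hx s
    obtain ⟨b, hb, j, rfl⟩ := exists_mul_zpow hG A hidx hx t
    have hc : ∀ c ∈ A, Commute (QuotientGroup.mk c : G ⧸ φ.range) (QuotientGroup.mk x) := by
      intro c hc
      have h1 : (QuotientGroup.mk (c * x * c⁻¹ * x⁻¹) : G ⧸ φ.range) = 1 :=
        (QuotientGroup.eq_one_iff _).mpr ⟨⟨c, hc⟩, rfl⟩
      show (QuotientGroup.mk c : G ⧸ φ.range) * QuotientGroup.mk x =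
        QuotientGroup.mk x * QuotientGroup.mk c
      rw [← QuotientGroup.mk_mul, ← QuotientGroup.mk_mul]
      have e : c * x = (c * x * c⁻¹ * x⁻¹) * (x * c) := by group
      rw [e, QuotientGroup.mk_mul, h1, one_mul]
    have hab : Commute (QuotientGroup.mk a : G ⧸ φ.range) (QuotientGroup.mk b) := by
      show (QuotientGroup.mk a : G ⧸ φ.range) * QuotientGroup.mk b =
        QuotientGroup.mk b * QuotientGroup.mk a
      rw [← QuotientGroup.mk_mul, ← QuotientGroup.mk_mul, hAab a ha b hb]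
    have h1 : Commute (QuotientGroup.mk a : G ⧸ φ.range)
        (QuotientGroup.mk b * (QuotientGroup.mk x) ^ j) :=
      hab.mul_right ((hc a ha).zpow_right j)
    have h2 : Commute ((QuotientGroup.mk x : G ⧸ φ.range) ^ i)
        (QuotientGroup.mk b * (QuotientGroup.mk x) ^ j) :=
      (((hc b hb).zpow_right i).symm).mul_right (Commute.zpow_zpow_self _ i j)
    have h3 := (h1.mul_left h2).eq
    rw [QuotientGroup.mk_mul, QuotientGroup.mk_mul, QuotientGroup.mk_zpow, QuotientGroup.mk_zpow]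
    exact h3
  have hle := Subgroup.Normal.quotient_commutative_iff_commutator_le.mp hcomm
  intro c hc
  obtain ⟨a, rfl⟩ := hle hc
  exact ⟨a, a.2, rfl⟩

theorem commutator_le_of_index_prime (hG : IsPGroup p G) (A : Subgroup G) (hidx : A.index = p) :
    commutator G ≤ A := by
  haveI := normal_of_index_prime hG A hidx
  rw [← Subgroup.Normal.quotient_commutative_iff_commutator_le]
  have hcard : Nat.card (G ⧸ A) = p := by
    rw [← Subgroup.index_eq_card]
    exact hidx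
  exact (isCyclic_of_prime_card hcard).isMulCommutative

end Abstract

section Sub

variable {Ω : Type*} [Group Ω] {S : Subgroup Ω} [Finite S] {p : ℕ} [Fact p.Prime]

theorem sub_normal (hS : IsPGroup p S) (A : Subgroup Ω) (hAS : A ≤ S)
    (hidx : (A.subgroupOf S).index = p) : ∀ s ∈ S, ∀ a ∈ A, s * a * s⁻¹ ∈ A := by
  intro s hs a ha
  have h := (normal_of_index_prime hS (A.subgroupOf S) hidx).conj_mem ⟨a, hAS ha⟩
    (Subgroup.mem_subgroupOf.mpr ha) ⟨s, hs⟩
  exact Subgroup.mem_subgroupOf.mp h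

theorem sub_mul_zpow (hS : IsPGroup p S) (A : Subgroup Ω)
    (hidx : (A.subgroupOf S).index = p) {x : Ω} (hxS : x ∈ S) (hxA : x ∉ A) :
    ∀ s ∈ S, ∃ a ∈ A, ∃ k : ℤ, s = a * x ^ k := by
  intro s hs
  obtain ⟨a, ha, k, hk⟩ := exists_mul_zpow hS (A.subgroupOf S) hidx (x := ⟨x, hxS⟩)
    (fun h => hxA (Subgroup.mem_subgroupOf.mp h)) ⟨s, hs⟩
  refine ⟨a, Subgroup.mem_subgroupOf.mp ha, k, ?_⟩
  have := congrArg Subtype.val hk
  rw [Subgroup.coe_mul, Subgroup.coe_zpow] at this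
  exact this

theorem sub_center_le (hS : IsPGroup p S) (A : Subgroup Ω)
    (hidx : (A.subgroupOf S).index = p) (hAab : ∀ a ∈ A, ∀ b ∈ A, a * b = b * a)
    (hna : ¬ ∀ a ∈ S, ∀ b ∈ S, a * b = b * a) :
    S ⊓ Subgroup.centralizer (S : Set Ω) ≤ A := by
  rintro z ⟨hzS, hzC⟩
  have h1 : (⟨z, hzS⟩ : S) ∈ Subgroup.center ↥S := by
    rw [Subgroup.mem_center_iff]
    intro g
    exact Subtype.ext (Subgroup.mem_centralizer_iff.mp hzC g g.2)
  have h2 := center_le hS (A.subgroupOf S) hidx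
    (fun a ha b hb => Subtype.ext (hAab _ (Subgroup.mem_subgroupOf.mp ha) _
      (Subgroup.mem_subgroupOf.mp hb)))
    (fun h => hna fun a ha b hb => congrArg Subtype.val (h ⟨a, ha⟩ ⟨b, hb⟩)) h1
  exact Subgroup.mem_subgroupOf.mp h2

theorem sub_mem_center (hS : IsPGroup p S) (A : Subgroup Ω) (hAS : A ≤ S)
    (hidx : (A.subgroupOf S).index = p) (hAab : ∀ a ∈ A, ∀ b ∈ A, a * b = b * a)
    {x : Ω} (hxS : x ∈ S) (hxA : x ∉ A) {a : Ω} (ha : a ∈ A) (hax : a * x = x * a) :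
    a ∈ S ⊓ Subgroup.centralizer (S : Set Ω) := by
  have h := mem_center_of_comm hS (A.subgroupOf S) hidx
    (fun a ha b hb => Subtype.ext (hAab _ (Subgroup.mem_subgroupOf.mp ha) _
      (Subgroup.mem_subgroupOf.mp hb)))
    (x := ⟨x, hxS⟩) (fun h => hxA (Subgroup.mem_subgroupOf.mp h))
    (a := ⟨a, hAS ha⟩) (Subgroup.mem_subgroupOf.mpr ha) (Subtype.ext hax)
  refine ⟨hAS ha, Subgroup.mem_centralizer_iff.mpr fun g hg => ?_⟩
  exact congrArg Subtype.val (Subgroup.mem_center_iff.mp h ⟨g, hg⟩)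

theorem sub_commutator (hS : IsPGroup p S) (A : Subgroup Ω)
    (hidx : (A.subgroupOf S).index = p) (hAab : ∀ a ∈ A, ∀ b ∈ A, a * b = b * a)
    {x : Ω} (hxS : x ∈ S) (hxA : x ∉ A) :
    ∀ c ∈ (commutator ↥S).map S.subtype, ∃ a ∈ A, c = a * x * a⁻¹ * x⁻¹ := by
  rintro _ ⟨c, hc, rfl⟩
  obtain ⟨a, ha, e⟩ := commutator_le_range hS (A.subgroupOf S) hidx
    (fun a ha b hb => Subtype.ext (hAab _ (Subgroup.mem_subgroupOf.mp ha) _
      (Subgroup.mem_subgroupOf.mp hb)))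
    (x := ⟨x, hxS⟩) (fun h => hxA (Subgroup.mem_subgroupOf.mp h)) c hc
  exact ⟨a, Subgroup.mem_subgroupOf.mp ha, congrArg Subtype.val e⟩

theorem sub_commutator_le (hS : IsPGroup p S) (A : Subgroup Ω)
    (hidx : (A.subgroupOf S).index = p) : (commutator ↥S).map S.subtype ≤ A := by
  rintro _ ⟨c, hc, rfl⟩
  exact Subgroup.mem_subgroupOf.mp (commutator_le_of_index_prime hS (A.subgroupOf S) hidx hc)

/-- A subgroup `E ≤ S` not contained in `A` meets `A` in a subgroup of index `p`. -/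
theorem sub_index_of_not_le (hS : IsPGroup p S) (A : Subgroup Ω)
    (hidx : (A.subgroupOf S).index = p) {E : Subgroup Ω} (hES : E ≤ S) (hEA : ¬ E ≤ A) :
    (A.subgroupOf E).index = p := by
  have hp : p.Prime := Fact.out
  haveI := normal_of_index_prime hS (A.subgroupOf S) hidx
  have h1 : (A.subgroupOf S).relIndex (E.subgroupOf S) ∣ (A.subgroupOf S).index :=
    Subgroup.relIndex_dvd_index_of_normal _ _
  rw [Subgroup.relIndex_subgroupOf hES, hidx] at h1
  rcases (Nat.dvd_prime hp).mp h1 with h | h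
  · exact absurd (Subgroup.relIndex_eq_one.mp h) hEA
  · exact h

/-- Iterated commutators with `x`: a subgroup of `A` inside the `k`-th term of the lower central
series of `S` whose order is at least `|A| / |Z| ^ k`, where `Z ⊇ C_A(x)`. -/
theorem exists_lcs (A : Subgroup Ω) (hAS : A ≤ S) (hAab : ∀ a ∈ A, ∀ b ∈ A, a * b = b * a)
    {x : Ω} (hxS : x ∈ S) (hnorm : ∀ a ∈ A, x * a * x⁻¹ ∈ A) (Z : Subgroup Ω) (hZS : Z ≤ S)
    (hZ : ∀ a ∈ A, a * x = x * a → a ∈ Z) (k : ℕ) :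
    ∃ B : Subgroup Ω, B ≤ S.lowerCentralSeries k ∧ B ≤ A ∧
      Nat.card A ≤ Nat.card B * Nat.card Z ^ k := by
  haveI : Finite A := Finite.of_injective (Subgroup.inclusion hAS) (Subgroup.inclusion_injective hAS)
  haveI : Finite Z := Finite.of_injective (Subgroup.inclusion hZS) (Subgroup.inclusion_injective hZS)
  -- the homomorphism `a ↦ a x a⁻¹ x⁻¹`
  let φ : A →* Ω :=
    { toFun := fun a => (a : Ω) * x * (a : Ω)⁻¹ * x⁻¹
      map_one' := by simp
      map_mul' := by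
        intro a b
        have hu : x * (a : Ω)⁻¹ * x⁻¹ ∈ A := hnorm _ (A.inv_mem a.2)
        have hv : x * (b : Ω)⁻¹ * x⁻¹ ∈ A := hnorm _ (A.inv_mem b.2)
        show ((a : Ω) * (b : Ω)) * x * ((a : Ω) * (b : Ω))⁻¹ * x⁻¹ =
          ((a : Ω) * x * (a : Ω)⁻¹ * x⁻¹) * ((b : Ω) * x * (b : Ω)⁻¹ * x⁻¹)
        have e1 : ((a : Ω) * (b : Ω)) * x * ((a : Ω) * (b : Ω))⁻¹ * x⁻¹ =
            (a : Ω) * ((b : Ω) * ((x * (b : Ω)⁻¹ * x⁻¹) * (x * (a : Ω)⁻¹ * x⁻¹))) := by group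
        have e2 : ((a : Ω) * x * (a : Ω)⁻¹ * x⁻¹) * ((b : Ω) * x * (b : Ω)⁻¹ * x⁻¹) =
            (a : Ω) * ((x * (a : Ω)⁻¹ * x⁻¹) * (b : Ω) * (x * (b : Ω)⁻¹ * x⁻¹)) := by group
        have e3 : (b : Ω) * ((x * (b : Ω)⁻¹ * x⁻¹) * (x * (a : Ω)⁻¹ * x⁻¹)) =
            (x * (a : Ω)⁻¹ * x⁻¹) * (b : Ω) * (x * (b : Ω)⁻¹ * x⁻¹) := by
          rw [hAab _ hv _ hu, ← mul_assoc, hAab _ b.2 _ hu]
        rw [e1, e2, e3] }
  have hφ : ∀ a : A, φ a = (a : Ω) * x * (a : Ω)⁻¹ * x⁻¹ := fun a => rfl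
  induction k with
  | zero =>
    exact ⟨A, hAS, le_rfl, by rw [pow_zero, mul_one]⟩
  | succ k ih =>
    obtain ⟨B, hBl, hBA, hcard⟩ := ih
    haveI : Finite B := Finite.of_injective (Subgroup.inclusion hBA) (Subgroup.inclusion_injective hBA)
    refine ⟨(B.subgroupOf A).map φ, ?_, ?_, ?_⟩
    · rintro _ ⟨b, hb, rfl⟩
      rw [hφ, Subgroup.lowerCentralSeries_succ, ← commutatorElement_def]
      exact Subgroup.commutator_mem_commutator (hBl (Subgroup.mem_subgroupOf.mp hb)) hxS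
    · rintro _ ⟨b, hb, rfl⟩
      rw [hφ]
      have h1 : x * (b : Ω)⁻¹ * x⁻¹ ∈ A := hnorm _ (A.inv_mem b.2)
      have e : (b : Ω) * x * (b : Ω)⁻¹ * x⁻¹ = (b : Ω) * (x * (b : Ω)⁻¹ * x⁻¹) := by group
      rw [e]
      exact A.mul_mem b.2 h1
    · set K : Subgroup A := B.subgroupOf A with hK
      have h1 : Nat.card K = Nat.card B :=
        Nat.card_congr (Subgroup.subgroupOfEquivOfLe hBA).toEquiv
      have hrange : (φ.comp K.subtype).range = K.map φ := by
        rw [← MonoidHom.map_range, Subgroup.range_subtype]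
      have h2 := Subgroup.card_mul_index (φ.comp K.subtype).ker
      rw [Subgroup.index_ker, hrange] at h2
      have h3 : Nat.card (φ.comp K.subtype).ker ≤ Nat.card Z := by
        have hmem : ∀ κ : (φ.comp K.subtype).ker, (((κ : K) : A) : Ω) ∈ Z := by
          intro κ
          have h : φ ((κ : K) : A) = 1 := κ.2
          rw [hφ] at h
          apply hZ _ ((κ : K) : A).2
          have e : (((κ : K) : A) : Ω) * x =
              ((((κ : K) : A) : Ω) * x * (((κ : K) : A) : Ω)⁻¹ * x⁻¹) * (x * (((κ : K) : A) : Ω)) := by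
            group
          rw [e, h, one_mul]
        refine Nat.card_le_card_of_injective (fun κ => (⟨_, hmem κ⟩ : Z)) ?_
        intro κ₁ κ₂ h
        have := congrArg Subtype.val h
        exact Subtype.ext (Subtype.ext (Subtype.ext this))
      calc Nat.card A ≤ Nat.card B * Nat.card Z ^ k := hcard
        _ = Nat.card (φ.comp K.subtype).ker * Nat.card (K.map φ) * Nat.card Z ^ k := by
            rw [h2, h1]
        _ ≤ Nat.card Z * Nat.card (K.map φ) * Nat.card Z ^ k :=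
            Nat.mul_le_mul_right _ (Nat.mul_le_mul_right _ h3)
        _ = Nat.card (K.map φ) * Nat.card Z ^ (k + 1) := by ring

end Sub

end Cfsg.Agent.Lib.Helper88.IndexP
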