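import Mathlib
import Cfsg.Agent.S1140

/-!
# Two field lemmas for Higman's theorem on Suzuki 2-groups

`F` is a finite field of characteristic two and `D` a set of additive maps `F → F`, closed under
sums and under conjugation by the multiplications of `F`.

* `idem_scalar`: if all members of `D` are idempotent, every member is `0` or the identity.
* `proj`: every member of `D` is a combination `∑ a σ * σ x` of field automorphisms, and each
  component `a σ * σ x` with `σ ≠ 1` lies in `D` again.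
-/

set_option autoImplicit false

namespace Cfsg.Agent.Lib.Helper88.SuzEig

theorem idem_scalar {F : Type*} [Field F] [Fintype F] [CharP F 2] (D : Set (F → F))
    (hadd : ∀ f ∈ D, ∀ x y, f (x + y) = f x + f y)
    (hidem : ∀ f ∈ D, ∀ x, f (f x) = f x)
    (hsum : ∀ f ∈ D, ∀ f' ∈ D, (fun x => f x + f' x) ∈ D)
    (f : F → F) (hconj : ∀ c : F, c ≠ 0 → (fun x => c * f (c⁻¹ * x)) ∈ D) :
    (∀ x, f x = 0) ∨ (∀ x, f x = x) := by
  classical
  have hcomm : ∀ f1 ∈ D, ∀ f2 ∈ D, ∀ x, f1 (f2 x) = f2 (f1 x) := by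
    intro f1 h1 f2 h2 x
    have h : f1 (f1 x + f2 x) + f2 (f1 x + f2 x) = f1 x + f2 x := hidem _ (hsum f1 h1 f2 h2) x
    rw [hadd f1 h1, hadd f2 h2, hidem f1 h1, hidem f2 h2] at h
    have h' : f1 (f2 x) + f2 (f1 x) = 0 := by
      have : f1 x + f1 (f2 x) + (f2 (f1 x) + f2 x) = f1 x + f2 x + (f1 (f2 x) + f2 (f1 x)) := by ring
      rw [this] at h
      exact add_eq_left.1 h
    exact CharTwo.add_eq_zero.1 h'
  have hzero : ∀ f1 ∈ D, f1 0 = 0 := by
    intro f1 h1
    have h := hadd f1 h1 0 0
    rw [add_zero] at h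
    exact left_eq_add.1 h
  have hfD : f ∈ D := by
    have h := hconj 1 one_ne_zero
    have h2 : (fun x => (1 : F) * f ((1 : F)⁻¹ * x)) = f := by
      funext x; rw [inv_one, one_mul, one_mul]
    rwa [h2] at h
  have hjoint : ∀ s : Finset F, ∃ w : F, w ≠ 0 ∧ ∀ c ∈ s, c ≠ 0 →
      (c * f (c⁻¹ * w) = w ∨ c * f (c⁻¹ * w) = 0) := by
    intro s
    induction s using Finset.induction_on with
    | empty => exact ⟨1, one_ne_zero, fun c hc => absurd hc (Finset.notMem_empty c)⟩
    | insert c s hcs ih =>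
      obtain ⟨w, hw, hws⟩ := ih
      by_cases hc0 : c = 0
      · refine ⟨w, hw, fun c' hc' hc'0 => ?_⟩
        rcases Finset.mem_insert.1 hc' with h | h
        · exact absurd (h.trans hc0) hc'0
        · exact hws c' h hc'0
      by_cases hcw : c * f (c⁻¹ * w) = 0
      · refine ⟨w, hw, fun c' hc' hc'0 => ?_⟩
        rcases Finset.mem_insert.1 hc' with h | h
        · rw [h]; exact Or.inr hcw
        · exact hws c' h hc'0
      · refine ⟨c * f (c⁻¹ * w), hcw, fun c' hc' hc'0 => ?_⟩
        rcases Finset.mem_insert.1 hc' with h | h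
        · rw [h]
          left
          exact hidem _ (hconj c hc0) w
        · have h1 : c' * f (c'⁻¹ * (c * f (c⁻¹ * w))) = c * f (c⁻¹ * (c' * f (c'⁻¹ * w))) :=
            hcomm _ (hconj c' hc'0) _ (hconj c hc0) w
          rcases hws c' h hc'0 with h2 | h2
          · left
            rw [h1, h2]
          · right
            rw [h1, h2, mul_zero, hzero f hfD, mul_zero]
  obtain ⟨w, hw, hws⟩ := hjoint Finset.univ
  have hall : ∀ x : F, x ≠ 0 → (f x = x ∨ f x = 0) := by
    intro x hx
    have hc : w / x ≠ 0 := div_ne_zero hw hx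
    have h1 : (w / x)⁻¹ * w = x := by field_simp
    rcases hws (w / x) (Finset.mem_univ _) hc with h | h
    · left
      rw [h1] at h
      have h3 : f x = (w / x)⁻¹ * (w / x * f x) := by
        rw [← mul_assoc, inv_mul_cancel₀ hc, one_mul]
      rw [h3, h, h1]
    · right
      rw [h1] at h
      exact (mul_eq_zero.1 h).resolve_left hc
  by_contra hcon
  rw [not_or] at hcon
  obtain ⟨hc1, hc2⟩ := hcon
  rw [not_forall] at hc1 hc2
  obtain ⟨x, hx⟩ := hc1
  obtain ⟨y, hy⟩ := hc2
  have hx0 : x ≠ 0 := fun h => hx (by rw [h]; exact hzero f hfD)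
  have hy0 : y ≠ 0 := fun h => hy (by rw [h]; exact hzero f hfD)
  have hfx : f x = x := (hall x hx0).resolve_right hx
  have hfy : f y = 0 := (hall y hy0).resolve_left hy
  have hxy : x + y ≠ 0 := by
    intro h
    have : x = y := CharTwo.add_eq_zero.1 h
    rw [this] at hfx
    rw [hfx] at hfy
    exact hy0 hfy
  have hsumxy : f (x + y) = x := by rw [hadd f hfD, hfx, hfy, add_zero]
  rcases hall (x + y) hxy with h | h
  · rw [hsumxy] at h
    exact hy0 (left_eq_add.1 h)
  · rw [hsumxy] at h
    exact hx0 h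

/-- The character identity behind the isotypic projection. -/
theorem char_eq {F : Type*} [Field F] [Fintype F] [CharP F 2] (σ₀ φ τ : F ≃+* F)
    (hσ₀ : σ₀ ≠ RingEquiv.refl F)
    (h : ∀ c : F, φ (σ₀ c) * c = φ c * τ c) : φ = RingEquiv.refl F ∧ τ = σ₀ := by
  classical
  have : Finite (F ≃+* F) :=
    Finite.of_injective (fun σ : F ≃+* F => (σ : F → F)) DFunLike.coe_injective
  let _ : Fintype (F ≃+* F) := Fintype.ofFinite _
  have hli := (Cfsg.Agent.S1140.result (F := F)).1
  have hpol : ∀ x y : F, y * φ (σ₀ x) + φ (σ₀ y) * x + τ y * φ x + φ y * τ x = 0 := by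
    intro x y
    have h1 := h (x + y)
    have h2 := h x
    have h3 := h y
    simp only [map_add] at h1
    have e : y * φ (σ₀ x) + φ (σ₀ y) * x + τ y * φ x + φ y * τ x
        = ((φ (σ₀ x) + φ (σ₀ y)) * (x + y) - (φ x + φ y) * (τ x + τ y))
          - (φ (σ₀ x) * x - φ x * τ x) - (φ (σ₀ y) * y - φ y * τ y)
          + 2 * (φ x * τ y + φ y * τ x) := by ring
    rw [e, h1, h2, h3, CharTwo.two_eq_zero]; ring
  have hg : ∀ y : F, ∀ ρ : F ≃+* F,
      (if ρ = σ₀.trans φ then y else 0) + (if ρ = RingEquiv.refl F then φ (σ₀ y) else 0)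
        + (if ρ = φ then τ y else 0) + (if ρ = τ then φ y else 0) = 0 := by
    intro y
    apply Fintype.linearIndependent_iff.1 hli
    funext x
    simp only [Finset.sum_apply, Pi.smul_apply, smul_eq_mul, add_mul, ite_mul, zero_mul,
      Finset.sum_add_distrib, Finset.sum_ite_eq', Finset.mem_univ, if_true, Pi.zero_apply]
    have := hpol x y
    simpa using this
  have e1 := fun y => hg y (RingEquiv.refl F)
  have hne : RingEquiv.refl F ≠ σ₀ := fun h' => hσ₀ h'.symm
  by_cases hφ : φ = RingEquiv.refl F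
  · refine ⟨hφ, ?_⟩
    have hne2 : RingEquiv.refl F ≠ σ₀.trans φ := by
      intro h'
      apply hσ₀
      ext x
      have := congrArg (fun ρ : F ≃+* F => ρ x) h'
      rw [hφ] at this
      simpa using this.symm
    by_cases hτ : RingEquiv.refl F = τ
    · have := e1 1
      rw [if_neg hne2, if_pos rfl, if_pos hφ.symm, if_pos hτ] at this
      simp only [map_one, zero_add] at this
      have h3 : (1 : F) + 1 + 1 = 1 := by rw [CharTwo.add_self_eq_zero, zero_add]
      rw [h3] at this
      exact absurd this one_ne_zero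
    · ext y
      have := e1 y
      rw [if_neg hne2, if_pos rfl, if_pos hφ.symm, if_neg hτ, hφ] at this
      simp only [zero_add, add_zero, RingEquiv.refl_apply] at this
      exact (CharTwo.add_eq_zero.1 this).symm
  · exfalso
    have hφ' : RingEquiv.refl F ≠ φ := fun h' => hφ h'.symm
    by_cases hτ : RingEquiv.refl F = τ
    · by_cases h2 : RingEquiv.refl F = σ₀.trans φ
      · have := e1 1
        rw [if_pos h2, if_pos rfl, if_neg hφ', if_pos hτ] at this
        simp only [map_one, add_zero] at this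
        have h3 : (1 : F) + 1 + 1 = 1 := by rw [CharTwo.add_self_eq_zero, zero_add]
        rw [h3] at this
        exact absurd this one_ne_zero
      · apply hσ₀
        ext y
        have := e1 y
        rw [if_neg h2, if_pos rfl, if_neg hφ', if_pos hτ] at this
        simp only [zero_add, add_zero] at this
        exact φ.injective (CharTwo.add_eq_zero.1 this)
    · by_cases h2 : RingEquiv.refl F = σ₀.trans φ
      · have e2 := hg 1 φ
        have hφ2 : φ ≠ σ₀.trans φ := fun h' => hφ (h'.trans h2.symm)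
        rw [if_neg hφ2, if_neg hφ, if_pos rfl] at e2
        simp only [map_one, zero_add] at e2
        have hφτ : φ = τ := by
          by_contra hcon
          rw [if_neg hcon, add_zero] at e2
          exact one_ne_zero e2
        apply hφ
        ext c
        have hc := h c
        have h4 : φ (σ₀ c) = c := by
          have := congrArg (fun ρ : F ≃+* F => ρ c) h2
          simpa using this.symm
        rw [h4, ← hφτ] at hc
        have h5 : (φ c - c) ^ 2 = 0 := by
          have : (φ c - c) ^ 2 = φ c * φ c - c * c - 2 * (φ c * c - c * c) := by ring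
          rw [this, ← hc, CharTwo.two_eq_zero]; ring
        have h6 := pow_eq_zero_iff (two_ne_zero) |>.1 h5
        simpa using sub_eq_zero.1 h6
      · have := e1 1
        rw [if_neg h2, if_pos rfl, if_neg hφ', if_neg hτ] at this
        simp only [map_one, zero_add, add_zero] at this
        exact one_ne_zero this

theorem proj {F : Type*} [Field F] [Fintype F] [CharP F 2] (D : Set (F → F))
    (hadd : ∀ f ∈ D, ∀ x y, f (x + y) = f x + f y)
    (hsum : ∀ f ∈ D, ∀ f' ∈ D, (fun x => f x + f' x) ∈ D)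
    (hconj : ∀ f ∈ D, ∀ c : F, c ≠ 0 → (fun x => c * f (c⁻¹ * x)) ∈ D)
    (f : F → F) (hf : f ∈ D) :
    ∃ (s : Finset (F ≃+* F)) (a : (F ≃+* F) → F), (∀ x, f x = ∑ σ ∈ s, a σ * σ x) ∧
      ∀ σ ∈ s, σ ≠ RingEquiv.refl F → (fun x => a σ * σ x) ∈ D := by
  classical
  have : Finite (F ≃+* F) :=
    Finite.of_injective (fun σ : F ≃+* F => (σ : F → F)) DFunLike.coe_injective
  let _ : Fintype (F ≃+* F) := Fintype.ofFinite _
  have : Fact (Nat.Prime 2) := ⟨Nat.prime_two⟩
  obtain ⟨s, a, ha⟩ := (Cfsg.Agent.S1140.result (F := F)).2.1 (AddMonoidHom.mk' f (hadd f hf))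
  have ha' : ∀ x, f x = ∑ σ ∈ s, a σ * σ x := fun x => ha x
  refine ⟨s, a, ha', ?_⟩
  intro σ₀ hσ₀s hσ₀
  have h0 : (fun _ : F => (0 : F)) ∈ D := by
    have := hsum f hf f hf
    have h2 : (fun x => f x + f x) = fun _ => (0 : F) := by
      funext x; exact CharTwo.add_self_eq_zero _
    rwa [h2] at this
  have hS : ∀ C : Finset Fˣ, (fun x => ∑ u ∈ C, (u : F) * f ((u : F)⁻¹ * x)) ∈ D := by
    intro C
    induction C using Finset.induction_on with
    | empty => simpa using h0
    | insert u C hu ih =>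
      have := hsum _ (hconj f hf (u : F) u.ne_zero) _ ih
      have h2 : (fun x => (u : F) * f ((u : F)⁻¹ * x) + ∑ v ∈ C, (v : F) * f ((v : F)⁻¹ * x))
          = fun x => ∑ v ∈ insert u C, (v : F) * f ((v : F)⁻¹ * x) := by
        funext x; rw [Finset.sum_insert hu]
      rwa [h2] at this
  have htr : ∀ y : F, (∑ φ : F ≃+* F, φ y) = 0 ∨ (∑ φ : F ≃+* F, φ y) = 1 := by
    intro y
    have h1 : (∑ φ : F ≃+* F, φ y) ^ 2 = ∑ φ : F ≃+* F, φ y := by
      rw [sum_pow_char]
      refine Fintype.sum_equiv ⟨fun φ => (frobeniusEquiv F 2).trans φ,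
        fun φ => (frobeniusEquiv F 2).symm.trans φ, ?_, ?_⟩ _ _ (fun φ => ?_)
      · intro φ; ext x; simp
      · intro φ; ext x; simp
      · show φ y ^ 2 = φ (frobeniusEquiv F 2 y)
        rw [frobeniusEquiv_def, map_pow]
    have h2 : (∑ φ : F ≃+* F, φ y) * ((∑ φ : F ≃+* F, φ y) - 1) = 0 := by
      rw [mul_sub, mul_one, ← pow_two, h1, sub_self]
    rcases mul_eq_zero.1 h2 with h | h
    · exact Or.inl h
    · exact Or.inr (sub_eq_zero.1 h)
  have hcard : ((Fintype.card Fˣ : ℕ) : F) = 1 := by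
    rw [Fintype.card_units, Nat.cast_sub Fintype.card_pos, FiniteField.cast_card_eq_zero,
      Nat.cast_one, zero_sub, CharTwo.neg_eq]
  have hE : ∀ (φ τ : F ≃+* F),
      ∑ u : Fˣ, (φ (σ₀ (u : F)) * (u : F) * (φ (u : F))⁻¹ * (τ (u : F))⁻¹)
        = if φ = RingEquiv.refl F ∧ τ = σ₀ then 1 else 0 := by
    intro φ τ
    let h : Fˣ →* Fˣ := Units.map ((σ₀.trans φ : F ≃+* F) : F →+* F).toMonoidHom
      * MonoidHom.id Fˣ * (Units.map (φ : F →+* F).toMonoidHom)⁻¹
      * (Units.map (τ : F →+* F).toMonoidHom)⁻¹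
    have hh : ∀ u : Fˣ, ((h u : Fˣ) : F)
        = φ (σ₀ (u : F)) * (u : F) * (φ (u : F))⁻¹ * (τ (u : F))⁻¹ := by
      intro u
      simp [h]
    have hsum := sum_hom_units ((Units.coeHom F).comp h)
    have hsum' : ∑ u : Fˣ, (φ (σ₀ (u : F)) * (u : F) * (φ (u : F))⁻¹ * (τ (u : F))⁻¹)
        = if (Units.coeHom F).comp h = 1 then ((Fintype.card Fˣ : ℕ) : F) else 0 := by
      have e : ∑ u : Fˣ, (φ (σ₀ (u : F)) * (u : F) * (φ (u : F))⁻¹ * (τ (u : F))⁻¹)
          = ∑ g : Fˣ, ((Units.coeHom F).comp h) g :=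
        Finset.sum_congr rfl (fun u _ => (hh u).symm)
      rw [e, hsum]
      split_ifs <;> simp
    rw [hsum']
    by_cases hc : φ = RingEquiv.refl F ∧ τ = σ₀
    · rw [if_pos hc, if_pos, hcard]
      ext u
      show ((h u : Fˣ) : F) = 1
      rw [hh, hc.1, hc.2]
      have hu : σ₀ (u : F) ≠ 0 := by simp
      simp only [RingEquiv.refl_apply]
      field_simp
    · rw [if_neg hc, if_neg]
      intro h1
      apply hc
      apply char_eq σ₀ φ τ hσ₀
      intro c
      by_cases hc0 : c = 0
      · rw [hc0]; simp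
      · have h2 := DFunLike.congr_fun h1 (Units.mk0 c hc0)
        have h3 : ((h (Units.mk0 c hc0) : Fˣ) : F) = 1 := h2
        rw [hh] at h3
        simp only [Units.val_mk0] at h3
        have hφc : φ c ≠ 0 := by simpa using hc0
        have hτc : τ c ≠ 0 := by simpa using hc0
        field_simp at h3
        exact h3
  have key : ∀ x, ∑ u ∈ Finset.univ.filter (fun u : Fˣ =>
      (∑ φ : F ≃+* F, φ (σ₀ (u : F) * (u : F)⁻¹)) = 1), (u : F) * f ((u : F)⁻¹ * x)
        = a σ₀ * σ₀ x := by
    intro x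
    calc ∑ u ∈ Finset.univ.filter (fun u : Fˣ =>
          (∑ φ : F ≃+* F, φ (σ₀ (u : F) * (u : F)⁻¹)) = 1), (u : F) * f ((u : F)⁻¹ * x)
        = ∑ u : Fˣ, (∑ φ : F ≃+* F, φ (σ₀ (u : F) * (u : F)⁻¹))
            * ((u : F) * f ((u : F)⁻¹ * x)) := by
          rw [Finset.sum_filter]
          apply Finset.sum_congr rfl
          intro u _
          rcases htr (σ₀ (u : F) * (u : F)⁻¹) with h | h
          · rw [if_neg (by rw [h]; exact zero_ne_one), h, zero_mul]
          · rw [if_pos h, h, one_mul]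
      _ = ∑ u : Fˣ, ∑ τ ∈ s, ∑ φ : F ≃+* F, a τ * τ x
            * (φ (σ₀ (u : F)) * (u : F) * (φ (u : F))⁻¹ * (τ (u : F))⁻¹) := by
          apply Finset.sum_congr rfl
          intro u _
          rw [ha' ((u : F)⁻¹ * x), Finset.mul_sum, Finset.mul_sum]
          apply Finset.sum_congr rfl
          intro τ _
          rw [Finset.sum_mul]
          apply Finset.sum_congr rfl
          intro φ _
          simp only [map_mul, map_inv₀]
          ring
      _ = ∑ τ ∈ s, ∑ φ : F ≃+* F, a τ * τ x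
            * ∑ u : Fˣ, (φ (σ₀ (u : F)) * (u : F) * (φ (u : F))⁻¹ * (τ (u : F))⁻¹) := by
          rw [Finset.sum_comm]
          apply Finset.sum_congr rfl
          intro τ _
          rw [Finset.sum_comm]
          apply Finset.sum_congr rfl
          intro φ _
          rw [Finset.mul_sum]
      _ = a σ₀ * σ₀ x := by
          simp only [hE]
          rw [Finset.sum_eq_single σ₀]
          · rw [Finset.sum_eq_single (RingEquiv.refl F)]
            · simp
            · intro φ _ hφ; simp [hφ]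
            · intro h; exact absurd (Finset.mem_univ _) h
          · intro τ _ hτ; simp [hτ]
          · intro h; exact absurd hσ₀s h
  have hfin := hS (Finset.univ.filter (fun u : Fˣ =>
      (∑ φ : F ≃+* F, φ (σ₀ (u : F) * (u : F)⁻¹)) = 1))
  have heq : (fun x => ∑ u ∈ Finset.univ.filter (fun u : Fˣ =>
      (∑ φ : F ≃+* F, φ (σ₀ (u : F) * (u : F)⁻¹)) = 1), (u : F) * f ((u : F)⁻¹ * x))
        = fun x => a σ₀ * σ₀ x := funext key
  rwa [heq] at hfin

/-- All components, including the one at the identity automorphism, lie in `D`. -/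
theorem proj' {F : Type*} [Field F] [Fintype F] [CharP F 2] (D : Set (F → F))
    (hadd : ∀ f ∈ D, ∀ x y, f (x + y) = f x + f y)
    (hsum : ∀ f ∈ D, ∀ f' ∈ D, (fun x => f x + f' x) ∈ D)
    (hconj : ∀ f ∈ D, ∀ c : F, c ≠ 0 → (fun x => c * f (c⁻¹ * x)) ∈ D)
    (f : F → F) (hf : f ∈ D) :
    ∃ (s : Finset (F ≃+* F)) (a : (F ≃+* F) → F), (∀ x, f x = ∑ σ ∈ s, a σ * σ x) ∧
      ∀ σ ∈ s, (fun x => a σ * σ x) ∈ D := by
  classical
  obtain ⟨s, a, ha, hD⟩ := proj D hadd hsum hconj f hf
  refine ⟨s, a, ha, ?_⟩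
  have h0 : (fun _ : F => (0 : F)) ∈ D := by
    have := hsum f hf f hf
    have h2 : (fun x => f x + f x) = fun _ => (0 : F) := by
      funext x; exact CharTwo.add_self_eq_zero _
    rwa [h2] at this
  have hS : ∀ s' : Finset (F ≃+* F), s' ⊆ s → RingEquiv.refl F ∉ s' →
      (fun x => ∑ σ ∈ s', a σ * σ x) ∈ D := by
    intro s'
    induction s' using Finset.induction_on with
    | empty => intro _ _; simpa using h0
    | insert σ s' hσ ih =>
      intro hsub hrefl
      have h1 := ih (fun x hx => hsub (Finset.mem_insert_of_mem hx))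
        (fun h => hrefl (Finset.mem_insert_of_mem h))
      have h2 := hD σ (hsub (Finset.mem_insert_self _ _))
        (fun h => hrefl (by rw [← h]; exact Finset.mem_insert_self _ _))
      have h3 := hsum _ h2 _ h1
      have h4 : (fun x => a σ * σ x + ∑ τ ∈ s', a τ * τ x)
          = fun x => ∑ τ ∈ insert σ s', a τ * τ x := by
        funext x; rw [Finset.sum_insert hσ]
      rwa [h4] at h3
  intro σ hσ
  by_cases hr : σ = RingEquiv.refl F
  · have h1 := hS (s.erase (RingEquiv.refl F)) (Finset.erase_subset _ _)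
      (Finset.notMem_erase _ _)
    have h2 := hsum f hf _ h1
    have h3 : (fun x => f x + ∑ τ ∈ s.erase (RingEquiv.refl F), a τ * τ x)
        = fun x => a σ * σ x := by
      funext x
      rw [ha x, ← Finset.add_sum_erase s _ (hr ▸ hσ), hr]
      rw [add_assoc, CharTwo.add_self_eq_zero, add_zero]
    rwa [h3] at h2
  · exact hD σ hσ hr

end Cfsg.Agent.Lib.Helper88.SuzEig
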