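import Mathlib
import Cfsg.Agent.Lib.Helper63.Suzuki2
import Cfsg.Agent.Lib.Helper63.FieldAct
import Cfsg.Agent.Lib.Helper88.SuzEig

/-!
# Higman's theorem: a Suzuki 2-group has class two

In the setting of `Cfsg.Agent.Lib.Helper63.Suzuki2.Setup` (a finite non-abelian 2-group `P` whose
involutions are the non-identity central elements, with a commutative group `K` of automorphisms
regular on the involutions, `K ≠ 1`), every square of `P` is central.
-/

set_option autoImplicit false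

namespace Cfsg.Agent.Lib.Helper88.SuzCl2

open Cfsg.Agent.Lib.Helper63.Suzuki2
open scoped commutatorElement

variable {P : Type*} [Group P]

/-- The second centre. -/
def T2 (P : Type*) [Group P] : Subgroup P := Subgroup.upperCentralSeries P 2

lemma mem_T2 {x : P} : x ∈ T2 P ↔ ∀ g : P, ⁅x, g⁆ ∈ Subgroup.center P := by
  show x ∈ Subgroup.upperCentralSeries P (1 + 1) ↔ _
  rw [Subgroup.mem_upperCentralSeries_succ_iff, Subgroup.upperCentralSeries_one]

instance T2_normal : (T2 P).Normal := by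
  unfold T2; infer_instance

lemma center_le_T2 {z : P} (hz : z ∈ Subgroup.center P) : z ∈ T2 P := by
  rw [mem_T2]
  intro g
  have h : ⁅z, g⁆ = 1 :=
    commutatorElement_eq_one_iff_mul_comm.2 (Subgroup.mem_center_iff.1 hz g).symm
  rw [h]; exact Subgroup.one_mem _

lemma center_aut (k : MulAut P) {z : P} (hz : z ∈ Subgroup.center P) :
    k z ∈ Subgroup.center P := by
  rw [Subgroup.mem_center_iff]
  intro g
  have h := Subgroup.mem_center_iff.1 hz (k⁻¹ g)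
  have h2 := congrArg k h
  rwa [map_mul, map_mul, MulAut.apply_inv_self] at h2

lemma T2_aut (k : MulAut P) {t : P} (ht : t ∈ T2 P) : k t ∈ T2 P := by
  rw [mem_T2] at ht ⊢
  intro g
  have h := center_aut k (ht (k⁻¹ g))
  rwa [map_commutatorElement, MulAut.apply_inv_self] at h

lemma comm_mul_right_T {t : P} (ht : t ∈ T2 P) (g h : P) : ⁅t, g * h⁆ = ⁅t, g⁆ * ⁅t, h⁆ := by
  rw [comm_mul_right]
  have h1 := Subgroup.mem_center_iff.1 (mem_T2.1 ht h) g
  rw [h1, mul_inv_cancel_right]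

lemma comm_mul_left_T (t : P) {s : P} (hs : s ∈ T2 P) (g : P) :
    ⁅t * s, g⁆ = ⁅t, g⁆ * ⁅s, g⁆ := by
  rw [comm_mul_left]
  have h1 := Subgroup.mem_center_iff.1 (mem_T2.1 hs g) t
  rw [h1, mul_inv_cancel_right]
  exact (Subgroup.mem_center_iff.1 (mem_T2.1 hs g) _).symm

lemma comm_sq_one (hZ : ∀ x : P, x ∈ Subgroup.center P ↔ x * x = 1) {t : P} (ht : t ∈ T2 P)
    (g : P) : ⁅t, g⁆ * ⁅t, g⁆ = 1 := (hZ _).1 (mem_T2.1 ht g)

lemma comm_sq_right (hZ : ∀ x : P, x ∈ Subgroup.center P ↔ x * x = 1) {t : P} (ht : t ∈ T2 P)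
    (g : P) : ⁅t, g * g⁆ = 1 := by
  rw [comm_mul_right_T ht, comm_sq_one hZ ht]

lemma sq_mem_center (hZ : ∀ x : P, x ∈ Subgroup.center P ↔ x * x = 1) {t : P} (ht : t ∈ T2 P) :
    t * t ∈ Subgroup.center P := by
  rw [Subgroup.mem_center_iff]
  intro g
  have h : ⁅t * t, g⁆ = 1 := by rw [comm_mul_left_T t ht, comm_sq_one hZ ht]
  exact (commutatorElement_eq_one_iff_mul_comm.1 h).symm

lemma centralizer_conj {x : P} (hx : x ∈ Subgroup.centralizer (T2 P : Set P)) (g : P) :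
    g * x * g⁻¹ ∈ Subgroup.centralizer (T2 P : Set P) := by
  rw [Subgroup.mem_centralizer_iff] at hx ⊢
  intro t ht
  have h1 : g⁻¹ * t * g ∈ T2 P := by
    have := (inferInstance : (T2 P).Normal).conj_mem t ht g⁻¹
    rwa [inv_inv] at this
  have h2 := hx _ h1
  calc t * (g * x * g⁻¹) = g * (g⁻¹ * t * g * x) * g⁻¹ := by group
    _ = g * (x * (g⁻¹ * t * g)) * g⁻¹ := by rw [h2]
    _ = g * x * g⁻¹ * t := by group

lemma centralizer_aut (k : MulAut P) {x : P} (hx : x ∈ Subgroup.centralizer (T2 P : Set P)) :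
    k x ∈ Subgroup.centralizer (T2 P : Set P) := by
  rw [Subgroup.mem_centralizer_iff] at hx ⊢
  intro t ht
  have h := hx _ (T2_aut k⁻¹ ht)
  have h2 := congrArg k h
  rwa [map_mul, map_mul, MulAut.apply_inv_self] at h2

/-- The automorphisms in `K` have no non-trivial fixed points. -/
theorem fpf' (h2 : IsPGroup 2 P) {K : Subgroup (MulAut P)} (hS : Setup P K)
    (k : MulAut P) (hk : k ∈ K) (x : P) (hx : k x = x) (hx1 : x ≠ 1) : k = 1 := by
  classical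
  obtain ⟨m, hm⟩ := h2 x
  have hex : ∃ r, x ^ (2 ^ r) = 1 := ⟨m, hm⟩
  obtain ⟨r, hr, hrmin⟩ : ∃ r, x ^ (2 ^ r) = 1 ∧ ∀ q < r, x ^ (2 ^ q) ≠ 1 :=
    ⟨Nat.find hex, Nat.find_spec hex, fun q hq => Nat.find_min hex hq⟩
  have hr0 : r ≠ 0 := by
    rintro rfl
    rw [pow_zero, pow_one] at hr
    exact hx1 hr
  obtain ⟨q, rfl⟩ : ∃ q, r = q + 1 := ⟨r - 1, by omega⟩
  have h1 : x ^ (2 ^ q) ≠ 1 := hrmin q (by omega)
  have h2' : x ^ (2 ^ q) * x ^ (2 ^ q) = 1 := by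
    rw [← pow_add, ← two_mul, ← pow_succ']; exact hr
  exact hS.free k hk _ h1 h2' (by rw [map_pow, hx])

theorem fpf_quot [Finite P] (h2 : IsPGroup 2 P) {K : Subgroup (MulAut P)} (hS : Setup P K)
    (H : Subgroup P) (hH : ∀ k ∈ K, ∀ x ∈ H, k x ∈ H) (k : MulAut P) (hk : k ∈ K) (hk1 : k ≠ 1)
    (x : P) (hx : x⁻¹ * k x ∈ H) : x ∈ H := by
  classical
  let φ : H → H := fun t => ⟨(t : P)⁻¹ * k t, H.mul_mem (H.inv_mem t.2) (hH k hk _ t.2)⟩
  have hinj : Function.Injective φ := by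
    intro t s h
    have h1 : (t : P)⁻¹ * k t = (s : P)⁻¹ * k s := congrArg Subtype.val h
    have h3 : k ((t : P) * (s : P)⁻¹) = (t : P) * (s : P)⁻¹ := by
      rw [map_mul, map_inv]
      calc k t * (k s)⁻¹ = (t : P) * ((t : P)⁻¹ * k t) * (k s)⁻¹ := by group
        _ = (t : P) * ((s : P)⁻¹ * k s) * (k s)⁻¹ := by rw [h1]
        _ = (t : P) * (s : P)⁻¹ := by group
    have h4 : (t : P) * (s : P)⁻¹ = 1 := by
      by_contra h; exact hk1 (fpf' h2 hS k hk _ h3 h)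
    exact Subtype.ext (mul_inv_eq_one.1 h4)
  obtain ⟨t, ht⟩ := Finite.injective_iff_surjective.1 hinj ⟨x⁻¹ * k x, hx⟩
  have h1 : (t : P)⁻¹ * k t = x⁻¹ * k x := congrArg Subtype.val ht
  have h3 : k (x * (t : P)⁻¹) = x * (t : P)⁻¹ := by
    rw [map_mul, map_inv]
    calc k x * (k t)⁻¹ = x * (x⁻¹ * k x) * (k t)⁻¹ := by group
      _ = x * ((t : P)⁻¹ * k t) * (k t)⁻¹ := by rw [h1]
      _ = x * (t : P)⁻¹ := by group
  have h4 : x * (t : P)⁻¹ = 1 := by
    by_contra h; exact hk1 (fpf' h2 hS k hk _ h3 h)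
  rw [mul_inv_eq_one.1 h4]; exact t.2

/-- If the second centre is not abelian, all squares are central. -/
theorem sq_of_T_nonab [Finite P] {K : Subgroup (MulAut P)} (hS : Setup P K) (hP : IsPGroup 2 P)
    (hZ : ∀ x : P, x ∈ Subgroup.center P ↔ x * x = 1)
    (hT : ∃ a ∈ T2 P, ∃ b ∈ T2 P, a * b ≠ b * a) : ∀ x : P, x * x ∈ Subgroup.center P := by
  have hcs := center_sq hS hP (Nat.card (T2 P)) (T2 P) le_rfl (fun k _ x hx => T2_aut k hx) hT
  have hC : Subgroup.centralizer (T2 P : Set P) ≤ Subgroup.center P := by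
    by_contra hcon
    obtain ⟨b, hbC, hbZ, -, hb⟩ := exists_layer hP ⊤ (Subgroup.centralizer (T2 P : Set P))
      (Subgroup.center P) le_top (fun g _ x hx => centralizer_conj hx g)
      (fun g _ a ha => (inferInstance : (Subgroup.center P).Normal).conj_mem a ha g) hcon
    have hbT : b ∈ T2 P := mem_T2.2 (fun g => hb g (Subgroup.mem_top g))
    have := hcs b hbT (fun g hg => Subgroup.mem_centralizer_iff.1 hbC g hg)
    exact hbZ ((hZ b).2 this)
  intro x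
  apply hC
  rw [Subgroup.mem_centralizer_iff]
  intro t ht
  exact commutatorElement_eq_one_iff_mul_comm.1 (comm_sq_right hZ ht x)

lemma exists_sqrt {K : Subgroup (MulAut P)} (hS : Setup P K)
    (hZ : ∀ x : P, x ∈ Subgroup.center P ↔ x * x = 1) {b : P} (hbT : b ∈ T2 P)
    (hbZ : b ∉ Subgroup.center P) : ∀ z ∈ Subgroup.center P, ∃ t ∈ T2 P, t * t = z := by
  intro z hz
  by_cases hz1 : z = 1
  · exact ⟨1, Subgroup.one_mem _, by rw [hz1, mul_one]⟩
  have hb2 : b * b ∈ Subgroup.center P := sq_mem_center hZ hbT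
  have hb1 : b * b ≠ 1 := fun h => hbZ ((hZ b).2 h)
  obtain ⟨k, -, hkz⟩ := hS.reg (b * b) z hb1 ((hZ _).1 hb2) hz1 ((hZ _).1 hz)
  exact ⟨k b, T2_aut k hbT, by rw [← map_mul, hkz]⟩

lemma eq_mul_central (hZ : ∀ x : P, x ∈ Subgroup.center P ↔ x * x = 1)
    (hTab : ∀ a ∈ T2 P, ∀ b ∈ T2 P, a * b = b * a) {t s : P} (ht : t ∈ T2 P) (hs : s ∈ T2 P)
    (h : t * t = s * s) : ∃ z ∈ Subgroup.center P, s = t * z := by
  refine ⟨t⁻¹ * s, (hZ _).2 ?_, by group⟩
  have h1 : s * t⁻¹ = t⁻¹ * s := hTab s hs t⁻¹ (Subgroup.inv_mem _ ht)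
  calc t⁻¹ * s * (t⁻¹ * s) = t⁻¹ * (s * t⁻¹) * s := by group
    _ = t⁻¹ * (t⁻¹ * s) * s := by rw [h1]
    _ = (t * t)⁻¹ * (s * s) := by group
    _ = 1 := by rw [h, inv_mul_cancel]

/-- Field coordinates on the centre together with the commutation maps of the second centre. -/
structure Coords (K : Subgroup (MulAut P)) {F : Type} [Field F] (γ : F → P) (ι : MulAut P → F)
    (ψ : P → F → F) : Prop where
  γ_inj : Function.Injective γ
  γ_add : ∀ x y, γ (x + y) = γ x * γ y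
  γ_mem : ∀ x, γ x ∈ Subgroup.center P
  γ_surj : ∀ z ∈ Subgroup.center P, ∃ x, γ x = z
  ι_ne : ∀ k ∈ K, ι k ≠ 0
  ι_surj : ∀ c : F, c ≠ 0 → ∃ k ∈ K, ι k = c
  ι_act : ∀ k ∈ K, ∀ x, k (γ x) = γ (ι k * x)
  ψ_spec : ∀ g, ∀ t ∈ T2 P, ∀ x, t * t = γ x → ⁅t, g⁆ = γ (ψ g x)
  ψ_add : ∀ g x y, ψ g (x + y) = ψ g x + ψ g y
  ψ_mul : ∀ g h x, ψ (g * h) x = ψ g x + ψ h x
  ψ_conj : ∀ k ∈ K, ∀ g x, ψ (k g) (ι k * x) = ι k * ψ g x
  ψ_zero : ∀ g, (∀ x, ψ g x = 0) ↔ ∀ t ∈ T2 P, t * g = g * t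

theorem exists_coords [Finite P] {K : Subgroup (MulAut P)} (hS : Setup P K)
    (hZ : ∀ x : P, x ∈ Subgroup.center P ↔ x * x = 1)
    (hTab : ∀ a ∈ T2 P, ∀ b ∈ T2 P, a * b = b * a) {b : P} (hbT : b ∈ T2 P)
    (hbZ : b ∉ Subgroup.center P) (hK : ∃ k ∈ K, k ≠ 1) :
    ∃ (F : Type) (_ : Field F) (_ : Fintype F) (_ : CharP F 2) (γ : F → P) (ι : MulAut P → F)
      (ψ : P → F → F), Coords K γ ι ψ ∧ ∃ c : F, c ≠ 0 ∧ c ≠ 1 := by
  classical
  have hsq := exists_sqrt hS hZ hbT hbZ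
  have hb2 : b * b ∈ Subgroup.center P := sq_mem_center hZ hbT
  have hb1 : b * b ≠ 1 := fun h => hbZ ((hZ b).2 h)
  let ρ : K → Subgroup.center P → Subgroup.center P :=
    fun k z => ⟨(k : MulAut P) z, center_aut _ z.2⟩
  obtain ⟨F, instF, instFin, γ₀, ι₀, hbij, hadd, h1, hne, hsurj, hιmul, hact⟩ :=
    @Cfsg.Agent.Lib.Helper63.FieldAct.exists_field (Subgroup.center P)
      { (inferInstance : Group (Subgroup.center P)) with
        mul_comm := fun a b => Subtype.ext (Subgroup.mem_center_iff.1 b.2 a) } _ K _ ρ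
      (fun k a b => Subtype.ext (map_mul (k : MulAut P) (a : P) (b : P)))
      (fun k k' a => Subtype.ext rfl)
      (fun a => Subtype.ext rfl)
      (fun k k' a => Subtype.ext (by
        have := hS.comm k k.2 k' k'.2
        exact congrArg (fun f : MulAut P => f (a : P)) this))
      ⟨b * b, hb2⟩ (fun h => hb1 (congrArg Subtype.val h))
      (fun a ha => by
        have ha1 : (a : P) ≠ 1 := fun h => ha (Subtype.ext h)
        obtain ⟨k, hk, hka⟩ := hS.reg (b * b) a hb1 ((hZ _).1 hb2) ha1 ((hZ _).1 a.2)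
        exact ⟨⟨k, hk⟩, Subtype.ext hka⟩)
  have hγ0 : γ₀ 0 = 1 := by
    have h := hadd 0 0
    rw [add_zero] at h
    exact (left_eq_mul.1 h)
  have hww : ∀ w : F, w + w = 0 := by
    intro w
    apply hbij.1
    rw [hadd, hγ0]
    exact Subtype.ext ((hZ _).1 (γ₀ w).2)
  have h20 : (2 : F) = 0 := by
    have := hww 1
    rwa [one_add_one_eq_two] at this
  have hchar : CharP F 2 := CharTwo.of_one_ne_zero_of_two_eq_zero one_ne_zero h20
  let γ : F → P := fun x => (γ₀ x : P)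
  have hγsurj : ∀ z ∈ Subgroup.center P, ∃ x, γ x = z := fun z hz => by
    obtain ⟨x, hx⟩ := hbij.2 ⟨z, hz⟩
    exact ⟨x, congrArg Subtype.val hx⟩
  have hγ0' : γ 0 = 1 := congrArg Subtype.val hγ0
  choose τ hτT hτ using fun x : F => hsq (γ x) (γ₀ x).2
  choose! δ hδ using hγsurj
  let ι : MulAut P → F := fun k => if h : k ∈ K then ι₀ ⟨k, h⟩ else 0
  let ψ : P → F → F := fun g x => δ ⁅τ x, g⁆
  have hγinj : Function.Injective γ := fun x y h => hbij.1 (Subtype.ext h)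
  have hγadd : ∀ x y, γ (x + y) = γ x * γ y := fun x y => congrArg Subtype.val (hadd x y)
  have hspec : ∀ g, ∀ t ∈ T2 P, ∀ x, t * t = γ x → ⁅t, g⁆ = γ (ψ g x) := by
    intro g t ht x htx
    obtain ⟨z, hz, hzt⟩ := eq_mul_central hZ hTab (hτT x) ht ((hτ x).trans htx.symm)
    have h1 : ⁅t, g⁆ = ⁅τ x, g⁆ := by
      rw [hzt, comm_mul_left_T _ (center_le_T2 hz)]
      have : ⁅z, g⁆ = 1 :=
        commutatorElement_eq_one_iff_mul_comm.2 (Subgroup.mem_center_iff.1 hz g).symm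
      rw [this, mul_one]
    rw [h1]
    exact (hδ _ (mem_T2.1 (hτT x) g)).symm
  have hψadd : ∀ g x y, ψ g (x + y) = ψ g x + ψ g y := by
    intro g x y
    apply hγinj
    have ht : τ x * τ y ∈ T2 P := Subgroup.mul_mem _ (hτT x) (hτT y)
    have hsq' : (τ x * τ y) * (τ x * τ y) = γ (x + y) := by
      rw [hγadd, ← hτ x, ← hτ y]
      have := hTab _ (hτT y) _ (hτT x)
      calc τ x * τ y * (τ x * τ y) = τ x * (τ y * τ x) * τ y := by group
        _ = τ x * (τ x * τ y) * τ y := by rw [this]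
        _ = τ x * τ x * (τ y * τ y) := by group
    rw [← hspec g _ ht _ hsq', hγadd, ← hspec g _ (hτT x) x (hτ x),
      ← hspec g _ (hτT y) y (hτ y)]
    exact comm_mul_left_T _ (hτT y) g
  have hψmul : ∀ g h x, ψ (g * h) x = ψ g x + ψ h x := by
    intro g h x
    apply hγinj
    rw [← hspec (g * h) _ (hτT x) x (hτ x), hγadd, ← hspec g _ (hτT x) x (hτ x),
      ← hspec h _ (hτT x) x (hτ x)]
    exact comm_mul_right_T (hτT x) g h
  have hιK : ∀ k (hk : k ∈ K), ι k = ι₀ ⟨k, hk⟩ := fun k hk => dif_pos hk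
  have hιact : ∀ k ∈ K, ∀ x, k (γ x) = γ (ι k * x) := by
    intro k hk x
    rw [hιK k hk]
    exact congrArg Subtype.val (hact ⟨k, hk⟩ x)
  have hψconj : ∀ k ∈ K, ∀ g x, ψ (k g) (ι k * x) = ι k * ψ g x := by
    intro k hk g x
    apply hγinj
    have ht : k (τ x) ∈ T2 P := T2_aut k (hτT x)
    have hsq' : k (τ x) * k (τ x) = γ (ι k * x) := by rw [← map_mul, hτ x, hιact k hk]
    rw [← hspec (k g) _ ht _ hsq', ← hιact k hk, ← hspec g _ (hτT x) x (hτ x),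
      map_commutatorElement]
  have hψzero : ∀ g, (∀ x, ψ g x = 0) ↔ ∀ t ∈ T2 P, t * g = g * t := by
    intro g
    constructor
    · intro h t ht
      obtain ⟨x, hx⟩ : ∃ x, γ x = t * t := by
        obtain ⟨x, hx⟩ := hbij.2 ⟨t * t, sq_mem_center hZ ht⟩
        exact ⟨x, congrArg Subtype.val hx⟩
      have := hspec g t ht x hx.symm
      rw [h x, hγ0'] at this
      exact commutatorElement_eq_one_iff_mul_comm.1 this
    · intro h x
      apply hγinj
      rw [← hspec g _ (hτT x) x (hτ x), hγ0']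
      exact commutatorElement_eq_one_iff_mul_comm.2 (h _ (hτT x))
  refine ⟨F, instF, instFin, hchar, γ, ι, ψ, ⟨hγinj, hγadd, fun x => (γ₀ x).2, ?_, ?_, ?_, hιact,
    hspec, hψadd, hψmul, hψconj, hψzero⟩, ?_⟩
  · intro z hz
    obtain ⟨x, hx⟩ := hbij.2 ⟨z, hz⟩
    exact ⟨x, congrArg Subtype.val hx⟩
  · intro k hk
    rw [hιK k hk]
    exact hne _
  · intro c hc
    obtain ⟨k, hk⟩ := hsurj c hc
    exact ⟨k.1, k.2, by rw [hιK k.1 k.2]; exact hk⟩
  · obtain ⟨k, hk, hk1⟩ := hK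
    refine ⟨ι k, by rw [hιK k hk]; exact hne _, fun h => hk1 ?_⟩
    have h2 := hιact k hk 1
    rw [h, mul_one] at h2
    have h3 : γ 1 = b * b := congrArg Subtype.val h1
    rw [h3] at h2
    exact hS.free k hk (b * b) hb1 ((hZ _).1 hb2) h2

/-- The centralizer of the second centre. -/
abbrev CT (P : Type*) [Group P] : Subgroup P := Subgroup.centralizer (T2 P : Set P)

lemma mem_CT {x : P} : x ∈ CT P ↔ ∀ t ∈ T2 P, t * x = x * t := Subgroup.mem_centralizer_iff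

/-- If the centralizer of the (abelian) second centre is strictly bigger than it, then it is
everything. -/
theorem centralizes_of_big [Finite P] {K : Subgroup (MulAut P)} (hS : Setup P K)
    (hP : IsPGroup 2 P) (hZ : ∀ x : P, x ∈ Subgroup.center P ↔ x * x = 1)
    (hTab : ∀ a ∈ T2 P, ∀ b ∈ T2 P, a * b = b * a)
    (hAab : ∀ a ∈ CT P, ∀ b ∈ CT P, a * b = b * a)
    (hsq : ∀ z ∈ Subgroup.center P, ∃ t ∈ T2 P, t * t = z)
    (hbig : ∃ a ∈ CT P, a ∉ T2 P)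
    {F : Type} [Field F] [Fintype F] [CharP F 2] {γ : F → P} {ι : MulAut P → F}
    {ψ : P → F → F} (hC : Coords K γ ι ψ) (hc : ∃ c : F, c ≠ 0 ∧ c ≠ 1) :
    ∀ g : P, g ∈ CT P := by
  classical
  have hTA : ∀ t ∈ T2 P, t ∈ CT P := fun t ht => mem_CT.2 (fun s hs => hTab s hs t ht)
  have hD1 : ∀ a ∈ CT P, a * a ∈ Subgroup.center P → a ∈ T2 P := by
    intro a ha ha2
    obtain ⟨u, hu, hu2⟩ := hsq _ ha2
    have hcomm : u * a = a * u := mem_CT.1 ha u hu
    have h1 : (a * u⁻¹) * (a * u⁻¹) = 1 := by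
      have h0 : u⁻¹ * a = a * u⁻¹ := by
        calc u⁻¹ * a = u⁻¹ * (a * u) * u⁻¹ := by group
          _ = u⁻¹ * (u * a) * u⁻¹ := by rw [hcomm]
          _ = a * u⁻¹ := by group
      calc a * u⁻¹ * (a * u⁻¹) = a * (u⁻¹ * a) * u⁻¹ := by group
        _ = a * (a * u⁻¹) * u⁻¹ := by rw [h0]
        _ = (a * a) * (u * u)⁻¹ := by group
        _ = 1 := by rw [hu2, mul_inv_cancel]
    have h2 : a * u⁻¹ ∈ T2 P := center_le_T2 ((hZ _).2 h1)
    have h3 : a = (a * u⁻¹) * u := by group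
    rw [h3]; exact Subgroup.mul_mem _ h2 hu
  have hD2 : ∀ n : ℕ, ∀ a ∈ CT P, a ^ (2 ^ n) = 1 → a ∉ T2 P →
      ∃ a₁ ∈ CT P, a₁ * a₁ ∈ T2 P ∧ a₁ * a₁ ∉ Subgroup.center P := by
    intro n
    induction n with
    | zero =>
      intro a ha h hn
      rw [pow_zero, pow_one] at h
      rw [h] at hn
      exact absurd (Subgroup.one_mem _) hn
    | succ n ih =>
      intro a ha h hn
      by_cases h2 : a * a ∈ T2 P
      · exact ⟨a, ha, h2, fun hz => hn (hD1 a ha hz)⟩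
      · apply ih (a * a) (Subgroup.mul_mem _ ha ha) _ h2
        rw [← pow_two, ← pow_mul, ← pow_succ']; exact h
  obtain ⟨a₀, ha₀, ha₀T⟩ := hbig
  obtain ⟨m, hm⟩ := hP a₀
  obtain ⟨a₁, ha₁, hb₁T, hb₁Z⟩ := hD2 m a₀ ha₀ hm ha₀T
  have hD3 : ∀ t ∈ T2 P, ∃ a ∈ CT P, a * a = t := by
    intro t ht
    by_cases htZ : t ∈ Subgroup.center P
    · obtain ⟨u, hu, hu2⟩ := hsq t htZ
      exact ⟨u, hTA u hu, hu2⟩
    · have ht2 := sq_mem_center hZ ht
      have ht1 : t * t ≠ 1 := fun h => htZ ((hZ t).2 h)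
      have hb2 := sq_mem_center hZ hb₁T
      have hb1 : (a₁ * a₁) * (a₁ * a₁) ≠ 1 := fun h => hb₁Z ((hZ _).2 h)
      obtain ⟨k, hk, hkt⟩ := hS.reg _ (t * t) hb1 ((hZ _).1 hb2) ht1 ((hZ _).1 ht2)
      have hkT : k (a₁ * a₁) ∈ T2 P := T2_aut k hb₁T
      obtain ⟨z, hz, hzt⟩ := eq_mul_central hZ hTab hkT ht (by rw [← map_mul, hkt])
      obtain ⟨u, hu, hu2⟩ := hsq z hz
      have hkA : k a₁ ∈ CT P := centralizer_aut k ha₁
      refine ⟨k a₁ * u, Subgroup.mul_mem _ hkA (hTA u hu), ?_⟩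
      have hcomm : u * k a₁ = k a₁ * u := mem_CT.1 hkA u hu
      calc k a₁ * u * (k a₁ * u) = k a₁ * (u * k a₁) * u := by group
        _ = k a₁ * (k a₁ * u) * u := by rw [hcomm]
        _ = k (a₁ * a₁) * (u * u) := by rw [map_mul]; group
        _ = t := by rw [hu2, ← hzt]
  have hg2 : ∀ g : P, g * g ∈ CT P := fun g =>
    mem_CT.2 (fun t ht => commutatorElement_eq_one_iff_mul_comm.1 (comm_sq_right hZ ht g))
  have hidem : ∀ g x, ψ g (ψ g x) = ψ g x := by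
    intro g x
    obtain ⟨t, ht, htx⟩ := hsq (γ x) (hC.γ_mem x)
    obtain ⟨a, ha, hat⟩ := hD3 t ht
    have hconjA : g * a⁻¹ * g⁻¹ ∈ CT P := centralizer_conj (Subgroup.inv_mem _ ha) g
    have hd' : ⁅a, g⁆ = a * (g * a⁻¹ * g⁻¹) := by rw [commutatorElement_def]; group
    have hdA : ⁅a, g⁆ ∈ CT P := by rw [hd']; exact Subgroup.mul_mem _ ha hconjA
    have hdd : ⁅a, g⁆ * ⁅a, g⁆ = ⁅t, g⁆ := by
      have hcomm := hAab _ hconjA _ ha
      rw [hd', ← hat, commutatorElement_def]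
      calc a * (g * a⁻¹ * g⁻¹) * (a * (g * a⁻¹ * g⁻¹))
          = a * ((g * a⁻¹ * g⁻¹) * a) * (g * a⁻¹ * g⁻¹) := by group
        _ = a * (a * (g * a⁻¹ * g⁻¹)) * (g * a⁻¹ * g⁻¹) := by rw [hcomm]
        _ = a * a * g * (a * a)⁻¹ * g⁻¹ := by group
    have hdd' : ⁅a, g⁆ * ⁅a, g⁆ = γ (ψ g x) := by rw [hdd]; exact hC.ψ_spec g t ht x htx
    have hdT : ⁅a, g⁆ ∈ T2 P := hD1 _ hdA (by rw [hdd']; exact hC.γ_mem _)
    have h1 : ⁅⁅a, g⁆, g⁆ = γ (ψ g (ψ g x)) := hC.ψ_spec g _ hdT _ hdd'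
    have h2 : ⁅⁅a, g⁆, g⁆ = ⁅a, g⁆ * ⁅a, g⁆ := by
      have hgg : (g * g) * a = a * (g * g) := hAab _ (hg2 g) _ ha
      have h3 : g * ⁅a, g⁆⁻¹ * g⁻¹ = ⁅a, g⁆ := by
        rw [hd']
        calc g * (a * (g * a⁻¹ * g⁻¹))⁻¹ * g⁻¹
            = (g * g * a) * (g * g)⁻¹ * (g * a⁻¹ * g⁻¹) := by group
          _ = (a * (g * g)) * (g * g)⁻¹ * (g * a⁻¹ * g⁻¹) := by rw [hgg]
          _ = a * (g * a⁻¹ * g⁻¹) := by group
      calc ⁅⁅a, g⁆, g⁆ = ⁅a, g⁆ * (g * ⁅a, g⁆⁻¹ * g⁻¹) := by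
            rw [commutatorElement_def ⁅a, g⁆ g]; group
        _ = ⁅a, g⁆ * ⁅a, g⁆ := by rw [h3]
    apply hC.γ_inj
    rw [← h1, h2, hdd']
  have hconjD : ∀ g : P, ∀ c : F, c ≠ 0 → ∃ g', ψ g' = fun x => c * ψ g (c⁻¹ * x) := by
    intro g c hc0
    obtain ⟨k, hk, hkc⟩ := hC.ι_surj c hc0
    refine ⟨k g, ?_⟩
    funext x
    have := hC.ψ_conj k hk g (c⁻¹ * x)
    rw [hkc, ← mul_assoc, mul_inv_cancel₀ hc0, one_mul] at this
    exact this
  have hψ1 : ∀ x, ψ 1 x = 0 := (hC.ψ_zero 1).2 (fun t _ => by rw [mul_one, one_mul])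
  have hψinv : ∀ g x, ψ g⁻¹ x = ψ g x := by
    intro g x
    have := hC.ψ_mul g⁻¹ g x
    rw [inv_mul_cancel, hψ1] at this
    exact CharTwo.add_eq_zero.1 this.symm
  intro g
  have hmain := Cfsg.Agent.Lib.Helper88.SuzEig.idem_scalar (Set.range ψ)
    (by rintro f ⟨g', rfl⟩ x y; exact hC.ψ_add g' x y)
    (by rintro f ⟨g', rfl⟩ x; exact hidem g' x)
    (by rintro f ⟨g', rfl⟩ f' ⟨g'', rfl⟩; exact ⟨g' * g'', funext (fun x => hC.ψ_mul g' g'' x)⟩)
    (ψ g) (fun c hc0 => hconjD g c hc0)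
  rcases hmain with h | h
  · exact mem_CT.2 ((hC.ψ_zero g).1 h)
  · obtain ⟨c, hc0, hc1⟩ := hc
    obtain ⟨k, hk, hkc⟩ := hC.ι_surj c hc0
    have hk1 : k ≠ 1 := by
      rintro rfl
      have := hC.ι_act 1 (Subgroup.one_mem _) 1
      rw [MulAut.one_apply, mul_one] at this
      have h2 : (1 : F) = ι (1 : MulAut P) := hC.γ_inj this
      exact hc1 (hkc.symm.trans h2.symm)
    have hkg : ∀ x, ψ (k g) x = x := by
      intro x
      have := hC.ψ_conj k hk g (c⁻¹ * x)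
      rw [hkc, ← mul_assoc, mul_inv_cancel₀ hc0, one_mul, h] at this
      rw [this, ← mul_assoc, mul_inv_cancel₀ hc0, one_mul]
    have h0 : ∀ x, ψ (g⁻¹ * k g) x = 0 := by
      intro x
      rw [hC.ψ_mul, hψinv, h, hkg, CharTwo.add_self_eq_zero]
    have hmem : g⁻¹ * k g ∈ CT P := mem_CT.2 ((hC.ψ_zero _).1 h0)
    exact fpf_quot hP hS (CT P) (fun k' _ x hx => centralizer_aut k' hx) k hk hk1 g hmem

/-- If the (abelian) second centre is self-centralizing, all squares are central. -/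
theorem sq_of_selfcent [Finite P] {K : Subgroup (MulAut P)} (hS : Setup P K)
    (hP : IsPGroup 2 P) (hZ : ∀ x : P, x ∈ Subgroup.center P ↔ x * x = 1)
    (hTab : ∀ a ∈ T2 P, ∀ b ∈ T2 P, a * b = b * a)
    (hCT : ∀ g ∈ CT P, g ∈ T2 P)
    {F : Type} [Field F] [Fintype F] [CharP F 2] {γ : F → P} {ι : MulAut P → F}
    {ψ : P → F → F} (hC : Coords K γ ι ψ) (hc : ∃ c : F, c ≠ 0 ∧ c ≠ 1) :
    ∀ g : P, g * g ∈ Subgroup.center P := by
  classical
  have hγ0 : γ 0 = 1 := by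
    have h := hC.γ_add 0 0
    rw [add_zero] at h
    exact left_eq_mul.1 h
  have hψ1 : ∀ x, ψ 1 x = 0 := (hC.ψ_zero 1).2 (fun t _ => by rw [mul_one, one_mul])
  have hψinv : ∀ g x, ψ g⁻¹ x = ψ g x := by
    intro g x
    have := hC.ψ_mul g⁻¹ g x
    rw [inv_mul_cancel, hψ1] at this
    exact CharTwo.add_eq_zero.1 this.symm
  have hzeroT : ∀ g, (∀ x, ψ g x = 0) → g ∈ T2 P :=
    fun g h => hCT g (mem_CT.2 ((hC.ψ_zero g).1 h))
  have hTzero : ∀ g ∈ T2 P, ∀ x, ψ g x = 0 :=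
    fun g hg => (hC.ψ_zero g).2 (fun t ht => hTab t ht g hg)
  have hψ0 : ∀ g, ψ g 0 = 0 := by
    intro g
    have h := hC.ψ_add g 0 0
    rw [add_zero] at h
    exact left_eq_add.1 h
  have hkne : ∀ k ∈ K, ι k ≠ 1 → k ≠ 1 := by
    intro k hk h1 hk1
    rw [hk1] at h1
    have := hC.ι_act 1 (Subgroup.one_mem _) 1
    rw [MulAut.one_apply, mul_one] at this
    exact h1 (hC.γ_inj this).symm
  have hconj : ∀ k ∈ K, ∀ g x, ψ (k g) x = ι k * ψ g ((ι k)⁻¹ * x) := by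
    intro k hk g x
    have := hC.ψ_conj k hk g ((ι k)⁻¹ * x)
    rwa [← mul_assoc, mul_inv_cancel₀ (hC.ι_ne k hk), one_mul] at this
  have hfpf : ∀ g, ∀ k ∈ K, k ≠ 1 → (∀ x, ψ (k g) x = ψ g x) → g ∈ T2 P := by
    intro g k hk hk1 h
    have h0 : ∀ x, ψ (g⁻¹ * k g) x = 0 := by
      intro x
      rw [hC.ψ_mul, hψinv, h, CharTwo.add_self_eq_zero]
    exact fpf_quot hP hS (T2 P) (fun k' _ x hx => T2_aut k' hx) k hk hk1 g (hzeroT _ h0)
  have hsqT : ∀ g : P, g * g ∈ T2 P := fun g =>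
    hCT _ (mem_CT.2 (fun t ht => commutatorElement_eq_one_iff_mul_comm.1 (comm_sq_right hZ ht g)))
  have hcommT : ∀ g h : P, ⁅g, h⁆ ∈ T2 P := by
    intro g h
    apply hzeroT
    intro x
    rw [commutatorElement_def, hC.ψ_mul, hC.ψ_mul, hC.ψ_mul, hψinv, hψinv]
    have : ψ g x + ψ h x + ψ g x + ψ h x = (ψ g x + ψ g x) + (ψ h x + ψ h x) := by ring
    rw [this, CharTwo.add_self_eq_zero, CharTwo.add_self_eq_zero, add_zero]
  have hR1 : ∀ g h x₀ y, (g * g) * (g * g) = γ x₀ → ⁅g, h⁆ * ⁅g, h⁆ = γ y →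
      ψ h x₀ = ψ g y + y := by
    intro g h x₀ y hx₀ hy
    apply hC.γ_inj
    rw [hC.γ_add, ← hC.ψ_spec h _ (hsqT g) x₀ hx₀, ← hC.ψ_spec g _ (hcommT g h) y hy, ← hy]
    have hcz : ⁅⁅g, h⁆, g⁆ ∈ Subgroup.center P := mem_T2.1 (hcommT g h) g
    have hinv : ⁅⁅g, h⁆, g⁆⁻¹ = ⁅⁅g, h⁆, g⁆ := inv_eq_of_mul_eq_one_right ((hZ _).1 hcz)
    have h1 : ∀ c : P, g * c * g⁻¹ = ⁅c, g⁆⁻¹ * c := by
      intro c
      rw [commutatorElement_def]; group
    rw [comm_mul_left, h1, hinv, mul_assoc]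
  let Pure : P → Prop := fun g => ∃ (σ : F ≃+* F) (a : F),
    (∀ c : F, σ c = c → c = 0 ∨ c = 1) ∧ ∀ x, ψ g x = a * σ x
  have hP4 : ∀ g, Pure g → (g * g) * (g * g) = 1 := by
    rintro g ⟨σ, a, -, hg⟩
    by_cases ha : a = 0
    · have : g ∈ T2 P := hzeroT g (fun x => by rw [hg, ha, zero_mul])
      exact (hZ _).1 (sq_mem_center hZ this)
    · obtain ⟨x₀, hx₀⟩ := hC.γ_surj _ (sq_mem_center hZ (hsqT g))
      have h1 := hC.ψ_spec g _ (hsqT g) x₀ hx₀.symm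
      have h2 : ⁅g * g, g⁆ = 1 := commutatorElement_eq_one_iff_mul_comm.2 (mul_assoc g g g)
      rw [h2, ← hγ0] at h1
      have h3 := hC.γ_inj h1
      rw [hg] at h3
      have h4 : x₀ = 0 := by
        rcases mul_eq_zero.1 h3.symm with h | h
        · exact absurd h ha
        · simpa using h
      rw [← hx₀, h4, hγ0]
  have hfix : ∀ g h : P, Pure g → ∀ y, ⁅g, h⁆ * ⁅g, h⁆ = γ y → ψ g y = y := by
    intro g h hg y hy
    have h1 := hR1 g h 0 y (by rw [hγ0]; exact hP4 g hg) hy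
    rw [hψ0] at h1
    exact CharTwo.add_eq_zero.1 h1.symm
  have hfix' : ∀ g h : P, Pure h → ∀ y, ⁅g, h⁆ * ⁅g, h⁆ = γ y → ψ h y = y := by
    intro g h hh y hy
    apply hfix h g hh y
    rw [← commutatorElement_inv g h, ← mul_inv_rev, hy]
    exact inv_eq_of_mul_eq_one_right ((hZ _).1 (hC.γ_mem y))
  have hbadd : ∀ g h h' : P, ⁅g, h * h'⁆ * ⁅g, h * h'⁆
      = (⁅g, h⁆ * ⁅g, h⁆) * (⁅g, h'⁆ * ⁅g, h'⁆) := by
    intro g h h'
    rw [comm_mul_right]
    have hc1 := hcommT g h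
    have hc2 : h * ⁅g, h'⁆ * h⁻¹ ∈ T2 P :=
      (inferInstance : (T2 P).Normal).conj_mem _ (hcommT g h') h
    have hcm := hTab _ hc2 _ hc1
    have hz := sq_mem_center hZ (hcommT g h')
    have hz' : h * (⁅g, h'⁆ * ⁅g, h'⁆) * h⁻¹ = ⁅g, h'⁆ * ⁅g, h'⁆ := by
      rw [Subgroup.mem_center_iff.1 hz h, mul_inv_cancel_right]
    calc ⁅g, h⁆ * (h * ⁅g, h'⁆ * h⁻¹) * (⁅g, h⁆ * (h * ⁅g, h'⁆ * h⁻¹))
        = ⁅g, h⁆ * ((h * ⁅g, h'⁆ * h⁻¹) * ⁅g, h⁆) * (h * ⁅g, h'⁆ * h⁻¹) := by group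
      _ = ⁅g, h⁆ * (⁅g, h⁆ * (h * ⁅g, h'⁆ * h⁻¹)) * (h * ⁅g, h'⁆ * h⁻¹) := by rw [hcm]
      _ = ⁅g, h⁆ * ⁅g, h⁆ * (h * (⁅g, h'⁆ * ⁅g, h'⁆) * h⁻¹) := by group
      _ = _ := by rw [hz']
  have hPP : ∀ g h : P, Pure g → Pure h → ⁅g, h⁆ * ⁅g, h⁆ = 1 := by
    intro g h hg hh
    obtain ⟨y, hy⟩ := hC.γ_surj _ (sq_mem_center hZ (hcommT g h))
    have hy' := hy.symm
    by_contra hne
    have hy0 : y ≠ 0 := by
      rintro rfl
      exact hne (by rw [hy', hγ0])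
    have hgy := hfix g h hg y hy'
    have hhy := hfix' g h hh y hy'
    obtain ⟨σ, a, hσ, hgσ⟩ := id hg
    obtain ⟨σ', a', hσ', hhσ⟩ := id hh
    have ha : a ≠ 0 := by
      rintro rfl
      rw [hgσ, zero_mul] at hgy
      exact hy0 hgy.symm
    have ha' : a' ≠ 0 := by
      rintro rfl
      rw [hhσ, zero_mul] at hhy
      exact hy0 hhy.symm
    obtain ⟨c, hc0, hc1⟩ := hc
    obtain ⟨k, hk, hkc⟩ := hC.ι_surj c hc0
    have hσc : σ' c ≠ c := fun h => (hσ' c h).elim hc0 hc1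
    have hσc0 : σ' c ≠ 0 := by simpa using hc0
    have hh₂ : ∀ x, ψ (k h) x = (a' * c * (σ' c)⁻¹) * σ' x := by
      intro x
      rw [hconj k hk, hkc, hhσ, map_mul, map_inv₀]
      ring
    have hP₂ : Pure (k h) := ⟨σ', _, hσ', hh₂⟩
    have hh₃ : ∀ x, ψ (h * k h) x = (a' + a' * c * (σ' c)⁻¹) * σ' x := by
      intro x
      rw [hC.ψ_mul, hhσ, hh₂]; ring
    have hP₃ : Pure (h * k h) := ⟨σ', _, hσ', hh₃⟩
    obtain ⟨y₂, hy₂⟩ := hC.γ_surj _ (sq_mem_center hZ (hcommT g (k h)))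
    have hy₃ : ⁅g, h * k h⁆ * ⁅g, h * k h⁆ = γ (y + y₂) := by
      rw [hbadd, hy', ← hy₂, hC.γ_add]
    have hgy₂ := hfix g (k h) hg y₂ hy₂.symm
    have hhy₂ := hfix' g (k h) hP₂ y₂ hy₂.symm
    have hhy₃ := hfix' g (h * k h) hP₃ (y + y₂) hy₃
    have ha₂ : a' * c * (σ' c)⁻¹ ≠ a' := by
      intro h
      have h' : a' * (c * (σ' c)⁻¹) = a' * 1 := by rw [mul_one, ← mul_assoc]; exact h
      have h'' : c * (σ' c)⁻¹ = 1 := mul_left_cancel₀ ha' h'
      exact hσc (eq_of_div_eq_one (by rw [div_eq_mul_inv]; exact h'')).symm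
    have hσy : σ' y ≠ 0 := by simpa using hy0
    by_cases hy20 : y₂ = 0
    · rw [hy20, add_zero, hh₃] at hhy₃
      rw [hhσ] at hhy
      have h0 : a' * c * (σ' c)⁻¹ * σ' y = 0 := by
        have e : (a' + a' * c * (σ' c)⁻¹) * σ' y
            = a' * σ' y + a' * c * (σ' c)⁻¹ * σ' y := by ring
        rw [e, hhy] at hhy₃
        exact add_eq_left.1 hhy₃
      rcases mul_eq_zero.1 h0 with h | h
      · rcases mul_eq_zero.1 h with h | h
        · rcases mul_eq_zero.1 h with h | h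
          · exact ha' h
          · exact hc0 h
        · exact hσc0 (inv_eq_zero.1 h)
      · exact hσy h
    · have huniq : y₂ = y := by
        rw [hgσ] at hgy hgy₂
        have h1 : σ (y₂ / y) = y₂ / y := by
          have e1 : σ y = y / a := by rw [eq_div_iff ha, mul_comm]; exact hgy
          have e2 : σ y₂ = y₂ / a := by rw [eq_div_iff ha, mul_comm]; exact hgy₂
          rw [map_div₀, e1, e2]
          field_simp
        rcases hσ _ h1 with h | h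
        · exact absurd ((div_eq_zero_iff.1 h).resolve_right hy0) hy20
        · exact (div_eq_one_iff_eq hy0).1 h
      rw [huniq, hh₂] at hhy₂
      rw [hhσ] at hhy
      have h0 : a' * c * (σ' c)⁻¹ * σ' y = a' * σ' y := hhy₂.trans hhy.symm
      exact ha₂ (mul_right_cancel₀ hσy h0)
  have hfixfield : ∀ g' (σ : F ≃+* F) (a : F), a ≠ 0 → (∀ x, ψ g' x = a * σ x) →
      ∀ c : F, σ c = c → c = 0 ∨ c = 1 := by
    intro g' σ a ha hg' c hσc
    by_contra hcon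
    rw [not_or] at hcon
    obtain ⟨k, hk, hkc⟩ := hC.ι_surj c hcon.1
    have hk1 : k ≠ 1 := hkne k hk (by rw [hkc]; exact hcon.2)
    have hT : g' ∈ T2 P := by
      apply hfpf g' k hk hk1
      intro x
      rw [hconj k hk, hkc, hg', hg', map_mul, map_inv₀, hσc]
      have hc0 : c ≠ 0 := hcon.1
      field_simp
    have h0 := hTzero g' hT 1
    rw [hg', map_one, mul_one] at h0
    exact ha h0
  have hscalar : ∀ g' (a : F), (∀ x, ψ g' x = a * x) → g' ∈ T2 P := by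
    intro g' a hg'
    obtain ⟨c, hc0, hc1⟩ := hc
    obtain ⟨k, hk, hkc⟩ := hC.ι_surj c hc0
    apply hfpf g' k hk (hkne k hk (by rw [hkc]; exact hc1))
    intro x
    rw [hconj k hk, hkc, hg', hg']
    field_simp
  let X : Set P := {g | Pure g} ∪ (T2 P : Set P)
  have hN : ∀ (a : (F ≃+* F) → F) (s : Finset (F ≃+* F)), ∀ g,
      (∀ x, ψ g x = ∑ σ ∈ s, a σ * σ x) →
      (∀ σ ∈ s, ∃ g', ψ g' = fun x => a σ * σ x) → g ∈ Subgroup.closure X := by
    intro a s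
    induction s using Finset.induction_on with
    | empty =>
      intro g hg _
      exact Subgroup.subset_closure (Or.inr (hzeroT g (fun x => by rw [hg, Finset.sum_empty])))
    | insert σ s hσ ih =>
      intro g hg hD
      obtain ⟨g', hg'⟩ := hD σ (Finset.mem_insert_self _ _)
      have hg'x : ∀ x, ψ g' x = a σ * σ x := fun x => congrFun hg' x
      have hg'N : g' ∈ Subgroup.closure X := by
        apply Subgroup.subset_closure
        by_cases hr : σ = RingEquiv.refl F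
        · right
          exact hscalar g' (a σ) (fun x => by rw [hg'x, hr]; rfl)
        · by_cases ha : a σ = 0
          · right
            exact hzeroT g' (fun x => by rw [hg'x, ha, zero_mul])
          · left
            exact ⟨σ, a σ, hfixfield g' σ (a σ) ha hg'x, hg'x⟩
      have hrest : g'⁻¹ * g ∈ Subgroup.closure X := by
        apply ih
        · intro x
          rw [hC.ψ_mul, hψinv, hg'x, hg x, Finset.sum_insert hσ, ← add_assoc,
            CharTwo.add_self_eq_zero, zero_add]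
        · intro τ hτ
          exact hD τ (Finset.mem_insert_of_mem hτ)
      have : g = g' * (g'⁻¹ * g) := by group
      rw [this]
      exact Subgroup.mul_mem _ hg'N hrest
  have hX1 : ∀ x ∈ X, x * x ∈ Subgroup.center P := by
    rintro x (hx | hx)
    · exact (hZ _).2 (hP4 x hx)
    · exact sq_mem_center hZ hx
  have hX2 : ∀ x ∈ X, ∀ y ∈ X, ⁅x, y⁆ ∈ Subgroup.center P := by
    rintro x (hx | hx) y (hy | hy)
    · exact (hZ _).2 (hPP x y hx hy)
    · rw [← commutatorElement_inv y x]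
      exact Subgroup.inv_mem _ (mem_T2.1 hy x)
    · exact mem_T2.1 hx y
    · exact mem_T2.1 hx y
  have hZn : ∀ z ∈ Subgroup.center P, ∀ a : P, a * z * a⁻¹ = z := by
    intro z hz a
    rw [Subgroup.mem_center_iff.1 hz a, mul_inv_cancel_right]
  have hS1 : ∀ x ∈ X, ∀ n ∈ Subgroup.closure X, ⁅x, n⁆ ∈ Subgroup.center P := by
    intro x hx n hn
    induction hn using Subgroup.closure_induction with
    | mem y hy => exact hX2 x hx y hy
    | one => rw [commutatorElement_one_right]; exact Subgroup.one_mem _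
    | mul a b _ _ iha ihb =>
      rw [comm_mul_right, hZn _ ihb a]
      exact Subgroup.mul_mem _ iha ihb
    | inv a _ iha =>
      have : ⁅x, a⁻¹⁆ = a⁻¹ * ⁅x, a⁆⁻¹ * a⁻¹⁻¹ := by simp only [commutatorElement_def]; group
      rw [this, hZn _ (Subgroup.inv_mem _ iha)]
      exact Subgroup.inv_mem _ iha
  have hS2 : ∀ m ∈ Subgroup.closure X, ∀ n ∈ Subgroup.closure X,
      ⁅m, n⁆ ∈ Subgroup.center P := by
    intro m hm n hn
    induction hm using Subgroup.closure_induction with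
    | mem y hy => exact hS1 y hy n hn
    | one => rw [commutatorElement_one_left]; exact Subgroup.one_mem _
    | mul a b _ _ iha ihb =>
      rw [comm_mul_left, hZn _ ihb a]
      exact Subgroup.mul_mem _ ihb iha
    | inv a _ iha =>
      have : ⁅a⁻¹, n⁆ = a⁻¹ * ⁅a, n⁆⁻¹ * a⁻¹⁻¹ := by simp only [commutatorElement_def]; group
      rw [this, hZn _ (Subgroup.inv_mem _ iha)]
      exact Subgroup.inv_mem _ iha
  have hS3 : ∀ n ∈ Subgroup.closure X, n * n ∈ Subgroup.center P := by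
    intro n hn
    induction hn using Subgroup.closure_induction with
    | mem y hy => exact hX1 y hy
    | one => rw [mul_one]; exact Subgroup.one_mem _
    | mul a b ha hb iha ihb =>
      have : a * b * (a * b) = (a * a) * ⁅a⁻¹, b⁆ * (b * b) := sq_mul a b
      rw [this]
      exact Subgroup.mul_mem _ (Subgroup.mul_mem _ iha (hS2 _ (Subgroup.inv_mem _ ha) _ hb)) ihb
    | inv a _ iha =>
      have : a⁻¹ * a⁻¹ = (a * a)⁻¹ := by group
      rw [this]; exact Subgroup.inv_mem _ iha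
  intro g
  apply hS3
  obtain ⟨s, a, ha, hD⟩ := Cfsg.Agent.Lib.Helper88.SuzEig.proj' (Set.range ψ)
    (by rintro f ⟨g', rfl⟩ x y; exact hC.ψ_add g' x y)
    (by rintro f ⟨g', rfl⟩ f' ⟨g'', rfl⟩; exact ⟨g' * g'', funext (fun x => hC.ψ_mul g' g'' x)⟩)
    (by
      rintro f ⟨g', rfl⟩ c hc0
      obtain ⟨k, hk, hkc⟩ := hC.ι_surj c hc0
      exact ⟨k g', funext (fun x => by rw [hconj k hk, hkc])⟩)
    (ψ g) ⟨g, rfl⟩
  exact hN a s g ha (fun σ hσ => hD σ hσ)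

/-- **Higman.** In the setting of `Setup`, with `P` non-abelian and `K ≠ 1`, all squares of `P`
are central. -/
theorem sq_central [Finite P] {K : Subgroup (MulAut P)} (hS : Setup P K) (hP : IsPGroup 2 P)
    (hZ : ∀ x : P, x ∈ Subgroup.center P ↔ x * x = 1)
    (hnc : ∃ a b : P, a * b ≠ b * a) (hK : ∃ k ∈ K, k ≠ 1) :
    ∀ x : P, x * x ∈ Subgroup.center P := by
  classical
  by_cases hT : ∃ a ∈ T2 P, ∃ b ∈ T2 P, a * b ≠ b * a
  · exact sq_of_T_nonab hS hP hZ hT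
  have hTab : ∀ a ∈ T2 P, ∀ b ∈ T2 P, a * b = b * a := by
    intro a ha b hb
    by_contra h
    exact hT ⟨a, ha, b, hb, h⟩
  have hnZ : ¬ (⊤ : Subgroup P) ≤ Subgroup.center P := by
    intro h
    obtain ⟨a, b, hab⟩ := hnc
    exact hab (Subgroup.mem_center_iff.1 (h (Subgroup.mem_top b)) a)
  obtain ⟨b, -, hbZ, -, hb⟩ := exists_layer hP ⊤ ⊤ (Subgroup.center P) le_rfl
    (fun g _ x _ => Subgroup.mem_top _)
    (fun g _ a ha => (inferInstance : (Subgroup.center P).Normal).conj_mem a ha g) hnZ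
  have hbT : b ∈ T2 P := mem_T2.2 (fun g => hb g (Subgroup.mem_top g))
  have hsq := exists_sqrt hS hZ hbT hbZ
  have hAab : ∀ a ∈ CT P, ∀ c ∈ CT P, a * c = c * a := by
    intro a ha c hc
    by_contra hac
    have hcs := center_sq hS hP (Nat.card (CT P)) (CT P) le_rfl
      (fun k _ x hx => centralizer_aut k hx) ⟨a, ha, c, hc, hac⟩
    have hbA : b ∈ CT P := mem_CT.2 (fun s hs => hTab s hs b hbT)
    have := hcs b hbA (fun g hg => (mem_CT.1 hg b hbT).symm)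
    exact hbZ ((hZ b).2 this)
  obtain ⟨F, instF, instFin, hchar, γ, ι, ψ, hC, hc⟩ := exists_coords hS hZ hTab hbT hbZ hK
  by_cases hbig : ∃ a ∈ CT P, a ∉ T2 P
  · exfalso
    have hall := centralizes_of_big hS hP hZ hTab hAab hsq hbig hC hc
    obtain ⟨a, c, hac⟩ := hnc
    exact hac (hAab a (hall a) c (hall c))
  · have hCT : ∀ g ∈ CT P, g ∈ T2 P := by
      intro g hg
      by_contra h
      exact hbig ⟨g, hg, h⟩
    exact sq_of_selfcent hS hP hZ hTab hCT hC hc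

/-- Commutators are central as well. -/
theorem comm_central [Finite P] {K : Subgroup (MulAut P)} (hS : Setup P K) (hP : IsPGroup 2 P)
    (hZ : ∀ x : P, x ∈ Subgroup.center P ↔ x * x = 1)
    (hnc : ∃ a b : P, a * b ≠ b * a) (hK : ∃ k ∈ K, k ≠ 1) :
    ∀ x y : P, x⁻¹ * y⁻¹ * x * y ∈ Subgroup.center P := by
  intro x y
  have h := sq_central hS hP hZ hnc hK
  have e : x⁻¹ * y⁻¹ * x * y = (x⁻¹ * x⁻¹) * ((x * y⁻¹) * (x * y⁻¹)) * (y * y) := by group
  rw [e]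
  exact Subgroup.mul_mem _ (Subgroup.mul_mem _ (h _) (h _)) (h _)

end Cfsg.Agent.Lib.Helper88.SuzCl2
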