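import Mathlib
import Cfsg.Agent.Lib.Helper41.TMStmt

/-!
# S5987 piece INVSUB (second seat, helper88; port of Helper88.TPINVSUB)

An invariant subspace `U` without fixed vectors contains invariant subspaces of every finrank
`i s ≤ finrank U`.  Route: invariant complement (semisimplicity), a nonzero vector killed by an
irreducible factor `P` of the cyclotomic polynomial, the cyclic submodule it generates has
finrank `≤ deg P = i`, and `≥ i` by InvDim.
-/

set_option autoImplicit false

universe u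

namespace Cfsg.Agent.Lib.Helper88.TMINVSUB

open Cfsg.Agent.Lib.Helper41.TMStmt
open Cfsg.Agent.Lib.Helper45.OMiStmt (M Aniso FxM NDegM StabM)
open Polynomial

section gen
variable {F : Type u} [Field F] {V : Type u} [AddCommGroup V] [Module F V]

/-- polynomials in `f` preserve `f`-invariant submodules -/
theorem aeval_mem (f : Module.End F V) (M : Submodule F V) (hM : ∀ v ∈ M, f v ∈ M)
    (Q : F[X]) (v : V) (hv : v ∈ M) : (aeval f Q) v ∈ M := by
  induction Q using Polynomial.induction_on' with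
  | add p q hp hq => rw [map_add]; exact M.add_mem hp hq
  | monomial n a =>
    rw [← C_mul_X_pow_eq_monomial, map_mul, aeval_C, map_pow, aeval_X]
    simp only [Module.End.mul_apply, Module.algebraMap_end_apply]
    apply M.smul_mem
    induction n with
    | zero => simpa using hv
    | succ n ih => rw [pow_succ', Module.End.mul_apply]; exact hM _ ih

theorem const_case (f : Module.End F V) (Q : F[X]) (hdeg : Q.natDegree ≤ 0) (hQ0 : Q ≠ 0)
    (w : V) (hw0 : w ≠ 0) (hQw : (aeval f Q) w = 0) : False := by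
  rw [Polynomial.eq_C_of_natDegree_le_zero hdeg] at hQw hQ0
  rw [aeval_C] at hQw
  have hc : Q.coeff 0 ≠ 0 := fun h => hQ0 (by rw [h, map_zero])
  have h1 : Q.coeff 0 • w = 0 := by simpa using hQw
  exact hw0 ((smul_eq_zero.mp h1).resolve_left hc)

theorem exists_irr (f : Module.End F V) (M : Submodule F V) (hM : ∀ v ∈ M, f v ∈ M) :
    ∀ (n : ℕ) (Q : F[X]), Q.natDegree ≤ n → Q ≠ 0 → ∀ w ∈ M, w ≠ 0 → (aeval f Q) w = 0 →
      ∃ P : F[X], P.Monic ∧ Irreducible P ∧ P ∣ Q ∧ ∃ w' ∈ M, w' ≠ 0 ∧ (aeval f P) w' = 0 := by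
  intro n
  induction n with
  | zero =>
    intro Q hdeg hQ0 w _ hw0 hQw
    exact (const_case f Q hdeg hQ0 w hw0 hQw).elim
  | succ n ih =>
    intro Q hdeg hQ0 w hwM hw0 hQw
    by_cases hu : IsUnit Q
    · have h0 : Q.natDegree ≤ 0 := by rw [Polynomial.natDegree_eq_zero_of_isUnit hu]
      exact (const_case f Q h0 hQ0 w hw0 hQw).elim
    · obtain ⟨P, hPm, hPi, hPQ⟩ := Polynomial.exists_monic_irreducible_factor Q hu
      obtain ⟨Q', rfl⟩ := hPQ
      by_cases hw' : (aeval f Q') w = 0
      · have hQ'0 : Q' ≠ 0 := right_ne_zero_of_mul hQ0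
        have hdeg' : Q'.natDegree ≤ n := by
          have h1 : (P * Q').natDegree = P.natDegree + Q'.natDegree :=
            natDegree_mul hPi.ne_zero hQ'0
          have h2 : 0 < P.natDegree := hPi.natDegree_pos
          omega
        obtain ⟨P', hP'm, hP'i, hP'Q, w', hw'M, hw'0, hP'w⟩ := ih Q' hdeg' hQ'0 w hwM hw0 hw'
        exact ⟨P', hP'm, hP'i, hP'Q.mul_left P, w', hw'M, hw'0, hP'w⟩
      · refine ⟨P, hPm, hPi, dvd_mul_right P Q', (aeval f Q') w, aeval_mem f M hM Q' w hwM,
          hw', ?_⟩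
        rw [← Module.End.mul_apply, ← map_mul]; exact hQw

/-- the evaluation map `Q ↦ Q(f) w` -/
noncomputable def phi (f : Module.End F V) (w : V) : F[X] →ₗ[F] V :=
  (LinearMap.applyₗ w).comp (Polynomial.aeval f).toLinearMap

theorem phi_apply (f : Module.End F V) (w : V) (Q : F[X]) : phi f w Q = (aeval f Q) w := rfl

theorem exists_cyclic [FiniteDimensional F V] (f : Module.End F V) (P : F[X]) (hP : P.Monic)
    (w : V) (hw : (aeval f P) w = 0) :
    ∃ N : Submodule F V, w ∈ N ∧ (∀ v ∈ N, f v ∈ N) ∧ Module.finrank F ↥N ≤ P.natDegree ∧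
      ∀ M : Submodule F V, (∀ v ∈ M, f v ∈ M) → w ∈ M → N ≤ M := by
  refine ⟨LinearMap.range (phi f w), ⟨1, by rw [phi_apply, map_one]; rfl⟩, ?_, ?_, ?_⟩
  · rintro _ ⟨Q, rfl⟩
    refine ⟨X * Q, ?_⟩
    rw [phi_apply, phi_apply, map_mul, aeval_X, Module.End.mul_apply]
  · have hle : LinearMap.range (phi f w) ≤ (Polynomial.degreeLT F P.natDegree).map (phi f w) := by
      rintro _ ⟨Q, rfl⟩
      refine ⟨Q %ₘ P, ?_, ?_⟩
      · show Q %ₘ P ∈ Polynomial.degreeLT F P.natDegree
        rw [Polynomial.mem_degreeLT]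
        have h1 := Polynomial.degree_modByMonic_lt Q hP
        rwa [Polynomial.degree_eq_natDegree hP.ne_zero] at h1
      · have h2 := Polynomial.modByMonic_add_div Q P
        have h3 : phi f w (P * (Q /ₘ P)) = 0 := by
          rw [phi_apply, mul_comm, map_mul, Module.End.mul_apply, hw, map_zero]
        calc phi f w (Q %ₘ P) = phi f w (Q %ₘ P) + phi f w (P * (Q /ₘ P)) := by
              rw [h3, add_zero]
          _ = phi f w Q := by rw [← map_add, h2]
    have hfin : Module.Finite F ↥(Polynomial.degreeLT F P.natDegree) :=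
      Module.Finite.equiv (Polynomial.degreeLTEquiv F P.natDegree).symm
    have hrk : Module.finrank F ↥(Polynomial.degreeLT F P.natDegree) = P.natDegree := by
      rw [(Polynomial.degreeLTEquiv F P.natDegree).finrank_eq, Module.finrank_fin_fun]
    calc Module.finrank F ↥(LinearMap.range (phi f w))
        ≤ Module.finrank F ↥((Polynomial.degreeLT F P.natDegree).map (phi f w)) :=
          Submodule.finrank_mono hle
      _ ≤ Module.finrank F ↥(Polynomial.degreeLT F P.natDegree) := Submodule.finrank_map_le _ _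
      _ = P.natDegree := hrk
  · rintro M hM hwM _ ⟨Q, rfl⟩
    exact aeval_mem f M hM Q w hwM

end gen

theorem stab_iff {F : Type u} [Field F] {d : ℕ} (x : Matrix (M d) (M d) F)
    (W : Submodule F (M d → F)) : StabM x W ↔ ∀ v ∈ W, Matrix.toLin' x v ∈ W := by
  unfold StabM
  rw [Submodule.map_le_iff_le_comap]
  exact ⟨fun h v hv => h hv, fun h v hv => h v hv⟩

theorem main (hInv : InvDim.{u}) : InvSub.{u} := by
  intro F _ _ a₀ b₀ hab p _ _ d r _ hrp x hxr U hU hUF s
  have hbot : StabM (x : Matrix (M d) (M d) F) (⊥ : Submodule F (M d → F)) := by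
    unfold StabM; rw [Submodule.map_bot]
  induction s with
  | zero =>
    intro _
    exact ⟨⊥, bot_le, hbot, by simp⟩
  | succ s ih =>
    intro hs
    rcases Nat.eq_zero_or_pos (orderOf ((Fintype.card F : ℕ) : ZMod r)) with hi0 | hipos
    · exact ⟨⊥, bot_le, hbot, by simp [hi0]⟩
    obtain ⟨U', hU'U, hU'st, hU'fin⟩ := ih (le_trans (Nat.mul_le_mul_left _ (Nat.le_succ s)) hs)
    have hp : p.Prime := Fact.out
    have hr : r.Prime := Fact.out
    have hr0 : (r : F) ≠ 0 := by
      rw [Ne, CharP.cast_eq_zero_iff F p]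
      intro h
      exact hrp ((Nat.prime_dvd_prime_iff_eq hp hr).mp h).symm
    have hxr' : (x : Matrix (M d) (M d) F) ^ r = 1 := by
      have h1 := congrArg Units.val hxr
      rwa [Units.val_pow_eq_pow_val, Units.val_one] at h1
    have hfr : (Matrix.toLin' (x : Matrix (M d) (M d) F)) ^ r = 1 := by
      have h2 := congrArg (Matrix.toLinAlgEquiv' (R := F) (n := M d)) hxr'
      rw [map_pow, map_one] at h2
      exact h2
    have hss : Module.End.IsSemisimple (Matrix.toLin' (x : Matrix (M d) (M d) F)) := by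
      apply Module.End.isSemisimple_of_squarefree_aeval_eq_zero (p := X ^ r - C (1 : F))
      · exact (Polynomial.separable_X_pow_sub_C (1 : F) hr0 one_ne_zero).squarefree
      · rw [map_sub, map_pow, aeval_X, aeval_C, map_one, hfr, sub_self]
    have hUs := (stab_iff _ U).mp hU
    have hU's := (stab_iff _ U').mp hU'st
    obtain ⟨q, hq, hcompl⟩ := (Module.End.isSemisimple_iff.mp hss) U'
      ((Module.End.mem_invtSubmodule _).mpr (fun v hv => hU's v hv))
    have hqs : ∀ v ∈ q, Matrix.toLin' (x : Matrix (M d) (M d) F) v ∈ q := fun v hv =>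
      ((Module.End.mem_invtSubmodule _).mp hq) hv
    have hCs : ∀ v ∈ q ⊓ U, Matrix.toLin' (x : Matrix (M d) (M d) F) v ∈ q ⊓ U := fun v hv =>
      ⟨hqs v hv.1, hUs v hv.2⟩
    have hCU' : U' ⊓ (q ⊓ U) = ⊥ := by
      rw [← inf_assoc, hcompl.inf_eq_bot, bot_inf_eq]
    have hsup : U' ⊔ (q ⊓ U) = U := by
      rw [← sup_inf_assoc_of_le q hU'U, hcompl.sup_eq_top, top_inf_eq]
    have hfinC : Module.finrank F ↥U =
        orderOf ((Fintype.card F : ℕ) : ZMod r) * s + Module.finrank F ↥(q ⊓ U) := by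
      have h1 := Submodule.finrank_sup_add_finrank_inf_eq U' (q ⊓ U)
      rw [hCU', finrank_bot, add_zero, hsup, hU'fin] at h1
      exact h1
    have hCpos : 0 < Module.finrank F ↥(q ⊓ U) := by
      rw [Nat.mul_succ] at hs
      omega
    obtain ⟨⟨v, hvC⟩, hv0⟩ := Module.finrank_pos_iff_exists_ne_zero.mp hCpos
    have hv0' : v ≠ 0 := fun h => hv0 (Subtype.ext h)
    -- the vector `x v - v`
    have hw0C : Matrix.toLin' (x : Matrix (M d) (M d) F) v - v ∈ q ⊓ U :=
      (q ⊓ U).sub_mem (hCs v hvC) hvC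
    have hw0ne : Matrix.toLin' (x : Matrix (M d) (M d) F) v - v ≠ 0 := by
      intro h
      have h1 : v ∈ U ⊓ FxM (x : Matrix (M d) (M d) F) := by
        refine ⟨hvC.2, ?_⟩
        show v ∈ LinearMap.ker (Matrix.toLin' (x : Matrix (M d) (M d) F) - LinearMap.id)
        rw [LinearMap.mem_ker, LinearMap.sub_apply, LinearMap.id_apply]
        exact h
      rw [hUF] at h1
      exact hv0' ((Submodule.mem_bot F).mp h1)
    have hcyc : (aeval (Matrix.toLin' (x : Matrix (M d) (M d) F)) (cyclotomic r F))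
        (Matrix.toLin' (x : Matrix (M d) (M d) F) v - v) = 0 := by
      have h1 : (aeval (Matrix.toLin' (x : Matrix (M d) (M d) F))
          (cyclotomic r F * (X - 1))) v = 0 := by
        rw [cyclotomic_prime_mul_X_sub_one F r, map_sub, map_pow, aeval_X, map_one, hfr, sub_self,
          LinearMap.zero_apply]
      rw [map_mul, Module.End.mul_apply, map_sub, aeval_X, map_one, LinearMap.sub_apply,
        Module.End.one_apply] at h1
      exact h1
    obtain ⟨P, hPm, hPi, hPdvd, w', hw'C, hw'0, hPw'⟩ :=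
      exists_irr (Matrix.toLin' (x : Matrix (M d) (M d) F)) (q ⊓ U) hCs
        (cyclotomic r F).natDegree (cyclotomic r F) le_rfl (cyclotomic_ne_zero r F)
        _ hw0C hw0ne hcyc
    have hdegP : P.natDegree = orderOf ((Fintype.card F : ℕ) : ZMod r) := by
      obtain ⟨f, -, hcard⟩ := FiniteField.card F p
      have hcop : p.Coprime r := (Nat.coprime_primes hp hr).mpr (Ne.symm hrp)
      rw [natDegree_of_dvd_cyclotomic_of_irreducible hcard hcop hPdvd hPi, ← orderOf_units,
        ZMod.coe_unitOfCoprime, hcard]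
    obtain ⟨N, hw'N, hNs, hNfin, hNmin⟩ :=
      exists_cyclic (Matrix.toLin' (x : Matrix (M d) (M d) F)) P hPm w' hPw'
    have hNC : N ≤ q ⊓ U := hNmin (q ⊓ U) hCs hw'C
    have hNst : StabM (x : Matrix (M d) (M d) F) N := (stab_iff _ N).mpr hNs
    have hNF : N ⊓ FxM (x : Matrix (M d) (M d) F) = ⊥ := by
      rw [eq_bot_iff, ← hUF]
      exact inf_le_inf_right _ (hNC.trans inf_le_right)
    have hdvd := hInv F a₀ b₀ hab p d r hrp x hxr N hNst hNF
    have hNpos : 0 < Module.finrank F ↥N :=
      Module.finrank_pos_iff_exists_ne_zero.mpr ⟨⟨w', hw'N⟩, fun h => hw'0 (congrArg Subtype.val h)⟩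
    have hNeq : Module.finrank F ↥N = orderOf ((Fintype.card F : ℕ) : ZMod r) := by
      have h1 := Nat.le_of_dvd hNpos hdvd
      omega
    refine ⟨U' ⊔ N, sup_le hU'U (hNC.trans inf_le_right), ?_, ?_⟩
    · rw [stab_iff]
      intro v hv
      obtain ⟨a, ha, b, hb, rfl⟩ := Submodule.mem_sup.mp hv
      rw [map_add]
      exact Submodule.add_mem_sup (hU's a ha) (hNs b hb)
    · have h1 := Submodule.finrank_sup_add_finrank_inf_eq U' N
      have h2 : U' ⊓ N = ⊥ := by
        rw [eq_bot_iff, ← hCU']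
        exact inf_le_inf_left _ hNC
      rw [h2, finrank_bot, add_zero, hU'fin, hNeq] at h1
      rw [h1, Nat.mul_succ]

end Cfsg.Agent.Lib.Helper88.TMINVSUB
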