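import Mathlib
import Cfsg.Agent.Lib.Helper44.TPStmt

/-!
# S5973 piece FXTYPE (second seat, helper88)

The type of the fixed space: `Plus (Fx x) ↔ Odd i ∨ Even ((2 d - finrank Fx) / i)`.
-/

set_option autoImplicit false

universe u

namespace Cfsg.Agent.Lib.Helper88.TPFXTYPE

open Cfsg.Agent.Lib.Helper44.TPStmt

theorem main (hTop : Top.{u}) (hFix : FixND.{u}) (hPerp : Perp.{u}) (hHalf : HalfOdd.{u})
    (hTE : TypeEven.{u}) (hCancel : Cancel.{u}) : FxType.{u} := by
  intro F _ _ p _ _ d r _ hr2 hrp x hx hxr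
  have hND : NDeg d F (Fx (x : Matrix (J d) (J d) F)) := hFix F p d r hrp x hx hxr
  obtain ⟨E, horth, hEND, hinf, hdim, hstab⟩ := hPerp F d (Fx (x : Matrix (J d) (J d) F)) hND
  have hStabFx : Stab (x : Matrix (J d) (J d) F) (Fx (x : Matrix (J d) (J d) F)) := by
    rintro _ ⟨v, hv, rfl⟩
    have hv' : Matrix.toLin' (x : Matrix (J d) (J d) F) v = v := by
      have h1 := LinearMap.mem_ker.mp (show v ∈ LinearMap.ker
        (Matrix.toLin' (x : Matrix (J d) (J d) F) - LinearMap.id) from hv)
      rw [LinearMap.sub_apply, LinearMap.id_apply, sub_eq_zero] at h1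
      exact h1
    rw [hv']
    exact hv
  have hStabE : Stab (x : Matrix (J d) (J d) F) E := hstab x hx hStabFx
  have hEinf : E ⊓ Fx (x : Matrix (J d) (J d) F) = ⊥ := by rw [inf_comm]; exact hinf
  have hsup : Fx (x : Matrix (J d) (J d) F) ⊔ E = ⊤ := by
    apply Submodule.eq_top_of_finrank_eq
    have h1 := Submodule.finrank_sup_add_finrank_inf_eq (Fx (x : Matrix (J d) (J d) F)) E
    rw [hinf, finrank_bot, add_zero] at h1
    rw [h1, hdim]
    simp [J]
    ring
  have hPlusTop : Plus d F ⊤ := (hTop F d).2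
  have hfinE : Module.finrank F ↥E =
      2 * d - Module.finrank F ↥(Fx (x : Matrix (J d) (J d) F)) := by omega
  have horth' : ∀ u ∈ E, ∀ v ∈ Fx (x : Matrix (J d) (J d) F),
      QuadraticMap.polar (Cfsg.quadFormPlus d F) u v = 0 := fun u hu v hv => by
    rw [QuadraticMap.polar_comm]; exact horth v hv u hu
  have key : Plus d F E → Plus d F (Fx (x : Matrix (J d) (J d) F)) := fun hE =>
    hCancel F d E (Fx (x : Matrix (J d) (J d) F)) hEND hND horth'
      (by rw [sup_comm, hsup]; exact hPlusTop) hE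
  have key' : Plus d F (Fx (x : Matrix (J d) (J d) F)) → Plus d F E := fun hFx' =>
    hCancel F d (Fx (x : Matrix (J d) (J d) F)) E hND hEND horth
      (by rw [hsup]; exact hPlusTop) hFx'
  have hodd : Odd (orderOf ((Fintype.card F : ℕ) : ZMod r)) →
      Plus d F (Fx (x : Matrix (J d) (J d) F)) := fun hi => by
    obtain ⟨U, hUE, _, hUts, hUdim⟩ := hHalf F p d r hr2 hrp hi x hx hxr E hStabE hEND hEinf
    exact key ⟨U, hUE, hUts, hUdim⟩
  constructor
  · intro hP
    by_cases hi : Odd (orderOf ((Fintype.card F : ℕ) : ZMod r))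
    · exact Or.inl hi
    · right
      rw [Nat.not_odd_iff_even] at hi
      have h2 := (hTE F p d r hr2 hrp hi x hx hxr E hStabE hEND hEinf).1 (key' hP)
      rwa [hfinE] at h2
  · rintro (hi | he)
    · exact hodd hi
    · by_cases hi : Odd (orderOf ((Fintype.card F : ℕ) : ZMod r))
      · exact hodd hi
      · rw [Nat.not_odd_iff_even] at hi
        apply key
        apply (hTE F p d r hr2 hrp hi x hx hxr E hStabE hEND hEinf).2
        rwa [hfinE]

end Cfsg.Agent.Lib.Helper88.TPFXTYPE
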