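import Cfsg.Agent.Lib.Helper88.VFStmt
import Cfsg.Agent.Lib.Helper88.FSBase

set_option autoImplicit false

namespace Cfsg.Agent.Lib.Helper88.VFCFWD

open Cfsg Cfsg.Agent.Lib.Helper88.VFDefs Cfsg.Agent.Lib.Helper88.VFStmt

universe u

theorem lam_inj {Ω : Type u} [Group Ω] (S : Subgroup Ω) : Function.Injective (lam S) := by
  intro a b h
  have h1 := congrArg (fun f : Equiv.Perm S => f 1) h
  simpa [lam_apply] using h1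

theorem main : CFwdP.{u} := by
  intro Ω _ S F sg hsg R i a hR hCa P hP ψ hψ hψR hreal
  obtain ⟨Pi, φi, hφi⟩ := i
  have hPiS : Pi ≤ S := (F.le_of_mem hφi).1
  have hφiS : ∀ u : Pi, φi u ∈ S := (F.le_of_mem hφi).2
  have hsg' : ∀ u : Pi, sg ⟨Pi, φi, hφi⟩ * lam S ⟨u, hPiS u.2⟩ =
      lam S ⟨φi u, hφiS u⟩ * sg ⟨Pi, φi, hφi⟩ := fun u => hsg ⟨Pi, φi, hφi⟩ u
  have step1 : ∀ x : P, ∃ hx : (x : Ω) ∈ Pi,
      a * lam S ⟨φi ⟨x, hx⟩, hφiS _⟩ = lam S ⟨ψ x, hψ x⟩ * a := by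
    intro x
    obtain ⟨s, hs, hse⟩ := hR _ (hψR x)
    rw [SetLike.mem_coe, Subgroup.mem_subgroupOf] at hs
    obtain ⟨u, hu⟩ := hs
    have e1 : lam S s = lam S ⟨φi u, hφiS u⟩ := by
      congr 1
      exact Subtype.ext hu.symm
    have e2 : a * lam S ⟨φi u, hφiS u⟩ = lam S ⟨ψ x, hψ x⟩ * a := by
      rw [← e1, hse]
      group
    have e3 : lam S ⟨x, hP x.2⟩ = lam S ⟨u, hPiS u.2⟩ := by
      have h := hreal x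
      have h3 : a * sg ⟨Pi, φi, hφi⟩ * lam S ⟨x, hP x.2⟩ =
          a * sg ⟨Pi, φi, hφi⟩ * lam S ⟨u, hPiS u.2⟩ := by
        rw [h, ← mul_assoc, ← e2, mul_assoc, mul_assoc, hsg' u]
      exact mul_left_cancel h3
    have e4 : (⟨x, hP x.2⟩ : S) = ⟨u, hPiS u.2⟩ := lam_inj S e3
    have e5 : (x : Ω) = (u : Ω) := congrArg Subtype.val e4
    have hx : (x : Ω) ∈ Pi := e5 ▸ u.2
    refine ⟨hx, ?_⟩
    have e6 : (⟨x, hx⟩ : Pi) = u := Subtype.ext e5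
    rw [e6]
    exact e2
  choose hxPi hstep using step1
  have hPPi : P ≤ Pi := fun x hx => hxPi ⟨x, hx⟩
  obtain ⟨ρ, hρ, hρx⟩ : ∃ ρ : P →* Ω, ρ ∈ F.Hom P ∧ ∀ x : P, ρ x = φi ⟨x, hxPi x⟩ :=
    ⟨_, FSBase.restrict_mem F hPPi hφi, fun x => rfl⟩
  obtain ⟨χ, hχ, hχx⟩ := F.inv_mem hρ
  have hχP : ∀ y : ρ.range, χ y ∈ P := by
    rintro ⟨_, x, rfl⟩
    rw [hχx x]
    exact x.2
  have hρS : ρ.range ≤ S := (F.le_of_mem hχ).1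
  have hψ'x : ∀ x : P, (ψ.comp (χ.codRestrict P hχP)) ⟨ρ x, ⟨x, rfl⟩⟩ = ψ x := by
    intro x
    show ψ ⟨χ ⟨ρ x, ⟨x, rfl⟩⟩, _⟩ = ψ x
    congr 1
    exact Subtype.ext (hχx x)
  have hψ'S : ∀ y : ρ.range, (ψ.comp (χ.codRestrict P hχP)) y ∈ S := by
    rintro ⟨_, x, rfl⟩
    rw [hψ'x]
    exact hψ x
  have hψ'F : (ψ.comp (χ.codRestrict P hχP)) ∈ F.Hom ρ.range := by
    refine hCa ρ.range hρS _ hψ'S ?_ ?_
    · rintro ⟨_, x, rfl⟩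
      have e : (⟨(ψ.comp (χ.codRestrict P hχP)) ⟨ρ x, ⟨x, rfl⟩⟩, hψ'S _⟩ : S) = ⟨ψ x, hψ x⟩ :=
        Subtype.ext (hψ'x x)
      rw [e]
      exact hψR x
    · rintro ⟨_, x, rfl⟩
      have e : (⟨(ψ.comp (χ.codRestrict P hχP)) ⟨ρ x, ⟨x, rfl⟩⟩, hψ'S _⟩ : S) = ⟨ψ x, hψ x⟩ :=
        Subtype.ext (hψ'x x)
      rw [e, ← hstep x]
      congr 2
      exact Subtype.ext (hρx x)
  have hcomp := F.comp_mem hρ hψ'F (fun x => ⟨x, rfl⟩)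
  have e : (ψ.comp (χ.codRestrict P hχP)).comp (ρ.codRestrict ρ.range (fun x => ⟨x, rfl⟩)) = ψ := by
    ext x
    exact hψ'x x
  rwa [e] at hcomp

end Cfsg.Agent.Lib.Helper88.VFCFWD
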