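import Mathlib
import Cfsg.Prelude.Def_FusionSystem
import Cfsg.Agent.Lib.Helper88.AbEss
import Cfsg.Agent.H84.FusZ2
import Cfsg.Agent.S5087

/-!
# A central subgroup split by an involutive action

`ZD C D β Q`: the automorphism `β` inverts `D`, centralizes `Q`, and `C = D Q`.  For `D` of odd
prime exponent the subgroup `Q` is determined by `β` up to automorphisms of `p'`-order acting
trivially (`zd_unique`).  In a saturated fusion system with trivial core this forces a central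
subgroup `Z` with the properties of `center_le_of_ess` to be contained in `D`.
-/

set_option autoImplicit false

namespace Cfsg.Agent.Lib.Helper88.ZData

open Cfsg Cfsg.FusionSystem

section abs

variable {G : Type*} [Group G]

/-- `β` inverts `D` and fixes the complement `Q` to it in `C`. -/
def ZD (C D : Subgroup G) (β : MulAut G) (Q : Subgroup G) : Prop :=
  Q ≤ C ∧ (∀ s ∈ D, β s = s⁻¹) ∧ (∀ c ∈ Q, β c = c) ∧ ∀ z ∈ C, ∃ s ∈ D, ∃ c ∈ Q, z = s * c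

theorem zd_unique {p : ℕ} [Fact p.Prime] (hp2 : p ≠ 2) (C D : Subgroup G)
    (hCab : ∀ a ∈ C, ∀ b ∈ C, a * b = b * a) (hDC : D ≤ C)
    (hD : ∀ s ∈ D, s ^ p = 1)
    {β₁ β₂ : MulAut G} {Q₁ Q₂ : Subgroup G} (h₁ : ZD C D β₁ Q₁) (h₂ : ZD C D β₂ Q₂)
    (hm : ∃ m : ℕ, m.Coprime p ∧ ∀ z ∈ C, ((β₂⁻¹ * β₁) ^ m) z = z) :
    Q₁ ≤ Q₂ := by
  have hp : p.Prime := Fact.out
  obtain ⟨hQ1, hi1, hf1, hd1⟩ := h₁
  obtain ⟨hQ2, hi2, hf2, hd2⟩ := h₂
  have ha : ∀ (β : MulAut G) (Q : Subgroup G), Q ≤ C →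
      (∀ s ∈ D, β s = s⁻¹) → (∀ c ∈ Q, β c = c) →
      (∀ z ∈ C, ∃ s ∈ D, ∃ c ∈ Q, z = s * c) →
      ∀ z ∈ C, z⁻¹ * β z ∈ D := by
    intro β Q hQ hi hf hd z hz
    obtain ⟨s, hs, c, hc, rfl⟩ := hd z hz
    have hcc : s⁻¹ * s⁻¹ * c = c * (s⁻¹ * s⁻¹) :=
      hCab _ (C.mul_mem (C.inv_mem (hDC hs)) (C.inv_mem (hDC hs))) c (hQ hc)
    rw [map_mul, hi s hs, hf c hc]
    have e : (s * c)⁻¹ * (s⁻¹ * c) = s⁻¹ * s⁻¹ := by
      calc (s * c)⁻¹ * (s⁻¹ * c) = c⁻¹ * (s⁻¹ * s⁻¹ * c) := by group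
        _ = c⁻¹ * (c * (s⁻¹ * s⁻¹)) := by rw [hcc]
        _ = s⁻¹ * s⁻¹ := by group
    rw [e]
    exact Subgroup.mul_mem _ (Subgroup.inv_mem _ hs) (Subgroup.inv_mem _ hs)
  have hb : ∀ s ∈ D, β₂⁻¹ s = s⁻¹ := by
    intro s hs
    have := hi2 s⁻¹ (Subgroup.inv_mem _ hs)
    rw [inv_inv] at this
    calc β₂⁻¹ s = β₂⁻¹ (β₂ s⁻¹) := by rw [this]
      _ = s⁻¹ := MulAut.inv_apply_self _ _ _
  have hc : ∀ s ∈ D, (β₂⁻¹ * β₁) s = s := by
    intro s hs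
    rw [MulAut.mul_apply, hi1 s hs, map_inv, hb s hs, inv_inv]
  have hd : ∀ z ∈ C, z⁻¹ * (β₂⁻¹ * β₁) z ∈ D := by
    intro z hz
    have h1 := ha β₁ Q₁ hQ1 hi1 hf1 hd1 z hz
    have h2 := ha β₂ Q₂ hQ2 hi2 hf2 hd2 z hz
    have e1 : β₁ z = z * (z⁻¹ * β₁ z) := by group
    have e2 : β₂⁻¹ z = z * (z⁻¹ * β₂ z) := by
      have : β₂ (z * (z⁻¹ * β₂ z)) = z := by
        rw [map_mul, hi2 _ h2]; group
      calc β₂⁻¹ z = β₂⁻¹ (β₂ (z * (z⁻¹ * β₂ z))) := by rw [this]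
        _ = z * (z⁻¹ * β₂ z) := MulAut.inv_apply_self _ _ _
    rw [MulAut.mul_apply, e1, map_mul, hb _ h1, e2]
    have e3 : z⁻¹ * (z * (z⁻¹ * β₂ z) * (z⁻¹ * β₁ z)⁻¹) = (z⁻¹ * β₂ z) * (z⁻¹ * β₁ z)⁻¹ := by
      group
    rw [e3]
    exact Subgroup.mul_mem _ h2 (Subgroup.inv_mem _ h1)
  have hfixZ : ∀ z ∈ C, (β₂⁻¹ * β₁) z = z := by
    intro z hz
    obtain ⟨m, hm, hmz⟩ := hm
    have h1 : (β₂⁻¹ * β₁) ^ p ∈ MulAction.stabilizer (MulAut G) z := by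
      rw [MulAction.mem_stabilizer_iff, MulAut.smul_def]
      have e1 : (β₂⁻¹ * β₁) z = z * (z⁻¹ * (β₂⁻¹ * β₁) z) := by group
      rw [Cfsg.Agent.H84.Transv.pow_apply_of_fix' _ z _ e1 (hc _ (hd z hz)), hD _ (hd z hz),
        mul_one]
    have h2 : (β₂⁻¹ * β₁) ^ m ∈ MulAction.stabilizer (MulAut G) z := by
      rw [MulAction.mem_stabilizer_iff, MulAut.smul_def]
      exact hmz z hz
    have h3 := Cfsg.Agent.H84.FusZ.mem_of_pow_mem_coprime _ _ hm h2 h1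
    rwa [MulAction.mem_stabilizer_iff, MulAut.smul_def] at h3
  intro c hcQ
  have hcz := hQ1 hcQ
  have h1 : β₂ c = c := by
    have := hfixZ c hcz
    rw [MulAut.mul_apply, hf1 c hcQ] at this
    rw [← this, MulAut.apply_inv_self, this]
  obtain ⟨s, hs, c', hc', rfl⟩ := hd2 c hcz
  rw [map_mul, hi2 s hs, hf2 c' hc'] at h1
  have h2 : s⁻¹ = s := mul_right_cancel h1
  have h3 : s ^ 2 = 1 := by
    rw [pow_two]
    nth_rewrite 1 [← h2]
    exact inv_mul_cancel s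
  have h4 : s ^ Nat.gcd 2 p = 1 := pow_gcd_eq_one.mpr ⟨h3, hD s hs⟩
  have h5 : Nat.gcd 2 p = 1 := (Nat.coprime_primes Nat.prime_two hp).mpr (Ne.symm hp2)
  rw [h5, pow_one] at h4
  rw [h4, one_mul]
  exact hc'

theorem zd_conj {C D : Subgroup G} (α : MulAut G)
    (hC : ∀ z ∈ C, α⁻¹ z ∈ C) (hC' : ∀ z ∈ C, α z ∈ C)
    (hD : ∀ z ∈ D, α⁻¹ z ∈ D) (hD' : ∀ z ∈ D, α z ∈ D)
    {β : MulAut G} {Q : Subgroup G} (h : ZD C D β Q) :
    ZD C D (α * β * α⁻¹) (Q.map α.toMonoidHom) := by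
  obtain ⟨hQ, hi, hf, hd⟩ := h
  refine ⟨?_, ?_, ?_, ?_⟩
  · rintro _ ⟨q, hq, rfl⟩
    exact hC' q (hQ hq)
  · intro s hs
    rw [MulAut.mul_apply, MulAut.mul_apply, hi _ (hD s hs), map_inv, MulAut.apply_inv_self]
  · rintro _ ⟨q, hq, rfl⟩
    show (α * β * α⁻¹) (α q) = α q
    rw [MulAut.mul_apply, MulAut.mul_apply, MulAut.inv_apply_self, hf q hq]
  · intro z hz
    obtain ⟨s, hs, c, hc, e⟩ := hd _ (hC z hz)
    refine ⟨α s, hD' s hs, α c, ⟨c, hc, rfl⟩, ?_⟩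
    rw [← map_mul, ← e, MulAut.apply_inv_self]

end abs

section fusion

variable {Ω : Type*} [Group Ω] {S : Subgroup Ω} [Finite S] {p : ℕ} [Fact p.Prime]

/-- The automorphism of `S` attached to an abelian essential subgroup `P` and an element `γ` of
`Aut_F(P)` not normalizing `Aut_S(P)`: it inverts `D` and centralizes `Z ∩ γ(Z)`. -/
theorem exists_zd (hS : IsPGroup p S) (F : FusionSystem S) (hF : F.IsSaturated p)
    {P : Subgroup Ω} (hE : F.IsEssential p P) (hPab : ∀ a ∈ P, ∀ b ∈ P, a * b = b * a)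
    (Z : Subgroup Ω) (hZP : Z ≤ P) (hZidx : (Z.subgroupOf P).index = p)
    (hZc : ∀ s ∈ S, ∀ z ∈ Z, s * z * s⁻¹ = z)
    (hZ : ∀ β ∈ F.autGroup S, ∀ z : S, (z : Ω) ∈ Z → ((β z : S) : Ω) ∈ Z) (m₀ : ℕ)
    (hess : ∀ E : Subgroup Ω, F.IsEssential p E → m₀ < Nat.card E →
      Z ≤ E ∧ ∀ α ∈ F.autGroup E, ∀ z : E, (z : Ω) ∈ Z → ((α z : E) : Ω) ∈ Z)
    (hN : m₀ < Nat.card (normalizerIn S P))
    (D : Subgroup Ω) (hDcard : Nat.card D = p) (hDZ : D ≤ Z)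
    (hD : ∀ s ∈ S, ∀ y ∈ P, s * y * s⁻¹ ∈ P → y⁻¹ * (s * y * s⁻¹) ∈ D)
    (hTcard : Nat.card (autInducedBy S P) = p)
    {γ : MulAut P} (hγ : γ ∈ F.autGroup P)
    (hγT : ∃ τ₁ ∈ autInducedBy S P, γ * τ₁ * γ⁻¹ ∉ autInducedBy S P) :
    ∃ β ∈ F.autGroup S, ∃ Q : Subgroup Ω, Q ≤ Z ∧
      ZD (Z.subgroupOf S) (D.subgroupOf S) β (Q.subgroupOf S) ∧
      ∀ z : P, (z : Ω) ∈ Q ↔ ((z : Ω) ∈ Z ∧ ((γ⁻¹ z : P) : Ω) ∈ Z) := by
  have hPS : P ≤ S := hE.1.1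
  have hfn := hE.2.1
  obtain ⟨h, hh, hhT, hinv, hfix, hdec⟩ := Cfsg.Agent.Lib.Helper88.AbEss.exists_h hS F hF hE hPab Z
    hZidx hZc D hDcard hDZ (hDZ.trans hZP) hD hTcard hγ hγT
  obtain ⟨β, hβ, hβh⟩ := Cfsg.Agent.Lib.Helper88.AbEss.exists_beta_of_h hS F hF hfn Z hZc hZ m₀
    hess hN hh hhT
  obtain ⟨Q, hQdef⟩ : ∃ Q : Subgroup Ω,
      Q = (Z.subgroupOf P ⊓ (Z.subgroupOf P).map γ.toMonoidHom).map P.subtype := ⟨_, rfl⟩
  have hQmem : ∀ z : P, (z : Ω) ∈ Q ↔ ((z : Ω) ∈ Z ∧ ((γ⁻¹ z : P) : Ω) ∈ Z) := by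
    intro z
    rw [hQdef]
    constructor
    · rintro ⟨w, ⟨hw1, z', hz', hγz'⟩, hwz⟩
      have e : w = z := Subtype.ext hwz
      rw [← e]
      refine ⟨Subgroup.mem_subgroupOf.mp hw1, ?_⟩
      have e2 : γ⁻¹ w = z' := by
        rw [← hγz']
        show γ⁻¹ (γ z') = z'
        exact MulAut.inv_apply_self _ γ z'
      rw [e2]
      exact Subgroup.mem_subgroupOf.mp hz'
    · rintro ⟨hz, hγz⟩
      exact ⟨z, ⟨Subgroup.mem_subgroupOf.mpr hz, γ⁻¹ z, Subgroup.mem_subgroupOf.mpr hγz,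
        MulAut.apply_inv_self _ γ z⟩, rfl⟩
  have hQP : Q ≤ P := by
    rw [hQdef]
    rintro _ ⟨w, -, rfl⟩
    exact w.2
  have hQZ : Q ≤ Z := fun x hx => ((hQmem ⟨x, hQP hx⟩).mp hx).1
  refine ⟨β, hβ, Q, hQZ, ⟨?_, ?_, ?_, ?_⟩, hQmem⟩
  · intro x hx
    exact Subgroup.mem_subgroupOf.mpr (hQZ (Subgroup.mem_subgroupOf.mp hx))
  · intro s hs
    have hsD : (s : Ω) ∈ D := Subgroup.mem_subgroupOf.mp hs
    have hsP : (s : Ω) ∈ P := hZP (hDZ hsD)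
    have h1 := hinv ⟨s, hsP⟩ hsD
    have h2 := hβh ⟨s, hsP⟩ (hDZ hsD)
    have h3 : (⟨((⟨(s : Ω), hsP⟩ : P) : Ω), hfn.1 hsP⟩ : S) = s := Subtype.ext rfl
    rw [h3] at h2
    apply Subtype.ext
    rw [← h2, h1]
    rfl
  · intro c hc
    have hcQ : (c : Ω) ∈ Q := Subgroup.mem_subgroupOf.mp hc
    have hcP : (c : Ω) ∈ P := hQP hcQ
    obtain ⟨hcZ, hγc⟩ := (hQmem ⟨c, hcP⟩).mp hcQ
    have h1 := hfix ⟨c, hcP⟩ hcZ hγc
    have h2 := hβh ⟨c, hcP⟩ hcZ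
    have h3 : (⟨((⟨(c : Ω), hcP⟩ : P) : Ω), hfn.1 hcP⟩ : S) = c := Subtype.ext rfl
    rw [h3] at h2
    apply Subtype.ext
    rw [← h2, h1]
  · intro z hz
    have hzZ : (z : Ω) ∈ Z := Subgroup.mem_subgroupOf.mp hz
    obtain ⟨d, w, hd, hw, hγw, e⟩ := hdec ⟨z, hZP hzZ⟩ hzZ
    refine ⟨⟨d, hPS d.2⟩, Subgroup.mem_subgroupOf.mpr hd, ⟨w, hPS w.2⟩,
      Subgroup.mem_subgroupOf.mpr ((hQmem w).mpr ⟨hw, hγw⟩), ?_⟩
    apply Subtype.ext
    have h1 := congrArg Subtype.val e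
    exact h1

/-- A central, `Aut_F(S)`-invariant subgroup `Z` of `S` is contained in `D` when the core of `F`
is trivial and every essential subgroup either is large with `Z` invariant under its automizer, or
is abelian with `Z` of index `p`, commutators with its normalizer in `D`, and `|Aut_S| = p`. -/
theorem center_le_of_ess (hp2 : p ≠ 2) (hS : IsPGroup p S) (F : FusionSystem S)
    (hF : F.IsSaturated p) (hcore : F.core = ⊥)
    (Z : Subgroup Ω) (hZS : Z ≤ S) (hZc : ∀ s ∈ S, ∀ z ∈ Z, s * z * s⁻¹ = z)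
    (hZ : ∀ β ∈ F.autGroup S, ∀ z : S, (z : Ω) ∈ Z → ((β z : S) : Ω) ∈ Z)
    (D : Subgroup Ω) (hDcard : Nat.card D = p) (hDZ : D ≤ Z)
    (hDchar : ∀ β ∈ F.autGroup S, ∀ z : S, (z : Ω) ∈ D → ((β z : S) : Ω) ∈ D)
    (m₀ : ℕ)
    (hess : ∀ E : Subgroup Ω, F.IsEssential p E →
      (m₀ < Nat.card E ∧ Z ≤ E ∧
        ∀ α ∈ F.autGroup E, ∀ z : E, (z : Ω) ∈ Z → ((α z : E) : Ω) ∈ Z) ∨
      (Nat.card E ≤ m₀ ∧ m₀ < Nat.card (normalizerIn S E) ∧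
        (∀ a ∈ E, ∀ b ∈ E, a * b = b * a) ∧ Z ≤ E ∧ (Z.subgroupOf E).index = p ∧
        (∀ s ∈ S, ∀ y ∈ E, s * y * s⁻¹ ∈ E → y⁻¹ * (s * y * s⁻¹) ∈ D) ∧
        Nat.card (autInducedBy S E) = p)) :
    Z ≤ D := by
  have hp : p.Prime := Fact.out
  have hess' : ∀ E : Subgroup Ω, F.IsEssential p E → m₀ < Nat.card E →
      Z ≤ E ∧ ∀ α ∈ F.autGroup E, ∀ z : E, (z : Ω) ∈ Z → ((α z : E) : Ω) ∈ Z := by
    intro E hE hm
    rcases hess E hE with h | h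
    · exact h.2
    · exact absurd hm (not_lt.mpr h.1)
  have hcomm : ∀ g ∈ S, ∀ z ∈ Z, g * z = z * g := by
    intro g hg z hz
    have := hZc g hg z hz
    calc g * z = g * z * g⁻¹ * g := by group
      _ = z * g := by rw [this]
  have hCab : ∀ a ∈ Z.subgroupOf S, ∀ b ∈ Z.subgroupOf S, a * b = b * a := by
    intro a _ b hb
    apply Subtype.ext
    exact hcomm a a.2 b (Subgroup.mem_subgroupOf.mp hb)
  have hDC : D.subgroupOf S ≤ Z.subgroupOf S := fun x hx =>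
    Subgroup.mem_subgroupOf.mpr (hDZ (Subgroup.mem_subgroupOf.mp hx))
  have hDexp : ∀ s ∈ D.subgroupOf S, s ^ p = 1 := by
    intro s hs
    have := pow_card_eq_one' (G := D) (x := ⟨s, Subgroup.mem_subgroupOf.mp hs⟩)
    rw [hDcard] at this
    have h1 := congrArg Subtype.val this
    rw [Subgroup.coe_pow, Subgroup.coe_one] at h1
    apply Subtype.ext
    rw [Subgroup.coe_pow, Subgroup.coe_one]
    exact h1
  have hcen : ∀ z : S, (z : Ω) ∈ Z → z ∈ Subgroup.center ↥S := by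
    intro z hz
    rw [Subgroup.mem_center_iff]
    intro g
    apply Subtype.ext
    exact hcomm g g.2 z hz
  by_cases hex : ∃ P₁ : Subgroup Ω, F.IsEssential p P₁ ∧ Nat.card P₁ ≤ m₀
  · obtain ⟨P₁, hE₁, hP₁m⟩ := hex
    rcases hess P₁ hE₁ with h | ⟨-, hN₁, hab₁, hZP₁, hidx₁, hD₁, hT₁⟩
    · exact absurd h.1 (not_lt.mpr hP₁m)
    obtain ⟨g₁, hg₁, τ₁, hτ₁, hgτ₁⟩ := Cfsg.Agent.H84.FusZ.ess_not_normal hS F hF hE₁
    obtain ⟨β₁, hβ₁, W, hWZ, hzd₁, -⟩ := exists_zd hS F hF hE₁ hab₁ Z hZP₁ hidx₁ hZc hZ m₀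
      hess' hN₁ D hDcard hDZ hD₁ hT₁ hg₁ ⟨τ₁, hτ₁, hgτ₁⟩
    have huniq : ∀ β ∈ F.autGroup S, ∀ Q : Subgroup S,
        ZD (Z.subgroupOf S) (D.subgroupOf S) β Q → Q ≤ W.subgroupOf S ∧ W.subgroupOf S ≤ Q := by
      intro β hβ Q hQ
      have hm1 : ∃ m : ℕ, m.Coprime p ∧ ∀ z ∈ Z.subgroupOf S, ((β₁⁻¹ * β) ^ m) z = z := by
        obtain ⟨m, hm, hinn⟩ := Cfsg.Agent.H84.FusZ.exists_pow_inner F hF
          (Subgroup.mul_mem _ (Subgroup.inv_mem _ hβ₁) hβ)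
        exact ⟨m, hm, fun z hz =>
          Cfsg.Agent.H84.FusZ.inner_fix hinn z (hcen z (Subgroup.mem_subgroupOf.mp hz))⟩
      have hm2 : ∃ m : ℕ, m.Coprime p ∧ ∀ z ∈ Z.subgroupOf S, ((β⁻¹ * β₁) ^ m) z = z := by
        obtain ⟨m, hm, hinn⟩ := Cfsg.Agent.H84.FusZ.exists_pow_inner F hF
          (Subgroup.mul_mem _ (Subgroup.inv_mem _ hβ) hβ₁)
        exact ⟨m, hm, fun z hz =>
          Cfsg.Agent.H84.FusZ.inner_fix hinn z (hcen z (Subgroup.mem_subgroupOf.mp hz))⟩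
      exact ⟨zd_unique hp2 _ _ hCab hDC hDexp hQ hzd₁ hm1,
        zd_unique hp2 _ _ hCab hDC hDexp hzd₁ hQ hm2⟩
    have hinvS : ∀ α ∈ F.autGroup S, ∀ x : S, (x : Ω) ∈ W → ((α x : S) : Ω) ∈ W := by
      intro α hα x hx
      have hα' := Subgroup.inv_mem _ hα
      have h1 := zd_conj (C := Z.subgroupOf S) (D := D.subgroupOf S) α
        (fun z hz => Subgroup.mem_subgroupOf.mpr (hZ α⁻¹ hα' z (Subgroup.mem_subgroupOf.mp hz)))
        (fun z hz => Subgroup.mem_subgroupOf.mpr (hZ α hα z (Subgroup.mem_subgroupOf.mp hz)))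
        (fun z hz => Subgroup.mem_subgroupOf.mpr (hDchar α⁻¹ hα' z (Subgroup.mem_subgroupOf.mp hz)))
        (fun z hz => Subgroup.mem_subgroupOf.mpr (hDchar α hα z (Subgroup.mem_subgroupOf.mp hz)))
        hzd₁
      have h2 := (huniq _ (Subgroup.mul_mem _ (Subgroup.mul_mem _ hα hβ₁) hα') _ h1).1
      exact Subgroup.mem_subgroupOf.mp (h2 ⟨x, Subgroup.mem_subgroupOf.mpr hx, rfl⟩)
    have hWS : W ≤ S := hWZ.trans hZS
    have hnormal : F.IsNormal W := by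
      rw [Cfsg.Agent.S5087.result p hS F hF]
      intro P hP
      rcases hP with hPeq | hE
      · rw [hPeq]
        refine ⟨hWS, fun α hα => Cfsg.Agent.H84.map_eq_of_forall_mem (F.autGroup S) _ ?_ α hα⟩
        intro α hα x hx
        exact Subgroup.mem_subgroupOf.mpr (hinvS α hα x (Subgroup.mem_subgroupOf.mp hx))
      · have hPS : P ≤ S := hE.1.1
        rcases hess P hE with ⟨hm, hZP, hZα⟩ | ⟨hPm, hN, hab, hZP, hidx, hD, hT⟩
        · refine ⟨hWZ.trans hZP, fun α hα =>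
            Cfsg.Agent.H84.map_eq_of_forall_mem (F.autGroup P) _ ?_ α hα⟩
          intro α hα x hx
          have hxW : (x : Ω) ∈ W := Subgroup.mem_subgroupOf.mp hx
          have hφ : P.subtype.comp α.toMonoidHom ∈ F.Hom P :=
            (Cfsg.Agent.H84.mem_autGroup_iff F hPS α).mp hα
          obtain ⟨β, hβ, hβφ⟩ := Cfsg.Agent.Lib.Helper88.ZControl.zcontrol hS F hF Z hZc hZ m₀
            hess' hφ hm
          have h1 := hβφ x (hPS x.2) (Or.inl (hWZ hxW))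
          have h2 : ((α x : P) : Ω) = ((β ⟨x, hPS x.2⟩ : S) : Ω) := h1
          rw [Subgroup.mem_subgroupOf, h2]
          exact hinvS β hβ ⟨x, hPS x.2⟩ hxW
        · refine ⟨hWZ.trans hZP, fun α hα =>
            Cfsg.Agent.H84.map_eq_of_forall_mem (F.autGroup P) _ ?_ α hα⟩
          intro α hα x hx
          have hxW : (x : Ω) ∈ W := Subgroup.mem_subgroupOf.mp hx
          rw [Subgroup.mem_subgroupOf]
          have hfn := hE.2.1
          by_cases h1 : ∀ τ ∈ autInducedBy S P, α * τ * α⁻¹ ∈ autInducedBy S P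
          · obtain ⟨β, hβ, hβα⟩ := Cfsg.Agent.Lib.Helper88.AbEss.exists_beta_of_h hS F hF hfn Z
              hZc hZ m₀ hess' hN hα h1
            rw [hβα x (hWZ hxW)]
            exact hinvS β hβ _ hxW
          · by_cases h2 : ∀ τ ∈ autInducedBy S P, α⁻¹ * τ * α⁻¹⁻¹ ∈ autInducedBy S P
            · obtain ⟨β, hβ, hβα⟩ := Cfsg.Agent.Lib.Helper88.AbEss.exists_beta_of_h hS F hF hfn Z
                hZc hZ m₀ hess' hN (Subgroup.inv_mem _ hα) h2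
              have hy := hinvS β⁻¹ (Subgroup.inv_mem _ hβ) ⟨x, hPS x.2⟩ hxW
              have hyP : ((β⁻¹ ⟨x, hPS x.2⟩ : S) : Ω) ∈ P := hZP (hWZ hy)
              have h3 := hβα ⟨_, hyP⟩ (hWZ hy)
              have h4 : (⟨((⟨((β⁻¹ ⟨x, hPS x.2⟩ : S) : Ω), hyP⟩ : P) : Ω), hfn.1 hyP⟩ : S) =
                  β⁻¹ ⟨x, hPS x.2⟩ := Subtype.ext rfl
              rw [h4, MulAut.apply_inv_self] at h3
              have h5 : α⁻¹ ⟨_, hyP⟩ = x := Subtype.ext h3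
              have h6 : α x = ⟨_, hyP⟩ := by
                have h7 := congrArg α h5
                rw [MulAut.apply_inv_self] at h7
                exact h7.symm
              rw [h6]
              exact hy
            · have hγ1 : ∃ τ₁ ∈ autInducedBy S P, α * τ₁ * α⁻¹ ∉ autInducedBy S P := by
                by_contra hc
                exact h1 fun τ hτ => by_contra fun hn => hc ⟨τ, hτ, hn⟩
              have hγ2 : ∃ τ₁ ∈ autInducedBy S P, α⁻¹ * τ₁ * α⁻¹⁻¹ ∉ autInducedBy S P := by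
                by_contra hc
                exact h2 fun τ hτ => by_contra fun hn => hc ⟨τ, hτ, hn⟩
              obtain ⟨β₂, hβ₂, Q₂, -, hzd₂, hQ₂mem⟩ := exists_zd hS F hF hE hab Z hZP hidx hZc hZ
                m₀ hess' hN D hDcard hDZ hD hT hα hγ1
              obtain ⟨β₃, hβ₃, Q₃, -, hzd₃, hQ₃mem⟩ := exists_zd hS F hF hE hab Z hZP hidx hZc hZ
                m₀ hess' hN D hDcard hDZ hD hT (Subgroup.inv_mem _ hα) hγ2
              have e2 := huniq β₂ hβ₂ _ hzd₂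
              have e3 := huniq β₃ hβ₃ _ hzd₃
              have hx3 : (x : Ω) ∈ Q₃ := Subgroup.mem_subgroupOf.mp
                (e3.2 (show (⟨x, hPS x.2⟩ : S) ∈ W.subgroupOf S from
                  Subgroup.mem_subgroupOf.mpr hxW))
              obtain ⟨f1, f2⟩ := (hQ₃mem x).mp hx3
              rw [inv_inv] at f2
              have hαx : ((α x : P) : Ω) ∈ Q₂ := (hQ₂mem (α x)).mpr
                ⟨f2, by rw [MulAut.inv_apply_self]; exact f1⟩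
              exact Subgroup.mem_subgroupOf.mp
                (e2.1 (show (⟨α x, hPS (α x).2⟩ : S) ∈ Q₂.subgroupOf S from
                  Subgroup.mem_subgroupOf.mpr hαx))
    have hbot : W = ⊥ := by
      rw [← le_bot_iff, ← hcore]
      exact le_sSup hnormal
    intro z hz
    obtain ⟨s, hs, c, hc, e⟩ := hzd₁.2.2.2 ⟨z, hZS hz⟩ (Subgroup.mem_subgroupOf.mpr hz)
    rw [Subgroup.mem_subgroupOf, hbot, Subgroup.mem_bot] at hc
    have hc1 : c = 1 := Subtype.ext hc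
    rw [hc1, mul_one] at e
    have hsD : (s : Ω) ∈ D := Subgroup.mem_subgroupOf.mp hs
    rw [← e] at hsD
    exact hsD
  · have hnormal : F.IsNormal Z := by
      rw [Cfsg.Agent.S5087.result p hS F hF]
      intro P hP
      rcases hP with hPeq | hE
      · rw [hPeq]
        refine ⟨hZS, fun α hα => Cfsg.Agent.H84.map_eq_of_forall_mem (F.autGroup S) _ ?_ α hα⟩
        intro α hα x hx
        exact Subgroup.mem_subgroupOf.mpr (hZ α hα x (Subgroup.mem_subgroupOf.mp hx))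
      · rcases hess P hE with ⟨hm, hZP, hZα⟩ | h
        · refine ⟨hZP, fun α hα => Cfsg.Agent.H84.map_eq_of_forall_mem (F.autGroup P) _ ?_ α hα⟩
          intro α hα x hx
          exact Subgroup.mem_subgroupOf.mpr (hZα α hα x (Subgroup.mem_subgroupOf.mp hx))
        · exact absurd ⟨P, hE, h.1⟩ hex
    have hbot : Z = ⊥ := by
      rw [← le_bot_iff, ← hcore]
      exact le_sSup hnormal
    rw [hbot]
    exact bot_le

end fusion

end Cfsg.Agent.Lib.Helper88.ZData
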